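import Cfsg.Agent.Screen.BSW.Basic
import Cfsg.Agent.TwoGroups.DihedralFusion
import Cfsg.Agent.Core.Cores

/-!
The setting of Brauer, Suzuki and Wall from a dihedral Sylow subgroup in a simple group.
-/

set_option autoImplicit false
set_option linter.unusedSectionVars false
set_option linter.style.haveILetI false

namespace Cfsg.Agent.Screen.BSW.Dihedral

open Subgroup

variable {G : Type*} [Group G] [Finite G]

theorem not_index_two [IsSimpleGroup G] (h4 : 4 ≤ Nat.card G) (H : Subgroup G) (hH : H.Normal) :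
    H.index ≠ 2 := by
  intro h2
  rcases hH.eq_bot_or_eq_top with e | e
  · rw [e, index_bot] at h2; omega
  · rw [e, index_top] at h2; omega

/-- One class of involutions. -/
theorem isConj_invol [IsSimpleGroup G] {S : Sylow 2 G} {r s : G} {e : ℕ} (hd : TwoGroups.DihIn S r s e)
    {a b : G} (ha : orderOf a = 2) (hb : orderOf b = 2) : IsConj a b := by
  have h4 : 4 ≤ Nat.card G := by
    have h1 := Nat.le_of_dvd Nat.card_pos ((S : Subgroup G).card_subgroup_dvd_card)
    rw [hd.card] at h1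
    have : 2 ^ 2 ≤ 2 ^ (e + 1) := Nat.pow_le_pow_right two_pos (by have := hd.kpos; omega)
    omega
  have hx : ∀ U : Subgroup G, U ≤ S → IsKleinFour U → TwoGroups.Exotic U := by
    intro U hU hU4
    by_contra hne
    obtain ⟨i, rfl⟩ := hd.eq_four hU4 hU
    obtain ⟨H, hHn, hH⟩ := hd.exists_normal_index_two hne
    exact not_index_two h4 H hHn hH
  exact (hd.isConj_all hx ha).trans (hd.isConj_all hx hb).symm

/-- The elements outside a cyclic subgroup of index two of a dihedral Sylow subgroup. -/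
theorem outer {S : Sylow 2 G} {r s : G} {e : ℕ} (hd : TwoGroups.DihIn S r s e) {R : Subgroup G}
    (hR : IsCyclic R) (hRS : R ≤ (S : Subgroup G)) (hidx : R.relIndex (S : Subgroup G) = 2)
    {a : G} (ha : a ∈ (S : Subgroup G)) (haR : a ∉ R) :
    a * a = 1 ∧ ∀ x ∈ R, a * x * a⁻¹ = x⁻¹ := by
  have hRcard : Nat.card R = 2 ^ e := by
    have h1 := card_mul_index (R.subgroupOf (S : Subgroup G))
    rw [Nat.card_congr (subgroupOfEquivOfLe hRS).toEquiv, show (R.subgroupOf (S : Subgroup G)).index = 2 from hidx,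
      hd.card, pow_succ] at h1
    omega
  obtain ⟨g, hg⟩ := hR.exists_generator
  have hgo : orderOf (g : G) = 2 ^ e := by
    rw [Subgroup.orderOf_coe, orderOf_eq_card_of_forall_mem_zpowers hg, hRcard]
  by_cases he : e = 1
  · -- a four group
    subst he
    have hsq : ∀ x ∈ (S : Subgroup G), x * x = 1 := by
      intro x hx
      have hr2 : r * r = 1 := by rw [← pow_two, ← pow_one 2, ← hd.ord, pow_orderOf_eq_one]
      have hrs : s * r * s⁻¹ = r := by rw [hd.conj, inv_eq_of_mul_eq_one_right hr2]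
      rcases hd.exists_eq hx with ⟨i, rfl | rfl⟩
      · rw [← zpow_add, ← two_mul, zpow_mul, zpow_two, hr2, one_zpow]
      · exact hd.refl_sq i
    have hcomm : ∀ x ∈ (S : Subgroup G), ∀ y ∈ (S : Subgroup G), x * y = y * x := fun x hx y hy => by
      calc x * y = (x * y)⁻¹ := (inv_eq_of_mul_eq_one_right (hsq _ (mul_mem hx hy))).symm
        _ = y * x := by rw [mul_inv_rev, inv_eq_of_mul_eq_one_right (hsq y hy), inv_eq_of_mul_eq_one_right (hsq x hx)]
    refine ⟨hsq a ha, fun x hx => ?_⟩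
    rw [hcomm a ha x (hRS hx), mul_inv_cancel_right, inv_eq_of_mul_eq_one_right (hsq x (hRS hx))]
  · have hgr : (g : G) ∈ zpowers r := by
      rcases hd.exists_eq (hRS g.2) with ⟨i, hi | hi⟩
      · exact hi ▸ zpow_mem_zpowers r i
      · exfalso
        rw [hi, hd.orderOf_refl i] at hgo
        have h2 : 2 ^ 2 ≤ 2 ^ e := Nat.pow_le_pow_right two_pos (by have := hd.kpos; omega)
        omega
    have hRr : R = zpowers r := by
      refine eq_of_le_of_card_ge (fun x hx => ?_) (by rw [Nat.card_zpowers, hd.ord, hRcard])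
      obtain ⟨i, hi⟩ := mem_zpowers_iff.1 (hg ⟨x, hx⟩)
      have : x = (g : G) ^ i := by rw [← SubgroupClass.coe_zpow, hi]
      exact this ▸ zpow_mem hgr i
    subst hRr
    rcases hd.exists_eq ha with ⟨i, rfl | rfl⟩
    · exact absurd (zpow_mem_zpowers r i) haR
    · refine ⟨hd.refl_sq i, fun x hx => ?_⟩
      obtain ⟨j, rfl⟩ := mem_zpowers_iff.1 hx
      rw [hd.refl_mul_rot, mul_inv_rev, hd.sinv, mul_assoc, ← mul_assoc s s, hd.ssq, one_mul, ← zpow_neg,
        ← zpow_add, ← zpow_neg]
      congr 1; omega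

/-- A central involution is a rotation. -/
theorem mem_rot {S : Sylow 2 G} {r s : G} {e : ℕ} (hd : TwoGroups.DihIn S r s e) {t : G}
    (ht : orderOf t = 2) (htS : t ∈ (S : Subgroup G)) (htc : ∀ x ∈ (S : Subgroup G), x * t = t * x)
    (he : e ≠ 1) : t ∈ zpowers r := by
  rcases hd.exists_eq htS with ⟨i, hi | hi⟩
  · exact hi ▸ zpow_mem_zpowers r i
  · exfalso
    have h1 := htc r hd.rS
    have h2 : t * r * t⁻¹ = r⁻¹ := by
      rw [hi, show r ^ i * s * r * (r ^ i * s)⁻¹ = r ^ i * (s * r * s⁻¹) * (r ^ i)⁻¹ by group, hd.conj,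
        ((Commute.refl r).zpow_left i).inv_right.eq, mul_inv_cancel_right]
    rw [← h1, mul_inv_cancel_right] at h2
    have h3 : r ^ 2 = 1 := by rw [pow_two]; nth_rw 1 [h2]; exact inv_mul_cancel r
    have h4 := Nat.le_of_dvd two_pos (hd.ord ▸ orderOf_dvd_of_pow_eq_one h3)
    have h5 : 2 ^ 2 ≤ 2 ^ e := Nat.pow_le_pow_right two_pos (by have := hd.kpos; omega)
    omega

/-- A cyclic subgroup of index two containing a central involution. -/
theorem exists_rot {S : Sylow 2 G} {r s : G} {e : ℕ} (hd : TwoGroups.DihIn S r s e) {t : G}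
    (ht : orderOf t = 2) (htS : t ∈ (S : Subgroup G)) (htc : ∀ x ∈ (S : Subgroup G), x * t = t * x) :
    ∃ R : Subgroup G, R ≤ (S : Subgroup G) ∧ IsCyclic R ∧ R.relIndex (S : Subgroup G) = 2 ∧ t ∈ R := by
  by_cases he : e = 1
  · subst he
    refine ⟨zpowers t, zpowers_le.2 htS, inferInstance, ?_, mem_zpowers t⟩
    have h1 := card_mul_index ((zpowers t).subgroupOf (S : Subgroup G))
    rw [Nat.card_congr (subgroupOfEquivOfLe (zpowers_le.2 htS)).toEquiv, Nat.card_zpowers, ht, hd.card] at h1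
    show ((zpowers t).subgroupOf (S : Subgroup G)).index = 2
    omega
  · exact ⟨zpowers r, hd.rot_le, inferInstance, hd.relIndex_rot, mem_rot hd ht htS htc he⟩

/-- The centralizer of the central involution is generated by the Sylow subgroup and its core. -/
theorem centralizer_eq {S : Sylow 2 G} {r s : G} {e : ℕ} (hd : TwoGroups.DihIn S r s e) {t : G}
    (ht : orderOf t = 2) (htS : t ∈ (S : Subgroup G)) (htc : ∀ x ∈ (S : Subgroup G), x * t = t * x) :
    centralizer ({t} : Set G) = (Cfsg.oddCore (centralizer ({t} : Set G))).map (centralizer ({t} : Set G)).subtype ⊔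
      (S : Subgroup G) := by
  set C := centralizer ({t} : Set G) with hC
  have hSC : (S : Subgroup G) ≤ C := fun x hx => mem_centralizer_singleton_iff.2 (htc x hx)
  let S' : Sylow 2 C := S.subtype hSC
  have hd' : TwoGroups.DihIn S' (⟨r, hSC hd.rS⟩ : C) ⟨s, hSC hd.sS⟩ e :=
    ⟨hd.kpos, hd.rS, hd.sS, by rw [Subgroup.orderOf_mk]; exact hd.ord, Subtype.ext hd.ssq, fun hm => by
      obtain ⟨i, hi⟩ := mem_zpowers_iff.1 hm
      exact hd.notMem (mem_zpowers_iff.2 ⟨i, congrArg Subtype.val hi⟩), Subtype.ext hd.conj,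
      (Nat.card_congr (subgroupOfEquivOfLe hSC).toEquiv).trans hd.card⟩
  have hne : ∀ U : Subgroup C, U ≤ S' → IsKleinFour U → ¬ TwoGroups.Exotic U := by
    intro U hU hU4 ⟨g, hgN, hgo, hgC⟩
    obtain ⟨h4, hsq, -⟩ := TwoGroups.four_facts hU4
    have htC : t ∈ C := mem_centralizer_singleton_iff.2 rfl
    have htU : (⟨t, htC⟩ : C) ∈ U := by
      by_cases he : e = 1
      · subst he
        have : U = S' := eq_of_le_of_card_ge hU (by rw [hd'.card, h4]; norm_num)
        rw [this]; exact htS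
      · obtain ⟨i, rfl⟩ := hd'.eq_four hU4 hU
        have hz := hd'.z_mem_four i
        convert hz using 1
        apply Subtype.ext
        rw [SubgroupClass.coe_zpow]
        show t = r ^ ((2 : ℤ) ^ (e - 1))
        have htt : t * t = 1 := TwoGroups.sq_one_of_order_two ht
        obtain ⟨j, hj⟩ := mem_zpowers_iff.1 (mem_rot hd ht htS htc he)
        rw [← hj] at htt ht ⊢
        rcases hd.rot_sq htt with e1 | e1
        · rw [e1, orderOf_one] at ht; omega
        · exact e1
    obtain ⟨a, ha, ha1, hat⟩ : ∃ a ∈ U, a ≠ 1 ∧ a ≠ (⟨t, htC⟩ : C) := by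
      classical
      haveI := Fintype.ofFinite U
      by_contra hno
      push Not at hno
      have hle : (Finset.univ : Finset U) ⊆ {1, ⟨⟨t, htC⟩, htU⟩} := fun a _ => by
        by_cases ha1 : a = 1
        · simp [ha1]
        · have e1 : a = ⟨⟨t, htC⟩, htU⟩ := Subtype.ext (hno a a.2 fun q => ha1 (Subtype.ext q))
          simp [e1]
      have := (Finset.card_le_card hle).trans Finset.card_le_two
      rw [Finset.card_univ, ← Nat.card_eq_fintype_card, h4] at this
      omega
    obtain ⟨i, hi⟩ := TwoGroups.four_transitive hU4 hgN hgo hgC htU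
      (fun q => by rw [show t = 1 from congrArg Subtype.val q, orderOf_one] at ht; omega) ha ha1
    refine hat ?_
    rw [← hi]
    apply Subtype.ext
    show ((g ^ i : C) : G) * t * ((g ^ i : C) : G)⁻¹ = t
    rw [mem_centralizer_singleton_iff.1 (g ^ i : C).2, mul_inv_cancel_right]
  obtain ⟨P, N, hN, hcompl⟩ := hd'.hasNormalPComplement hne
  have hNodd : (Nat.card N).Coprime 2 := by
    haveI : Fact (Nat.Prime 2) := ⟨Nat.prime_two⟩
    rw [Nat.coprime_comm, Nat.prime_two.coprime_iff_not_dvd, ← hcompl.index_eq_card]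
    exact P.not_dvd_index
  have hNle : N ≤ Cfsg.oddCore C := Core.le_pPrimeCore hN hNodd
  have hNS : N ⊔ (S' : Subgroup C) = ⊤ := by
    haveI : Fact (Nat.Prime 2) := ⟨Nat.prime_two⟩
    refine eq_top_of_le_card _ ?_
    have h1 : Nat.card N ∣ Nat.card (N ⊔ (S' : Subgroup C) : Subgroup C) := card_dvd_of_le le_sup_left
    have h2 : Nat.card (S' : Subgroup C) ∣ Nat.card (N ⊔ (S' : Subgroup C) : Subgroup C) := card_dvd_of_le le_sup_right
    have hP : Nat.card (P : Subgroup C) = Nat.card (S' : Subgroup C) := Nat.card_congr (P.equiv S').toEquiv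
    obtain ⟨m, hm⟩ := IsPGroup.iff_card.1 S'.2
    have h3 := Nat.Coprime.mul_dvd_of_dvd_of_dvd (by rw [hm]; exact hNodd.pow_right m) h1 h2
    rw [← hP, hcompl.card_mul] at h3
    exact Nat.le_of_dvd Nat.card_pos h3
  refine le_antisymm (fun x hx => ?_) (sup_le (map_subtype_le _) hSC)
  have : (⟨x, hx⟩ : C) ∈ Cfsg.oddCore C ⊔ (S' : Subgroup C) := sup_le_sup hNle le_rfl (hNS ▸ mem_top _)
  have h2 := mem_map_of_mem C.subtype this
  rw [Subgroup.map_sup] at h2
  have hle : (Cfsg.oddCore C).map C.subtype ⊔ (S' : Subgroup C).map C.subtype ≤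
      (Cfsg.oddCore C).map C.subtype ⊔ (S : Subgroup G) := by
    refine sup_le le_sup_left ?_
    rintro _ ⟨y, hy, rfl⟩
    exact mem_sup_right hy
  exact hle h2

/-- The setting. -/
theorem exists_setup [IsSimpleGroup G] {S : Sylow 2 G} {r s₀ : G} {e : ℕ} (hd : TwoGroups.DihIn S r s₀ e)
    {t : G} (ht : orderOf t = 2) (htS : t ∈ (S : Subgroup G)) (htc : ∀ x ∈ (S : Subgroup G), x * t = t * x)
    {O : Subgroup G}
    (hO : O = (Cfsg.oddCore (centralizer ({t} : Set G))).map (centralizer ({t} : Set G)).subtype)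
    (ha : O ≠ ⊥ → IsCyclic ((S : Subgroup G) ⊓ centralizer (O : Set G) : Subgroup G) ∧
      ((S : Subgroup G) ⊓ centralizer (O : Set G)).relIndex (S : Subgroup G) = 2)
    (hb : ∀ s ∈ (S : Subgroup G), s ∉ centralizer (O : Set G) → ∀ y ∈ O, s * y * s⁻¹ = y⁻¹)
    (hc : ∀ Y : Subgroup G, Y ≤ O → Y ≠ ⊥ → normalizer (Y : Set G) ≤ centralizer ({t} : Set G)) :
    ∃ (K : Subgroup G) (s : G), Setup t K s := by
  haveI : Fact (Nat.Prime 2) := ⟨Nat.prime_two⟩
  set C := centralizer ({t} : Set G) with hC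
  have hCeq := centralizer_eq hd ht htS htc
  rw [← hC, ← hO] at hCeq
  have hSC : (S : Subgroup G) ≤ C := fun x hx => mem_centralizer_singleton_iff.2 (htc x hx)
  have hOC : O ≤ C := hO ▸ map_subtype_le _
  have hOn : ∀ g ∈ C, ∀ o ∈ O, g * o * g⁻¹ ∈ O := by
    intro g hg o ho
    rw [hO] at ho ⊢
    obtain ⟨y, hy, rfl⟩ := mem_map.1 ho
    exact mem_map.2 ⟨⟨g, hg⟩ * y * ⟨g, hg⟩⁻¹, (inferInstance : (Cfsg.oddCore C).Normal).conj_mem y hy _, rfl⟩
  have hOodd : ∀ o ∈ O, Odd (orderOf o) := by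
    intro o ho
    rw [hO] at ho
    obtain ⟨y, hy, rfl⟩ := mem_map.1 ho
    show Odd (orderOf (y : G))
    rw [Subgroup.orderOf_coe]
    have h1 := (Cfsg.oddCore C).orderOf_dvd_natCard hy
    have h2 := Core.card_pPrimeCore_coprime 2 C
    exact (Nat.coprime_two_right.1 h2).of_dvd_nat h1
  have hSO : ∀ x ∈ (S : Subgroup G), x ∈ O → x = 1 := by
    intro x hxS hxO
    obtain ⟨i, hi⟩ := IsPGroup.iff_orderOf.1 S.2 ⟨x, hxS⟩
    rw [Subgroup.orderOf_mk] at hi
    have hx := hOodd x hxO
    rw [hi] at hx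
    rcases Nat.eq_zero_or_pos i with rfl | h
    · exact orderOf_eq_one_iff.1 (by rw [hi, pow_zero])
    · exact absurd hx (by rw [Nat.odd_pow_iff (by omega)]; decide)
  -- the rotations
  obtain ⟨R, hRS, hRc, hRi, htR, hRO⟩ : ∃ R : Subgroup G, R ≤ (S : Subgroup G) ∧ IsCyclic R ∧
      R.relIndex (S : Subgroup G) = 2 ∧ t ∈ R ∧ ∀ x ∈ R, ∀ o ∈ O, x * o = o * x := by
    by_cases hO1 : O = ⊥
    · obtain ⟨R, h1, h2, h3, h4⟩ := exists_rot hd ht htS htc
      exact ⟨R, h1, h2, h3, h4, fun x _ o ho => by rw [hO1, mem_bot] at ho; simp [ho]⟩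
    · obtain ⟨h1, h2⟩ := ha hO1
      refine ⟨_, inf_le_left, h1, h2, mem_inf.2 ⟨htS, mem_centralizer_iff.2 fun o ho =>
        (mem_centralizer_singleton_iff.1 (hOC ho))⟩, fun x hx o ho => ?_⟩
      exact (mem_centralizer_iff.1 (mem_inf.1 hx).2 o ho).symm
  obtain ⟨s, hsS, hsR⟩ : ∃ s ∈ (S : Subgroup G), s ∉ R := by
    by_contra hno
    push Not at hno
    rw [relIndex_eq_one.2 hno] at hRi
    omega
  obtain ⟨hss, hsinvR⟩ := outer hd hRc hRS hRi hsS hsR
  have hsinvO : ∀ o ∈ O, s * o * s⁻¹ = o⁻¹ := by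
    intro o ho
    by_cases hsC : s ∈ centralizer (O : Set G)
    · by_cases hO1 : O = ⊥
      · rw [hO1, mem_bot] at ho; simp [ho]
      · -- the centralizing elements of the Sylow subgroup are the rotations
        exfalso
        obtain ⟨h1, h2⟩ := ha hO1
        have hle : R ≤ (S : Subgroup G) ⊓ centralizer (O : Set G) := fun x hx =>
          ⟨hRS hx, mem_centralizer_iff.2 fun o ho => (hRO x hx o ho).symm⟩
        have e1 := relIndex_mul_relIndex R _ (S : Subgroup G) hle inf_le_left
        rw [h2, hRi] at e1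
        have : R.relIndex ((S : Subgroup G) ⊓ centralizer (O : Set G)) = 1 := by omega
        exact hsR (relIndex_eq_one.1 this ⟨hsS, hsC⟩)
    · exact hb s hsS hsC o ho
  have hOab : ∀ x ∈ O, ∀ y ∈ O, x * y = y * x := by
    intro x hx y hy
    have h1 := hsinvO _ (O.mul_mem hx hy)
    rw [show s * (x * y) * s⁻¹ = (s * x * s⁻¹) * (s * y * s⁻¹) by group, hsinvO x hx, hsinvO y hy,
      mul_inv_rev] at h1
    exact inv_injective (by simpa using h1.symm)
  have hRab : ∀ x ∈ R, ∀ y ∈ R, x * y = y * x := fun x hx y hy =>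
    congrArg Subtype.val (mul_comm' (⟨x, hx⟩ : R) ⟨y, hy⟩)
  -- the subgroup `K`
  let K : Subgroup G :=
    { carrier := {g | ∃ a ∈ R, ∃ o ∈ O, g = a * o}
      one_mem' := ⟨1, R.one_mem, 1, O.one_mem, (one_mul 1).symm⟩
      mul_mem' := by
        rintro _ _ ⟨a, ha, o, ho, rfl⟩ ⟨b, hb', p, hp, rfl⟩
        refine ⟨a * b, R.mul_mem ha hb', o * p, O.mul_mem ho hp, ?_⟩
        rw [mul_assoc, ← mul_assoc o b, ← hRO b hb' o ho]; group
      inv_mem' := by
        rintro _ ⟨a, ha, o, ho, rfl⟩
        exact ⟨a⁻¹, R.inv_mem ha, o⁻¹, O.inv_mem ho, by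
          rw [mul_inv_rev]; exact (hRO a⁻¹ (R.inv_mem ha) o⁻¹ (O.inv_mem ho)).symm⟩ }
  have hKmem : ∀ g, g ∈ K ↔ ∃ a ∈ R, ∃ o ∈ O, g = a * o := fun g => Iff.rfl
  have hKab : ∀ x ∈ K, ∀ y ∈ K, x * y = y * x := by
    rintro _ ⟨a, ha, o, ho, rfl⟩ _ ⟨b, hb', p, hp, rfl⟩
    calc a * o * (b * p) = a * (o * b) * p := by group
      _ = (a * b) * (o * p) := by rw [← hRO b hb' o ho]; group
      _ = (b * a) * (p * o) := by rw [hRab a ha b hb', hOab o ho p hp]
      _ = b * (a * p) * o := by group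
      _ = _ := by rw [hRO a ha p hp]; group
  have hKinv : ∀ x ∈ K, s * x * s⁻¹ = x⁻¹ := by
    rintro _ ⟨a, ha, o, ho, rfl⟩
    rw [show s * (a * o) * s⁻¹ = (s * a * s⁻¹) * (s * o * s⁻¹) by group, hsinvR a ha, hsinvO o ho, mul_inv_rev]
    exact hRO a⁻¹ (R.inv_mem ha) o⁻¹ (O.inv_mem ho)
  have hRK : R ≤ K := fun x hx => ⟨x, hx, 1, O.one_mem, (mul_one x).symm⟩
  have hOK : O ≤ K := fun x hx => ⟨1, R.one_mem, x, hx, (one_mul x).symm⟩
  have hKC : K ≤ C := by
    rintro _ ⟨a, ha, o, ho, rfl⟩; exact C.mul_mem (hSC (hRS ha)) (hOC ho)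
  have hsK : s ∉ K := by
    rintro ⟨a, ha, o, ho, hao⟩
    have : a⁻¹ * s = o := by rw [hao, inv_mul_cancel_left]
    have ho1 : o = 1 := hSO o (this ▸ mul_mem (inv_mem (hRS ha)) hsS) ho
    rw [ho1, mul_one] at hao
    exact hsR (hao ▸ ha)
  have hso : orderOf s = 2 :=
    Components.invol_of_mul_self hss fun q => hsR (q ▸ R.one_mem)
  have htt : t * t = 1 := TwoGroups.sq_one_of_order_two ht
  have hsq : ∀ x ∈ K, x * x = 1 → x = 1 ∨ x = t := by
    rintro _ ⟨a, ha, o, ho, rfl⟩ hxx
    have h1 : a * a = (o * o)⁻¹ := by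
      have e1 : a * o * (a * o) = a * a * (o * o) := by
        calc a * o * (a * o) = a * (o * a) * o := by group
          _ = _ := by rw [← hRO a ha o ho]; group
      rw [e1] at hxx
      exact eq_inv_of_mul_eq_one_left hxx
    have h2 : a * a = 1 := hSO _ (mul_mem (hRS ha) (hRS ha)) (h1 ▸ O.inv_mem (O.mul_mem ho ho))
    rw [h2] at h1
    have h3 : o = 1 := by
      by_contra ho1
      have hod := hOodd o ho
      rw [Components.invol_of_mul_self (inv_eq_one.1 h1.symm) ho1] at hod
      exact absurd hod (by decide)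
    rw [h3, mul_one]
    -- involutions of a cyclic group
    by_contra hno
    push Not at hno
    classical
    haveI := Fintype.ofFinite R
    have hsub : ({1, ⟨t, htR⟩, ⟨a, ha⟩} : Finset R) ⊆ Finset.univ.filter fun z : R => z ^ 2 = 1 := by
      intro z hz
      simp only [Finset.mem_insert, Finset.mem_singleton] at hz
      rcases hz with rfl | rfl | rfl <;> simp [Subtype.ext_iff, pow_two, htt, h2]
    have h3c : ({1, ⟨t, htR⟩, ⟨a, ha⟩} : Finset R).card = 3 := by
      have ht1 : t ≠ 1 := fun q => by rw [q, orderOf_one] at ht; omega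
      rw [Finset.card_insert_of_notMem (by simp [Subtype.ext_iff, ht1.symm, Ne.symm hno.1]),
        Finset.card_insert_of_notMem (by simp [Subtype.ext_iff, Ne.symm hno.2]), Finset.card_singleton]
    have := (Finset.card_le_card hsub).trans (IsCyclic.card_pow_eq_one_le (α := R) (by norm_num : 0 < 2))
    omega
  refine ⟨K, s, ?_⟩
  refine
    { tord := ht, comm := hKab, tK := hRK htR, sord := hso, sH := hSC hsS, sK := hsK, sup := ?_, fix := ?_,
      inv := hKinv, ti := ?_, one := fun x y hx hy => isConj_invol hd hx hy }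
  · refine le_antisymm (sup_le hKC (zpowers_le.2 (hSC hsS))) ?_
    rw [← hC, hCeq]
    refine sup_le (fun x hx => mem_sup_left (hOK hx)) fun x hx => ?_
    by_cases hxR : x ∈ R
    · exact mem_sup_left (hRK hxR)
    · have := (mul_mem_iff_of_index_two (H := R.subgroupOf (S : Subgroup G)) hRi
        (a := ⟨x, hx⟩) (b := ⟨s, hsS⟩)).2 (iff_of_false (fun q => hxR (mem_subgroupOf.1 q))
          (fun q => hsR (mem_subgroupOf.1 q)))
      have hxs : x * s ∈ R := mem_subgroupOf.1 this
      rw [show x = (x * s) * s by rw [mul_assoc, hss, mul_one]]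
      exact mul_mem (mem_sup_left (hRK hxs)) (mem_sup_right (mem_zpowers s))
  · refine le_antisymm (fun x hx => ?_) (zpowers_le.2 (mem_inf.2 ⟨hRK htR,
      mem_centralizer_singleton_iff.2 (htc s hsS).symm⟩))
    obtain ⟨hxK, hxs⟩ := mem_inf.1 hx
    have h1 := hKinv x hxK
    rw [← mem_centralizer_singleton_iff.1 hxs, mul_inv_cancel_right] at h1
    rcases hsq x hxK (by nth_rw 2 [h1]; exact mul_inv_cancel x) with q | q
    · rw [q]; exact one_mem _
    · rw [q]; exact mem_zpowers t
  · intro g hg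
    by_contra hne
    obtain ⟨⟨x, hx⟩, hx'⟩ := ne_bot_iff_exists_ne_one.1 hne
    have hx1 : x ≠ 1 := fun q => hx' (Subtype.ext q)
    obtain ⟨hxK, hxg⟩ := mem_inf.1 hx
    obtain ⟨y, hy, hyx⟩ := mem_map.1 hxg
    change g * y * g⁻¹ = x at hyx
    have hconjt : ∀ u ∈ K, orderOf u = 2 → u = t := fun u hu hu2 =>
      (hsq u hu (TwoGroups.sq_one_of_order_two hu2)).resolve_left fun q => by rw [q, orderOf_one] at hu2; omega
    by_cases heven : 2 ∣ orderOf x
    · have hu : orderOf (x ^ (orderOf x / 2)) = 2 := by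
        rw [orderOf_pow_of_dvd (Nat.div_pos (Nat.le_of_dvd (orderOf_pos x) heven) two_pos).ne'
          (Nat.div_dvd_of_dvd heven), Nat.div_div_self heven (orderOf_pos x).ne']
      have e1 := hconjt _ (K.pow_mem hxK _) hu
      have hyu : g * y ^ (orderOf x / 2) * g⁻¹ = t := by rw [← e1, ← hyx, conj_pow]
      have e2 := hconjt _ (K.pow_mem hy (orderOf x / 2)) ((orderOf_injective (MulAut.conj g).toMonoidHom (MulAut.conj g).injective _).symm.trans
        ((congrArg orderOf hyu).trans ht))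
      rw [e2] at hyu
      exact hg (mem_centralizer_singleton_iff.2 (mul_inv_eq_iff_eq_mul.1 hyu))
    · have hoddK : ∀ z ∈ K, ¬ 2 ∣ orderOf z → z ∈ O := by
        rintro _ ⟨a, ha, o, ho, rfl⟩ hz
        suffices a = 1 by rw [this, one_mul]; exact ho
        have hcom : Commute a o := hRO a ha o ho
        have h1 : a ^ orderOf (a * o) = (o ^ orderOf (a * o))⁻¹ := by
          rw [eq_inv_iff_mul_eq_one, ← hcom.mul_pow, pow_orderOf_eq_one]
        have h2 : a ^ orderOf (a * o) = 1 :=
          hSO _ (pow_mem (hRS ha) _) (h1 ▸ O.inv_mem (O.pow_mem ho _))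
        obtain ⟨i, hi⟩ := IsPGroup.iff_orderOf.1 S.2 ⟨a, hRS ha⟩
        rw [Subgroup.orderOf_mk] at hi
        have h3 := orderOf_dvd_of_pow_eq_one h2
        rw [hi] at h3
        rcases Nat.eq_zero_or_pos i with rfl | hp
        · exact orderOf_eq_one_iff.1 (by rw [hi, pow_zero])
        · exact absurd ((dvd_pow_self 2 hp.ne').trans h3) hz
      have hxO := hoddK x hxK heven
      have hyo : orderOf y = orderOf x := by
        rw [← hyx]; exact (orderOf_injective (MulAut.conj g).toMonoidHom (MulAut.conj g).injective y).symm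
      have hyO := hoddK y hy (by rw [hyo]; exact heven)
      have hX : zpowers x ≤ O := zpowers_le.2 hxO
      have hXC := hc _ hX (zpowers_ne_bot.2 hx1)
      have hcen : g * t * g⁻¹ ∈ centralizer ({x} : Set G) := by
        refine mem_centralizer_singleton_iff.2 ?_
        rw [← hyx]
        calc g * t * g⁻¹ * (g * y * g⁻¹) = g * (t * y) * g⁻¹ := by group
          _ = g * (y * t) * g⁻¹ := by rw [mem_centralizer_singleton_iff.1 (hOC hyO)]
          _ = _ := by group
      have hgC : g * t * g⁻¹ ∈ C := by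
        refine hXC ?_
        apply centralizer_le_normalizer
        rw [zpowers_eq_closure, centralizer_closure]
        exact hcen
      have hgo : orderOf (g * t * g⁻¹) = 2 :=
        (orderOf_injective (MulAut.conj g).toMonoidHom (MulAut.conj g).injective t).trans ht
      have hC' : C ≤ K ⊔ zpowers s := by
        rw [hCeq]
        refine sup_le (fun z hz => mem_sup_left (hOK hz)) fun z hz => ?_
        by_cases hzR : z ∈ R
        · exact mem_sup_left (hRK hzR)
        · have := (mul_mem_iff_of_index_two (H := R.subgroupOf (S : Subgroup G)) hRi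
            (a := ⟨z, hz⟩) (b := ⟨s, hsS⟩)).2 (iff_of_false (fun q => hzR (mem_subgroupOf.1 q))
              (fun q => hsR (mem_subgroupOf.1 q)))
          rw [show z = (z * s) * s by rw [mul_assoc, hss, mul_one]]
          exact mul_mem (mem_sup_left (hRK (mem_subgroupOf.1 this))) (mem_sup_right (mem_zpowers s))
      let L : Subgroup G :=
        { carrier := {z | z ∈ K ∨ z * s ∈ K}
          one_mem' := Or.inl K.one_mem
          mul_mem' := by
            have hs' : s⁻¹ = s := inv_eq_of_mul_eq_one_right hss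
            rintro p q (hp | hp) (hq | hq)
            · exact Or.inl (K.mul_mem hp hq)
            · exact Or.inr (by rw [mul_assoc]; exact K.mul_mem hp hq)
            · refine Or.inr ?_
              rw [show p * q * s = (p * s) * (s * q * s⁻¹) by simp [mul_assoc, ← mul_assoc s s, hss, hs'], hKinv q hq]
              exact K.mul_mem hp (K.inv_mem hq)
            · refine Or.inl ?_
              rw [show p * q = (p * s) * (s * (q * s) * s⁻¹) by simp [mul_assoc, ← mul_assoc s s, hss, hs'], hKinv _ hq]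
              exact K.mul_mem hp (K.inv_mem hq)
          inv_mem' := by
            rintro p (hp | hp)
            · exact Or.inl (K.inv_mem hp)
            · refine Or.inr ?_
              have hs' : s⁻¹ = s := inv_eq_of_mul_eq_one_right hss
              rw [show p⁻¹ * s = s * (p * s)⁻¹ * s⁻¹ by simp [mul_assoc, hs', ← mul_assoc s s, hss],
                hKinv _ (K.inv_mem hp), inv_inv]
              exact hp }
      rcases (sup_le (fun z hz => Or.inl hz) (zpowers_le.2 (Or.inr (by rw [hss]; exact K.one_mem))) :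
        K ⊔ zpowers s ≤ L) (hC' hgC) with q | q
      · exact hg (mem_centralizer_singleton_iff.2 (mul_inv_eq_iff_eq_mul.1 (hconjt _ q hgo)))
      · have hinv : g * t * g⁻¹ * x * (g * t * g⁻¹)⁻¹ = x⁻¹ := by
          calc g * t * g⁻¹ * x * (g * t * g⁻¹)⁻¹
              = (g * t * g⁻¹ * s) * (s⁻¹ * x * s) * (g * t * g⁻¹ * s)⁻¹ := by group
            _ = _ := by
              rw [inv_eq_of_mul_eq_one_right hss, show s * x * s = s * x * s⁻¹ by rw [inv_eq_of_mul_eq_one_right hss],
                hKinv x hxK, hKab _ q _ (K.inv_mem hxK), mul_inv_cancel_right]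
        rw [mem_centralizer_singleton_iff.1 hcen, mul_inv_cancel_right] at hinv
        have : orderOf x ∣ 2 := orderOf_dvd_of_pow_eq_one (by rw [pow_two]; nth_rw 2 [hinv]; exact mul_inv_cancel x)
        rcases (Nat.dvd_prime Nat.prime_two).1 this with q' | q'
        · exact hx1 (orderOf_eq_one_iff.1 q')
        · exact heven (q' ▸ dvd_rfl)

end Cfsg.Agent.Screen.BSW.Dihedral
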