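import Cfsg.Agent.Screen.BSW.Main
import Cfsg.Agent.S0731
import Cfsg.Prelude.Def_LieExceptional

/-!
A simple group with a self-centralizing subgroup as in the conclusion of the theorem of Brauer,
Suzuki and Wall is a projective special linear group.
-/

set_option autoImplicit false
set_option linter.unusedSectionVars false
set_option linter.style.haveILetI false

namespace Cfsg.Agent.Screen.BSW

open Subgroup

universe u

variable {G : Type u} [Group G] [Finite G]

theorem psl_of_concl [IsSimpleGroup G] {Q D : Subgroup G} (h : Concl Q D) (hG : 12 < Nat.card G) :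
    ∃ (F : Type) (_ : Field F) (_ : Fintype F), Odd (Fintype.card F) ∧
      Nonempty (G ≃* Matrix.ProjectiveSpecialLinearGroup (Fin 2) F) := by
  classical
  obtain ⟨hord, hcent, -, hD, hQD, hN, -⟩ := h
  obtain ⟨q, hq⟩ : ∃ q, q = Nat.card Q := ⟨_, rfl⟩
  obtain ⟨d, hd⟩ : ∃ d, d = Nat.card D := ⟨_, rfl⟩
  rw [← hq] at hord hD
  rw [← hd] at hD
  have hd2 : 2 ≤ d := by
    by_contra hlt
    have : q ≤ 3 := by omega
    interval_cases q <;> omega
  set N := normalizer (Q : Set G) with hNdef
  -- the order of `N`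
  have hNcard : Nat.card N = q * d := by
    have hDN : D ≤ N := hN ▸ le_sup_right
    have hQN : Q ≤ N := le_normalizer
    rw [hq, hd, ← Nat.card_prod]
    refine (Nat.card_eq_of_bijective (fun p : Q × D => (⟨(p.1 : G) * p.2, N.mul_mem (hQN p.1.2) (hDN p.2.2)⟩ : N))
      ⟨?_, ?_⟩).symm
    · rintro ⟨a, b⟩ ⟨a', b'⟩ e
      have e' : (a : G) * b = a' * b' := congrArg Subtype.val e
      have h1 : ((a' : G))⁻¹ * a = (b' : G) * (b : G)⁻¹ := by
        calc ((a' : G))⁻¹ * a = (a' : G)⁻¹ * (a * b) * (b : G)⁻¹ := by group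
          _ = _ := by rw [e']; group
      have h2 : ((a' : G))⁻¹ * a = 1 := by
        have : ((a' : G))⁻¹ * a ∈ Q ⊓ D :=
          ⟨Q.mul_mem (Q.inv_mem a'.2) a.2, h1 ▸ D.mul_mem b'.2 (D.inv_mem b.2)⟩
        rwa [hQD, mem_bot] at this
      have ha : a' = a := Subtype.ext (inv_mul_eq_one.1 h2)
      subst ha
      rw [Subtype.ext (mul_left_cancel e')]
    · rintro ⟨g, hg⟩
      have hg' : g ∈ Q ⊔ D := hN ▸ hg
      rw [sup_comm, ← SetLike.mem_coe, coe_mul_of_left_le_normalizer_right D Q hDN] at hg'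
      obtain ⟨b, hb, a, ha, rfl⟩ := hg'
      refine ⟨(⟨b * a * b⁻¹, (mem_normalizer_iff.1 (hDN hb) a).1 ha⟩, ⟨b, hb⟩), Subtype.ext ?_⟩
      show b * a * b⁻¹ * b = b * a
      group
  have hidx : N.index = q + 1 := by
    have e := N.card_mul_index
    rw [hNcard] at e
    have e2 : q * d * (2 * N.index) = q * d * (2 * (q + 1)) := by
      have : q - 1 = 2 * d := by omega
      rw [show q * d * (2 * N.index) = 2 * (q * d * N.index) by ring, e, hord, this]; ring
    have hpos : 0 < q * d := Nat.mul_pos (by omega) (by omega)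
    have := Nat.eq_of_mul_eq_mul_left hpos e2
    omega
  -- elements of `N` of order dividing `q`
  have hNQ : ∀ x ∈ N, orderOf x ∣ q → x ∈ Q := by
    intro x hx hxq
    set Q' := Q.subgroupOf N with hQ'
    haveI : Q'.Normal := normal_in_normalizer
    have hQc : Nat.card Q' = q := hq ▸ Nat.card_congr (subgroupOfEquivOfLe le_normalizer).toEquiv
    have hQi : Q'.index = d := by
      have e := Q'.card_mul_index
      rw [hQc, hNcard] at e
      exact Nat.eq_of_mul_eq_mul_left (by omega) e
    have h1 : orderOf (QuotientGroup.mk' Q' ⟨x, hx⟩) ∣ d := by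
      rw [← hQi]; exact orderOf_dvd_natCard _
    have h2 : orderOf (QuotientGroup.mk' Q' ⟨x, hx⟩) ∣ q :=
      (orderOf_map_dvd _ _).trans (by rw [Subgroup.orderOf_mk]; exact hxq)
    have hcop : Nat.Coprime q d := by
      rw [← hD]
      exact Nat.coprime_of_dvd fun r hr h1 h2 => hr.ne_one (Nat.dvd_one.1
        ((Nat.dvd_add_right (h2.mul_left 2)).1 h1))
    have := orderOf_eq_one_iff.1 (Nat.eq_one_of_dvd_coprimes hcop h2 h1)
    exact mem_subgroupOf.1 ((QuotientGroup.eq_one_iff _).1 this)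
  have hTI : ∀ g : G, ∀ x ∈ Q, x ≠ 1 → g * x * g⁻¹ ∈ Q → g ∈ N := by
    intro g x hx hx1 hgx
    have hgx1 : g * x * g⁻¹ ≠ 1 := fun q => hx1 (conj_eq_one_iff.1 q)
    rw [hNdef, mem_normalizer_iff]
    intro w
    constructor
    · intro hw
      rw [← hcent x hx hx1, mem_centralizer_singleton_iff] at hw
      rw [← hcent _ hgx hgx1, mem_centralizer_singleton_iff]
      calc g * w * g⁻¹ * (g * x * g⁻¹) = g * (w * x) * g⁻¹ := by group
        _ = _ := by rw [hw]; group
    · intro hw
      rw [← hcent _ hgx hgx1, mem_centralizer_singleton_iff] at hw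
      rw [← hcent x hx hx1, mem_centralizer_singleton_iff]
      calc w * x = g⁻¹ * (g * w * g⁻¹ * (g * x * g⁻¹)) * g := by group
        _ = x * w := by rw [hw]; group
  -- the action on cosets
  haveI : Finite (G ⧸ N) := inferInstance
  set x₀ : G ⧸ N := QuotientGroup.mk 1 with hx₀
  have hstab : ∀ g : G, g • x₀ = x₀ ↔ g ∈ N := by
    intro g
    rw [hx₀, MulAction.Quotient.smul_mk, QuotientGroup.eq, smul_eq_mul, mul_one, mul_one, inv_mem_iff]
  have hQfix : ∀ u ∈ Q, ∀ a : G ⧸ N, a ≠ x₀ → u • a = a → u = 1 := by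
    intro u hu a ha hua
    by_contra hu1
    induction a using QuotientGroup.induction_on with
    | H g =>
      rw [MulAction.Quotient.smul_mk, QuotientGroup.eq, smul_eq_mul] at hua
      have h1 : g⁻¹ * u * g ∈ N := by
        have := N.inv_mem hua
        rwa [show ((u * g)⁻¹ * g)⁻¹ = g⁻¹ * u * g by group] at this
      have hgu : g⁻¹ * u * g ∈ Q := by
        refine hNQ _ h1 ?_
        rw [show g⁻¹ * u * g = g⁻¹ * u * g⁻¹⁻¹ by rw [inv_inv],
          show orderOf (g⁻¹ * u * g⁻¹⁻¹) = orderOf u from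
            orderOf_injective (MulAut.conj g⁻¹).toMonoidHom (MulAut.conj g⁻¹).injective u, hq]
        exact Q.orderOf_dvd_natCard hu
      have hgN : g⁻¹ ∈ N := hTI g⁻¹ u hu hu1 (by rwa [inv_inv])
      exact ha (by rw [hx₀, QuotientGroup.eq, mul_one]; exact hgN)
  have hreg : ∀ a b : G ⧸ N, a ≠ x₀ → b ≠ x₀ → ∃! u : Q, (u : G) • a = b := by
    intro a b ha hb
    have hQx : ∀ u : Q, (u : G) • a ≠ x₀ := fun u e => ha (by
      have : a = ((u : G))⁻¹ • x₀ := by rw [← e, inv_smul_smul]
      rw [this, hstab]; exact N.inv_mem (le_normalizer u.2))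
    haveI := Fintype.ofFinite (G ⧸ N)
    have hinj : Function.Injective (fun u : Q => (⟨(u : G) • a, hQx u⟩ : {c : G ⧸ N // c ≠ x₀})) := by
      intro u v e
      have e' : (u : G) • a = (v : G) • a := congrArg Subtype.val e
      have := hQfix _ (Q.mul_mem (Q.inv_mem v.2) u.2) a ha (by rw [mul_smul, e', inv_smul_smul])
      exact Subtype.ext (inv_mul_eq_one.1 this).symm
    have hbij : Function.Bijective (fun u : Q => (⟨(u : G) • a, hQx u⟩ : {c : G ⧸ N // c ≠ x₀})) := by
      refine (Nat.bijective_iff_injective_and_card _).2 ⟨hinj, ?_⟩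
      rw [← hq, Nat.card_eq_fintype_card (α := {c : G ⧸ N // c ≠ x₀}), Fintype.card_subtype_compl,
        Fintype.card_subtype_eq, ← Nat.card_eq_fintype_card, show Nat.card (G ⧸ N) = N.index from rfl, hidx]
      omega
    obtain ⟨u, hu, huniq⟩ := hbij.existsUnique ⟨b, hb⟩
    exact ⟨u, congrArg Subtype.val hu, fun v hv => huniq v (Subtype.ext hv)⟩
  have h2 : MulAction.IsMultiplyPretransitive G (G ⧸ N) 2 := by
    rw [MulAction.is_two_pretransitive_iff]
    intro a b c e hab hce
    obtain ⟨g, hg⟩ := MulAction.exists_smul_eq G a x₀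
    obtain ⟨g', hg'⟩ := MulAction.exists_smul_eq G c x₀
    have hb' : g • b ≠ x₀ := fun q => hab (MulAction.injective g (hg.trans q.symm))
    have he' : g' • e ≠ x₀ := fun q => hce (MulAction.injective g' (hg'.trans q.symm))
    obtain ⟨u, hu, -⟩ := hreg _ _ hb' he'
    refine ⟨g'⁻¹ * (u : G) * g, ?_, ?_⟩
    · rw [mul_smul, mul_smul, hg, (hstab u).2 (le_normalizer u.2), ← hg', inv_smul_smul]
    · rw [mul_smul, mul_smul, hu, inv_smul_smul]
  have hthree : ∀ g : G, ∀ a b c : G ⧸ N, a ≠ b → b ≠ c → a ≠ c →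
      g • a = a → g • b = b → g • c = c → g = 1 := by
    intro g a b c hab hbc hac hga hgb hgc
    obtain ⟨w, hw⟩ := MulAction.exists_smul_eq G a x₀
    set g' := w * g * w⁻¹ with hg'
    have hfix : ∀ z : G ⧸ N, g • z = z → g' • (w • z) = w • z := fun z hz => by
      rw [hg', mul_smul, mul_smul, inv_smul_smul, hz]
    have hN' : g' ∈ N := (hstab _).1 (hw ▸ hfix a hga)
    have hb : w • b ≠ x₀ := fun e => hab (MulAction.injective w (hw.trans e.symm))
    have hc : w • c ≠ x₀ := fun e => hac (MulAction.injective w (hw.trans e.symm))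
    obtain ⟨u, hu, -⟩ := hreg _ _ hb hc
    have hu1 : (u : G) ≠ 1 := fun e => hbc (MulAction.injective w (by rw [e, one_smul] at hu; exact hu))
    have hcomm : (u : G)⁻¹ * g'⁻¹ * u * g' = 1 := by
      refine hQfix _ ?_ (w • b) hb ?_
      · rw [show (u : G)⁻¹ * g'⁻¹ * u * g' = (u : G)⁻¹ * (g'⁻¹ * u * g'⁻¹⁻¹) by group]
        exact Q.mul_mem (Q.inv_mem u.2) ((mem_normalizer_iff.1 (N.inv_mem hN') _).1 u.2)
      · rw [mul_smul, mul_smul, mul_smul, hfix b hgb, hu, inv_smul_eq_iff.2 (hfix c hgc).symm, ← hu, inv_smul_smul]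
    have hgQ : g' ∈ Q := by
      rw [← hcent u u.2 hu1, mem_centralizer_singleton_iff]
      calc g' * (u : G) = g' * u * ((u : G)⁻¹ * g'⁻¹ * u * g') := by rw [hcomm, mul_one]
        _ = u * g' := by group
    have h1 := hQfix g' hgQ _ hb (hfix b hgb)
    rw [hg', conj_eq_one_iff] at h1
    exact h1
  have hne : ∃ a : G ⧸ N, a ≠ x₀ := by
    haveI := Fintype.ofFinite (G ⧸ N)
    by_contra hno
    push Not at hno
    have h1 : Nat.card (G ⧸ N) ≤ 1 := by
      rw [Nat.card_eq_fintype_card]; exact Fintype.card_le_one_iff.2 fun a b => (hno a).trans (hno b).symm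
    rw [show Nat.card (G ⧸ N) = N.index from rfl, hidx] at h1
    omega
  have hfaith : FaithfulSMul G (G ⧸ N) := by
    refine ⟨fun {g g'} e => ?_⟩
    have hk : g'⁻¹ * g ∈ N.normalCore := by
      rw [normalCore_eq_ker, MonoidHom.mem_ker]
      ext a
      show (g'⁻¹ * g) • a = a
      rw [mul_smul, e, inv_smul_smul]
    rcases (normalCore_normal N).eq_bot_or_eq_top with q | q
    · rw [q, mem_bot] at hk; exact (inv_mul_eq_one.1 hk).symm
    · exfalso
      have hle : (⊤ : Subgroup G) ≤ N := q ▸ normalCore_le N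
      rw [top_le_iff.1 hle, index_top] at hidx
      omega
  haveI := hfaith
  obtain ⟨a, ha⟩ := hne
  have hex : ∃ g : G, g ≠ 1 ∧ ∃ a b : G ⧸ N, a ≠ b ∧ g • a = a ∧ g • b = b := by
    haveI := Fintype.ofFinite (G ⧸ N)
    by_contra hno
    push Not at hno
    -- `N` would act semiregularly on the other points
    have hinj : Function.Injective (fun g : N => (⟨(g : G) • a, fun e => ha (MulAction.injective (g : G)
        (e.trans ((hstab g).2 g.2).symm))⟩ : {c : G ⧸ N // c ≠ x₀})) := by
      intro g g' e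
      have e' : (g : G) • a = (g' : G) • a := congrArg Subtype.val e
      by_contra hne'
      refine hno ((g' : G)⁻¹ * g) (fun q => hne' (Subtype.ext (inv_mul_eq_one.1 q).symm)) x₀ a ha.symm ?_
        (by rw [mul_smul, e', inv_smul_smul])
      exact (hstab _).2 (N.mul_mem (N.inv_mem g'.2) g.2)
    have := Nat.card_le_card_of_injective _ hinj
    rw [hNcard, Nat.card_eq_fintype_card, Fintype.card_subtype_compl, Fintype.card_subtype_eq,
      ← Nat.card_eq_fintype_card, show Nat.card (G ⧸ N) = N.index from rfl, hidx] at this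
    have : q * 2 ≤ q * d := Nat.mul_le_mul_left q hd2
    omega
  have hnr : ∀ M : Subgroup G, M.Normal → MulAction.IsPretransitive M (G ⧸ N) →
      ∃ a : G ⧸ N, MulAction.stabilizer M a ≠ ⊥ := by
    intro M hM htr
    rcases hM.eq_bot_or_eq_top with rfl | rfl
    · exfalso
      obtain ⟨⟨g, hg⟩, hge⟩ := MulAction.exists_smul_eq (⊥ : Subgroup G) x₀ a
      rw [mem_bot] at hg
      subst hg
      exact ha (hge.symm.trans (one_smul G x₀))
    · obtain ⟨g, hg1, b, c, -, hgb, -⟩ := hex
      refine ⟨b, fun e => hg1 ?_⟩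
      have : (⟨g, mem_top g⟩ : (⊤ : Subgroup G)) ∈ MulAction.stabilizer (⊤ : Subgroup G) b := hgb
      rw [e, mem_bot] at this
      exact congrArg Subtype.val this
  have hZ : Cfsg.IsZassenhausGroup G (G ⧸ N) := ⟨hfaith, h2, hthree, hex, hnr⟩
  have hab : IsMulCommutative Q := isMulCommutative_of fun u hu v hv => by
    by_cases hu1 : u = 1
    · simp [hu1]
    · have := hv
      rw [← hcent u hu hu1, mem_centralizer_singleton_iff] at this
      exact this.symm
  have hle : Q ≤ MulAction.stabilizer G x₀ := fun u hu => (hstab u).2 (le_normalizer hu)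
  have hst : MulAction.stabilizer G x₀ = N := by ext g; exact hstab g
  have hQn : (Q.subgroupOf (MulAction.stabilizer G x₀)).Normal :=
    (normal_subgroupOf_iff_le_normalizer hle).2 hst.le
  rcases S0731.result hZ x₀ Q hle hQn hab hreg with ⟨h3, htriv⟩ | ⟨F, fF, fFin, hF, hiso⟩
  · exfalso
    haveI := Fintype.ofFinite (G ⧸ N)
    haveI := h3
    have hc3 : 3 ≤ Fintype.card (G ⧸ N) := by
      rw [← Nat.card_eq_fintype_card, show Nat.card (G ⧸ N) = N.index from rfl, hidx]; omega
    obtain ⟨t₀⟩ : Nonempty (Fin 3 ↪ G ⧸ N) :=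
      Function.Embedding.nonempty_of_card_le (by rw [Fintype.card_fin]; exact hc3)
    have e := card_mul_index (MulAction.stabilizer G t₀)
    rw [htriv t₀, card_bot, one_mul] at e
    haveI : MulAction.IsPretransitive G (Fin 3 ↪ G ⧸ N) := h3
    have e2 := MulAction.index_stabilizer_of_transitive G t₀
    rw [htriv t₀] at e2
    rw [e2, Nat.card_eq_fintype_card, Fintype.card_embedding_eq, Fintype.card_fin,
      ← Nat.card_eq_fintype_card, show Nat.card (G ⧸ N) = N.index from rfl, hidx] at e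
    simp only [Nat.descFactorial_succ, Nat.descFactorial_zero, mul_one, Nat.sub_zero, Nat.add_sub_cancel] at e
    have h12 : (q + 1 - 2) = q - 1 := by omega
    rw [h12] at e
    have hh : 2 * Nat.card G = Nat.card G := by
      rw [hord]
      nth_rw 1 [← e]
      ring
    omega
  · exact ⟨F, fF, fFin, Nat.odd_iff.2 (FiniteField.odd_card_of_char_ne_two hF), hiso⟩

end Cfsg.Agent.Screen.BSW
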