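import Cfsg.Agent.Screen.BSW.Chars

/-!
The two possible orders in the setting of Brauer, Suzuki and Wall, and the centralizers of outside
real elements.
-/

set_option autoImplicit false
set_option linter.unusedSectionVars false
set_option linter.style.haveILetI false

namespace Cfsg.Agent.Screen.BSW

open scoped ComplexConjugate
open Cfsg Cfsg.Agent.Chars

universe u

variable {G : Type u} [Group G] [Finite G] {t s : G} {K : Subgroup G}

/-- The first case. -/
def Plus (t : G) (K : Subgroup G) : Prop :=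
  (Subgroup.centralizer ({t} : Set G)).index = (Nat.card K + 1) * (2 * Nat.card K + 1) ∧
    ∀ y : G, Out K y → IsConj y y⁻¹ ∧
      (Nat.card (Subgroup.centralizer ({y} : Set G)) = Nat.card K + 1 ∨
        Nat.card (Subgroup.centralizer ({y} : Set G)) = 2 * Nat.card K + 1)

/-- The second case. -/
def Minus (t : G) (K : Subgroup G) : Prop :=
  (Subgroup.centralizer ({t} : Set G)).index = (Nat.card K - 1) * (2 * Nat.card K - 1) ∧
    ∀ y : G, Out K y → IsConj y y⁻¹ →
      ∃ j : ℕ, Odd j ∧ Nat.card (Subgroup.centralizer ({y} : Set G)) = (Nat.card K - 1) * j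

theorem plus_divisor {k j r : ℕ} (hk : 4 ≤ k) (hj : 3 ≤ j) (hjk : j < k + 4)
    (h : (j * k + 1) * r = (k + 1) * (2 * k + 1)) : False := by
  obtain ⟨i, rfl⟩ : ∃ i, r = i * k + 1 := by
    have h2 : (k : ℤ) ∣ (r : ℤ) - 1 := ⟨2 * k + 3 - j * r, by
      have : ((j : ℤ) * k + 1) * r = ((k : ℤ) + 1) * (2 * k + 1) := by exact_mod_cast h
      linear_combination this⟩
    have hr : 0 < r := Nat.pos_of_ne_zero fun e => by subst e; simp at h
    obtain ⟨c, hc⟩ := h2
    have hc0 : 0 ≤ c := by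
      by_contra hneg
      have : (k : ℤ) * c ≤ -k := by nlinarith
      omega
    refine ⟨c.toNat, ?_⟩
    zify
    rw [Int.toNat_of_nonneg hc0]
    linarith
  have h' : i * j * k + i + j = 2 * k + 3 := by
    refine Nat.eq_of_mul_eq_mul_right (by omega : 0 < k) ?_
    linarith
  rcases Nat.eq_zero_or_pos i with rfl | hi
  · simp only [zero_mul, zero_add] at h'; omega
  · have : 3 * k ≤ i * j * k := Nat.mul_le_mul_right k (le_trans hj (Nat.le_mul_of_pos_left j hi))
    omega

namespace Setup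

variable (h : Setup t K s)
include h

theorem pairs_out_nonreal {y : G} (hr : ¬ IsConj y y⁻¹) : pairs y = 0 :=
  Components.card_pairs_eq_zero y hr

/-- The dichotomy. -/
theorem dichotomy (hk : 4 ≤ Nat.card K) : Plus t K ∨ Minus t K := by
  classical
  haveI := Fintype.ofFinite G
  obtain ⟨k, hkdef⟩ : ∃ k, k = Nat.card K := ⟨_, rfl⟩
  obtain ⟨n, hndef⟩ : ∃ n, n = (Subgroup.centralizer ({t} : Set G)).index := ⟨_, rfl⟩
  obtain ⟨θ, σ, F, hσ, hFmod, hF0, hF1, hθ1, hnF, hval⟩ := h.exceptional hk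
  rw [← hkdef] at hk
  have hn1 : 0 < n := by rw [hndef]; exact Nat.pos_of_ne_zero Subgroup.index_ne_zero_of_finite
  have hFq0 : (F : ℚ) ≠ 0 := by exact_mod_cast hF0
  have hFq1 : (F : ℚ) - 1 ≠ 0 := sub_ne_zero.2 (by exact_mod_cast hF1)
  obtain ⟨m, hm⟩ : ∃ m : ℤ, F = 2 + 2 * k * m := by
    rw [Int.modEq_iff_dvd] at hFmod
    obtain ⟨c, hc⟩ := hFmod
    refine ⟨-c, ?_⟩
    rw [← hkdef] at hc
    push_cast at hc
    linarith
  rw [← hndef, ← hkdef] at hnF
  have hnZ : (n : ℤ) * m ^ 2 = (1 + k * m) * (1 + 2 * k * m) := by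
    have e : (n : ℚ) * ((F : ℚ) - 2) ^ 2 = 2 * (k : ℚ) ^ 2 * (F * (F - 1)) := by
      rw [← hnF]
      field_simp
      ring
    have e' : (n : ℤ) * (F - 2) ^ 2 = 2 * (k : ℤ) ^ 2 * (F * (F - 1)) := by exact_mod_cast e
    rw [hm] at e'
    have hk2 : (4 * (k : ℤ) ^ 2) ≠ 0 := by positivity
    exact mul_left_cancel₀ hk2 (by linear_combination e')
  have hm1 : m = 1 ∨ m = -1 := by
    have h1 : m ∣ 1 := ⟨n * m - 3 * k - 2 * k ^ 2 * m, by linear_combination -hnZ⟩
    exact Int.isUnit_iff.1 (isUnit_of_dvd_one h1)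
  -- pair counts of outside elements
  have hpe : ∀ y, Out K y → ∀ P : ℕ, P = pairs y → (n : ℂ) * (1 + (σ : ℂ) * (θ : G → ℂ) y / ((F : ℂ) - 1) +
      2 * ((k : ℂ) - 1) * (1 + (σ : ℂ) * (θ : G → ℂ) y) / (F : ℂ)) = 2 * (k : ℂ) * P := by
    intro y hy P hP
    subst hP hndef hkdef
    exact hval y hy
  have hint : ∀ y : G, IsIntegral ℤ ((σ : ℂ) * (θ : G → ℂ) y) := fun y =>
    (isIntegral_algebraMap (x := σ)).mul (DegreeGraph.isIntegral_value (irr_isCharacter θ) y)
  have hcol : ∀ (y : G) (g : ℤ), (σ : ℂ) * (θ : G → ℂ) y = g →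
      g ^ 2 + 1 ≤ (Nat.card (Subgroup.centralizer ({y} : Set G)) : ℤ) := by
    intro y g hg
    have e := column_orth y y
    rw [if_pos (IsConj.refl y)] at e
    simp only [Complex.mul_conj] at e
    have e' : ∑ χ : IrrCharacter G, Complex.normSq ((χ : G → ℂ) y) =
        (Nat.card (Subgroup.centralizer ({y} : Set G)) : ℝ) := by exact_mod_cast e
    have hne : θ ≠ ⟨fun _ => 1, isIrrCharacter_one⟩ := fun q => hθ1 (congrArg Subtype.val q)
    have hle := Finset.sum_le_sum_of_subset_of_nonneg (f := fun χ : IrrCharacter G => Complex.normSq ((χ : G → ℂ) y))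
      (Finset.subset_univ {θ, ⟨fun _ => 1, isIrrCharacter_one⟩}) (fun χ _ _ => Complex.normSq_nonneg _)
    rw [Finset.sum_pair hne, e'] at hle
    have hn : Complex.normSq ((θ : G → ℂ) y) = (g : ℝ) ^ 2 := by
      have : Complex.normSq ((σ : ℂ) * (θ : G → ℂ) y) = (g : ℝ) ^ 2 := by rw [hg]; simp [sq]
      rw [map_mul] at this
      rcases hσ with q | q <;> simp [q] at this <;> exact this
    simp only [hn, Complex.normSq_one] at hle
    exact_mod_cast hle
  rcases hm1 with rfl | rfl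
  · -- the first case
    left
    have hn : n = (k + 1) * (2 * k + 1) := by
      zify; linear_combination hnZ
    refine ⟨by rw [← hndef, ← hkdef]; exact hn, fun y hy => ?_⟩
    obtain ⟨P, hP⟩ : ∃ P, P = pairs y := ⟨_, rfl⟩
    have e := hpe y hy P hP
    rw [hm, hn] at e
    push_cast at e
    have hk0 : (k : ℂ) ≠ 0 := by exact_mod_cast (by omega : k ≠ 0)
    have h21 : (2 : ℂ) * k + 1 ≠ 0 := by exact_mod_cast (by omega : 2 * k + 1 ≠ 0)
    have hk1 : (k : ℂ) + 1 ≠ 0 := by exact_mod_cast (by omega : k + 1 ≠ 0)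
    rw [show (2 : ℂ) + 2 * k * 1 - 1 = 2 * k + 1 by ring, show (2 : ℂ) + 2 * k * 1 = 2 * (k + 1) by ring] at e
    have eP : (k : ℂ) * ((σ : ℂ) * (θ : G → ℂ) y) = (((P : ℤ) - (2 * k + 1) : ℤ) : ℂ) := by
      have e2 : (2 * (k : ℂ)) * (2 * k + 1 + k * ((σ : ℂ) * (θ : G → ℂ) y)) = 2 * k * P := by
        rw [← e]; field_simp; ring
      push_cast
      linear_combination mul_left_cancel₀ (mul_ne_zero two_ne_zero hk0) e2
    obtain ⟨g, hg⟩ := OddChar.exists_int_of_mul_eq (hint y) (by omega : 0 < k) eP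
    rw [hg] at eP
    have eZ : (k : ℤ) * g = P - (2 * k + 1) := by exact_mod_cast eP
    have hr : IsConj y y⁻¹ := by
      by_contra hr
      rw [hP, h.pairs_out_nonreal hr] at eZ
      have : (k : ℤ) ∣ 1 := ⟨-g - 2, by push_cast at eZ; linarith⟩
      have := Int.le_of_dvd one_pos this
      omega
    rw [hP, h.pairs_out_real hy hr] at eZ
    refine ⟨hr, ?_⟩
    have hc := hcol y g hg
    have ha1 := h.one_lt_cent hy
    have hdvd := h.cent_dvd hy hr
    obtain ⟨a, ha⟩ : ∃ a, a = Nat.card (Subgroup.centralizer ({y} : Set G)) := ⟨_, rfl⟩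
    rw [← ha, ← hndef, hn] at hdvd
    rw [← ha] at hc ha1 eZ
    rw [← hkdef, ← ha]
    have hg2 : -2 < g := by
      by_contra hle
      have : (k : ℤ) * g ≤ (k : ℤ) * (-2) := mul_le_mul_of_nonneg_left (by omega) (by omega)
      omega
    rcases le_or_gt g 0 with hg0 | hg0
    · rcases (by omega : g = 0 ∨ g = -1) with rfl | rfl <;> [right; left] <;> zify <;> linarith
    · exfalso
      obtain ⟨r, hr'⟩ := hdvd
      have haj : a = (g + 2).toNat * k + 1 := by
        zify; rw [Int.toNat_of_nonneg (by omega)]; linarith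
      refine plus_divisor hk (j := (g + 2).toNat) (by omega) ?_ (r := r) (by rw [← haj]; exact hr'.symm)
      by_contra hge
      have : (k : ℤ) + 2 ≤ g := by omega
      nlinarith
  · -- the second case
    right
    have hn : n = (k - 1) * (2 * k - 1) := by
      have e : (n : ℤ) = ((k : ℤ) - 1) * (2 * k - 1) := by linear_combination hnZ
      zify [(by omega : 1 ≤ k), (by omega : 1 ≤ 2 * k)]
      exact e
    refine ⟨by rw [← hndef, ← hkdef]; exact hn, fun y hy hr => ?_⟩
    obtain ⟨a, ha⟩ : ∃ a, a = Nat.card (Subgroup.centralizer ({y} : Set G)) := ⟨_, rfl⟩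
    have e := hpe y hy a (by rw [h.pairs_out_real hy hr, ha])
    rw [hm, hn] at e
    push_cast [Nat.cast_sub (by omega : 1 ≤ k), Nat.cast_sub (by omega : 1 ≤ 2 * k)] at e
    have hk0 : (k : ℂ) ≠ 0 := by exact_mod_cast (by omega : k ≠ 0)
    have h21 : (1 : ℂ) - 2 * k ≠ 0 := fun q => by
      have : ((1 - 2 * k : ℤ) : ℂ) = 0 := by push_cast; exact q
      have := Int.cast_eq_zero.1 this
      omega
    have hk1 : (1 : ℂ) - k ≠ 0 := fun q => by
      have : ((1 - k : ℤ) : ℂ) = 0 := by push_cast; exact q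
      have := Int.cast_eq_zero.1 this
      omega
    rw [show (2 : ℂ) + 2 * k * -1 - 1 = 1 - 2 * k by ring, show (2 : ℂ) + 2 * k * -1 = 2 * (1 - k) by ring] at e
    have eP : ((k - 1 : ℕ) : ℂ) * ((σ : ℂ) * (θ : G → ℂ) y) = ((-(a : ℤ) : ℤ) : ℂ) := by
      have e2 : (2 * (k : ℂ)) * (-((k : ℂ) - 1) * ((σ : ℂ) * (θ : G → ℂ) y)) = 2 * k * a := by
        rw [← e]; field_simp; ring
      push_cast [Nat.cast_sub (by omega : 1 ≤ k)]
      linear_combination -(mul_left_cancel₀ (mul_ne_zero two_ne_zero hk0) e2)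
    obtain ⟨g, hg⟩ := OddChar.exists_int_of_mul_eq (hint y) (by omega : 0 < k - 1) eP
    rw [hg] at eP
    have eZ : ((k - 1 : ℕ) : ℤ) * g = -(a : ℤ) := by exact_mod_cast eP
    refine ⟨(-g).toNat, ?_, ?_⟩
    · have hodd := h.out_cent_odd hy
      rw [← ha] at hodd
      have : a = (k - 1) * (-g).toNat := by
        have hg0 : 0 ≤ -g := by
          by_contra hneg
          have : (0 : ℤ) < ((k - 1 : ℕ) : ℤ) * g := mul_pos (by omega) (by omega)
          omega
        zify; rw [Int.toNat_of_nonneg hg0]; linarith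
      rw [this] at hodd
      exact (Nat.odd_mul.1 hodd).2
    · have hg0 : 0 ≤ -g := by
        by_contra hneg
        have : (0 : ℤ) < ((k - 1 : ℕ) : ℤ) * g := mul_pos (by omega) (by omega)
        omega
      rw [← hkdef, ← ha]
      zify; rw [Int.toNat_of_nonneg hg0]; linarith

end Setup

end Cfsg.Agent.Screen.BSW
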