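import Cfsg.Agent.TwoGroups.Involution
import Cfsg.Agent.Components.InvolutionCount
import Cfsg.Agent.Screen.FourCentralizer
import Mathlib.GroupTheory.Sylow
import Mathlib.GroupTheory.Nilpotent
import Mathlib.Tactic.Group

/-!
The setting of the Brauer–Suzuki–Wall theorem: an involution whose centralizer is generalized
dihedral over an abelian trivial intersection subgroup.
-/

set_option autoImplicit false
set_option linter.unusedSectionVars false
set_option linter.style.haveILetI false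

namespace Cfsg.Agent.Screen.BSW

open Subgroup

variable {G : Type*} [Group G]

/-- The hypotheses of the theorem of Brauer, Suzuki and Wall. -/
structure Setup (t : G) (K : Subgroup G) (s : G) : Prop where
  tord : orderOf t = 2
  comm : ∀ x ∈ K, ∀ y ∈ K, x * y = y * x
  tK : t ∈ K
  sord : orderOf s = 2
  sH : s ∈ centralizer ({t} : Set G)
  sK : s ∉ K
  sup : K ⊔ zpowers s = centralizer ({t} : Set G)
  fix : K ⊓ centralizer ({s} : Set G) = zpowers t
  inv : ∀ x ∈ K, s * x * s⁻¹ = x⁻¹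
  ti : ∀ g : G, g ∉ centralizer ({t} : Set G) → K ⊓ K.map (MulAut.conj g).toMonoidHom = ⊥
  one : ∀ x y : G, orderOf x = 2 → orderOf y = 2 → IsConj x y

/-- A nontrivial element without conjugates in `K`. -/
def Out (K : Subgroup G) (y : G) : Prop := y ≠ 1 ∧ ∀ g : G, g * y * g⁻¹ ∉ K

namespace Setup

variable {t s : G} {K : Subgroup G} (h : Setup t K s)
include h

theorem tt : t * t = 1 := TwoGroups.sq_one_of_order_two h.tord

theorem ss : s * s = 1 := TwoGroups.sq_one_of_order_two h.sord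

theorem t_ne_one : t ≠ 1 := fun e => by have := h.tord; rw [e, orderOf_one] at this; omega

theorem s_inv : s⁻¹ = s := TwoGroups.inv_eq_of_sq_one h.ss

theorem K_le : K ≤ centralizer ({t} : Set G) := h.sup ▸ le_sup_left

theorem s_mul {x : G} (hx : x ∈ K) : s * x = x⁻¹ * s := by
  rw [← mul_inv_eq_iff_eq_mul]; exact h.inv x hx

theorem mem_H {g : G} : g ∈ centralizer ({t} : Set G) ↔ g ∈ K ∨ g * s ∈ K := by
  constructor
  · let M : Subgroup G :=
      { carrier := {g | g ∈ K ∨ g * s ∈ K}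
        one_mem' := Or.inl K.one_mem
        mul_mem' := by
          rintro a b (ha | ha) (hb | hb)
          · exact Or.inl (K.mul_mem ha hb)
          · exact Or.inr (by rw [mul_assoc]; exact K.mul_mem ha hb)
          · refine Or.inr ?_
            have : a * b * s = a * s * b⁻¹ := by
              rw [mul_assoc a s, h.s_mul (K.inv_mem hb), inv_inv, mul_assoc]
            rw [this]; exact K.mul_mem ha (K.inv_mem hb)
          · refine Or.inl ?_
            have : a * b = a * s * (b * s)⁻¹ := by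
              have e := h.inv _ hb
              rw [← e]
              simp [mul_assoc, h.s_inv, ← mul_assoc s s, h.ss]
            rw [this]; exact K.mul_mem ha (K.inv_mem hb)
        inv_mem' := by
          rintro a (ha | ha)
          · exact Or.inl (K.inv_mem ha)
          · refine Or.inr ?_
            have : a⁻¹ * s = a * s := by
              have e := h.inv _ ha
              have e2 : (a * s)⁻¹ = s * a⁻¹ := by rw [mul_inv_rev, h.s_inv]
              rw [e2, h.s_inv] at e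
              calc a⁻¹ * s = s * (s * a⁻¹) * s := by rw [← mul_assoc s s, h.ss, one_mul]
                _ = s * (s * (a * s) * s) * s := by rw [e]
                _ = a * s := by simp [mul_assoc, h.ss, ← mul_assoc s s]
            rw [this]; exact ha }
    intro hg
    rw [← h.sup] at hg
    exact (sup_le (fun x hx => Or.inl hx)
      (zpowers_le.2 (Or.inr (by rw [h.ss]; exact K.one_mem))) : K ⊔ zpowers s ≤ M) hg
  · rintro (hg | hg)
    · exact h.K_le hg
    · rw [← h.sup, show g = g * s * s by rw [mul_assoc, h.ss, mul_one]]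
      exact mul_mem (mem_sup_left hg) (mem_sup_right (mem_zpowers s))

theorem refl_sq {x : G} (hx : x ∈ K) : x * s * (x * s) = 1 := by
  rw [mul_assoc, ← mul_assoc s x, h.s_mul hx, mul_assoc x⁻¹, h.ss, mul_one, mul_inv_cancel]

theorem outer_sq {g : G} (hg : g * s ∈ K) : g * g = 1 := by
  have := h.refl_sq hg
  rwa [mul_assoc g s s, h.ss, mul_one] at this

theorem not_both {g : G} (hg : g ∈ K) : g * s ∉ K := fun hgs => h.sK (by
  simpa using K.mul_mem (K.inv_mem hg) hgs)

theorem sq_one_cases {x : G} (hx : x ∈ K) (hxx : x * x = 1) : x = 1 ∨ x = t := by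
  have hc : x ∈ K ⊓ centralizer ({s} : Set G) := by
    refine ⟨hx, mem_centralizer_singleton_iff.2 ?_⟩
    rw [h.s_mul hx, TwoGroups.inv_eq_of_sq_one hxx]
  rw [h.fix, mem_zpowers_iff] at hc
  obtain ⟨i, rfl⟩ := hc
  rcases Int.even_or_odd' i with ⟨j, rfl | rfl⟩
  · left; rw [zpow_mul, zpow_two, h.tt, one_zpow]
  · right; rw [zpow_add, zpow_mul, zpow_two, h.tt, one_zpow, one_mul, zpow_one]

theorem mem_K_of_sq_ne {g : G} (hg : g ∈ centralizer ({t} : Set G)) (h2 : g * g ≠ 1) : g ∈ K :=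
  (h.mem_H.1 hg).resolve_right fun e => h2 (h.outer_sq e)

theorem odd_mem {g : G} (hg : g ∈ centralizer ({t} : Set G)) (ho : Odd (orderOf g)) : g ∈ K := by
  by_cases h2 : g * g = 1
  · have : orderOf g ∣ 2 := orderOf_dvd_of_pow_eq_one (by rw [pow_two, h2])
    rcases (Nat.dvd_prime Nat.prime_two).1 this with e | e
    · rw [orderOf_eq_one_iff.1 e]; exact K.one_mem
    · rw [e] at ho; exact absurd ho (by decide)
  · exact h.mem_K_of_sq_ne hg h2

theorem mem_of_conj {x g : G} (hx : x ∈ K) (hx1 : x ≠ 1) (hgx : g * x * g⁻¹ ∈ K) :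
    g ∈ centralizer ({t} : Set G) := by
  by_contra hg
  have : g * x * g⁻¹ ∈ K ⊓ K.map (MulAut.conj g).toMonoidHom := ⟨hgx, mem_map.2 ⟨x, hx, rfl⟩⟩
  rw [h.ti g hg, mem_bot] at this
  exact hx1 (conj_eq_one_iff.1 this)

theorem conj_cases {x g : G} (hx : x ∈ K) (hgx : g * x * g⁻¹ ∈ K) :
    g * x * g⁻¹ = x ∨ g * x * g⁻¹ = x⁻¹ := by
  by_cases hx1 : x = 1
  · left; simp [hx1]
  rcases h.mem_H.1 (h.mem_of_conj hx hx1 hgx) with hg | hg
  · left; rw [h.comm g hg x hx, mul_inv_cancel_right]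
  · right
    calc g * x * g⁻¹ = (g * s) * (s * x * s⁻¹) * (g * s)⁻¹ := by
          simp [mul_assoc, h.s_inv, ← mul_assoc s s, h.ss]
      _ = _ := by rw [h.inv x hx, h.comm _ hg _ (K.inv_mem hx), mul_inv_cancel_right]

theorem cent {x : G} (hx : x ∈ K) (hx2 : x * x ≠ 1) : centralizer ({x} : Set G) = K := by
  refine le_antisymm (fun g hg => ?_) (fun g hg => mem_centralizer_singleton_iff.2 (h.comm g hg x hx))
  have hgx : g * x * g⁻¹ = x := by rw [mem_centralizer_singleton_iff.1 hg, mul_inv_cancel_right]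
  refine (h.mem_H.1 (h.mem_of_conj hx (fun e => hx2 (by rw [e, one_mul])) (hgx.symm ▸ hx))).resolve_right
    fun hgs => hx2 ?_
  have hinv : g * x * g⁻¹ = x⁻¹ := by
    calc g * x * g⁻¹ = (g * s) * (s * x * s⁻¹) * (g * s)⁻¹ := by
          simp [mul_assoc, h.s_inv, ← mul_assoc s s, h.ss]
      _ = _ := by rw [h.inv x hx, h.comm _ hgs _ (K.inv_mem hx), mul_inv_cancel_right]
  rw [hgx] at hinv
  nth_rw 2 [hinv]; exact mul_inv_cancel x

theorem conj_mem_K {g x : G} (hg : g ∈ centralizer ({t} : Set G)) (hx : x ∈ K) : g * x * g⁻¹ ∈ K := by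
  rcases h.mem_H.1 hg with hg | hg
  · exact K.mul_mem (K.mul_mem hg hx) (K.inv_mem hg)
  · rw [show g * x * g⁻¹ = (g * s) * (s * x * s⁻¹) * (g * s)⁻¹ by
      simp [mul_assoc, h.s_inv, ← mul_assoc s s, h.ss], h.inv x hx]
    exact K.mul_mem (K.mul_mem hg (K.inv_mem hx)) (K.inv_mem hg)

theorem normalizer_sub {X : Subgroup G} (hX : X ≤ K) (hX1 : X ≠ ⊥) :
    normalizer (X : Set G) = centralizer ({t} : Set G) := by
  obtain ⟨⟨x, hx⟩, hx'⟩ := X.ne_bot_iff_exists_ne_one.1 hX1
  have hx1 : x ≠ 1 := fun e => hx' (Subtype.ext e)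
  refine le_antisymm (fun g hg => h.mem_of_conj (hX hx) hx1 (hX ((mem_normalizer_iff.1 hg x).1 hx))) ?_
  have hcj : ∀ g ∈ centralizer ({t} : Set G), ∀ y ∈ X, g * y * g⁻¹ ∈ X := by
    intro g hg y hy
    rcases h.conj_cases (hX hy) (h.conj_mem_K hg (hX hy)) with e | e <;> rw [e]
    exacts [hy, X.inv_mem hy]
  intro g hg
  rw [mem_normalizer_iff]
  intro y
  refine ⟨hcj g hg y, fun hy => ?_⟩
  have := hcj g⁻¹ (inv_mem hg) _ hy
  rwa [show g⁻¹ * (g * y * g⁻¹) * g⁻¹⁻¹ = y by group] at this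

/-- The setting is invariant under conjugation. -/
theorem conj (g : G) : Setup (g * t * g⁻¹) (K.map (MulAut.conj g).toMonoidHom) (g * s * g⁻¹) := by
  set c := (MulAut.conj g).toMonoidHom with hc
  have hinj : Function.Injective c := (MulAut.conj g).injective
  have hcent : ∀ a, centralizer ({g * a * g⁻¹} : Set G) = (centralizer ({a} : Set G)).map c := by
    intro a
    ext y
    rw [mem_map_equiv, mem_centralizer_singleton_iff, mem_centralizer_singleton_iff, MulAut.conj_symm_apply]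
    constructor
    · intro e
      calc g⁻¹ * y * g * a = g⁻¹ * (y * (g * a * g⁻¹)) * g := by group
        _ = _ := by rw [e]; group
    · intro e
      calc y * (g * a * g⁻¹) = g * (g⁻¹ * y * g * a) * g⁻¹ := by group
        _ = _ := by rw [e]; group
  refine ⟨(orderOf_injective c hinj t).trans h.tord, ?_, mem_map.2 ⟨t, h.tK, rfl⟩,
    (orderOf_injective c hinj s).trans h.sord, ?_, ?_, ?_, ?_, ?_, ?_, h.one⟩
  · rintro _ ⟨x, hx, rfl⟩ _ ⟨y, hy, rfl⟩
    rw [← map_mul, h.comm x hx y hy, map_mul]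
  · rw [hcent]; exact mem_map.2 ⟨s, h.sH, rfl⟩
  · intro hs
    obtain ⟨x, hx, hxe⟩ := mem_map.1 hs
    exact h.sK (hinj (hxe : c x = c s) ▸ hx)
  · rw [hcent, ← h.sup, Subgroup.map_sup, MonoidHom.map_zpowers]; rfl
  · rw [hcent, ← Subgroup.map_inf _ _ _ hinj, h.fix, MonoidHom.map_zpowers]; rfl
  · rintro _ ⟨x, hx, rfl⟩
    show g * s * g⁻¹ * (g * x * g⁻¹) * (g * s * g⁻¹)⁻¹ = (g * x * g⁻¹)⁻¹
    rw [show g * s * g⁻¹ * (g * x * g⁻¹) * (g * s * g⁻¹)⁻¹ = g * (s * x * s⁻¹) * g⁻¹ by group, h.inv x hx]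
    group
  · intro a ha
    rw [hcent] at ha
    have hb : g⁻¹ * a * g ∉ centralizer ({t} : Set G) := fun e => ha (mem_map.2 ⟨_, e,
      show g * (g⁻¹ * a * g) * g⁻¹ = a by group⟩)
    have e : (K.map c).map (MulAut.conj a).toMonoidHom =
        (K.map (MulAut.conj (g⁻¹ * a * g)).toMonoidHom).map c := by
      rw [Subgroup.map_map, Subgroup.map_map]
      congr 1
      ext x
      show a * (g * x * g⁻¹) * a⁻¹ = g * (g⁻¹ * a * g * x * (g⁻¹ * a * g)⁻¹) * g⁻¹
      group
    rw [e, ← Subgroup.map_inf _ _ _ hinj, h.ti _ hb, Subgroup.map_bot]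

/-- A setting at every involution, with the same outside elements. -/
theorem at_invol {u : G} (hu : orderOf u = 2) :
    ∃ (K' : Subgroup G) (s' : G), Setup u K' s' ∧ Nat.card K' = Nat.card K ∧
      ∀ x ∈ K', x ≠ 1 → ¬ Out K x := by
  obtain ⟨g, rfl⟩ := isConj_iff.1 (h.one t u h.tord hu)
  refine ⟨_, _, h.conj g, Nat.card_congr (equivMapOfInjective K _ (MulAut.conj g).injective).toEquiv.symm, ?_⟩
  rintro _ ⟨x, hx, rfl⟩ - ⟨-, hout⟩
  refine hout g⁻¹ ?_
  show g⁻¹ * (g * x * g⁻¹) * g⁻¹⁻¹ ∈ K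
  rwa [show g⁻¹ * (g * x * g⁻¹) * g⁻¹⁻¹ = x by group]

section finite

variable [Finite G]

theorem two_dvd_k : 2 ∣ Nat.card K := h.tord ▸ K.orderOf_dvd_natCard h.tK

theorem card_H : Nat.card (centralizer ({t} : Set G)) = 2 * Nat.card K := by
  classical
  have hrel : K.relIndex (centralizer ({t} : Set G)) = 2 := by
    refine relIndex_eq_two_iff_exists_notMem_and.2 ⟨s, h.sH, h.sK, fun b hb => ?_⟩
    rcases h.mem_H.1 hb with hb' | hb'
    · exact Or.inr hb'
    · exact Or.inl hb'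
  have := card_mul_index (K.subgroupOf (centralizer ({t} : Set G)))
  rw [Nat.card_congr (subgroupOfEquivOfLe h.K_le).toEquiv] at this
  rw [← this, ← hrel, Subgroup.relIndex, mul_comm]

theorem card_G : Nat.card G = 2 * Nat.card K * (centralizer ({t} : Set G)).index := by
  rw [← h.card_H, card_mul_index]

theorem coprime : Nat.Coprime (centralizer ({t} : Set G)).index (2 * Nat.card K) := by
  set H := centralizer ({t} : Set G) with hH
  refine Nat.coprime_of_dvd fun p hp hpn hpk => ?_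
  haveI : Fact p.Prime := ⟨hp⟩
  obtain ⟨P⟩ : Nonempty (Sylow p H) := inferInstance
  have hPp : IsPGroup p ((P : Subgroup H).map H.subtype) := P.2.map _
  obtain ⟨Q, hQ⟩ := hPp.exists_le_sylow
  by_cases hp2 : p = 2
  · -- a central involution of a Sylow subgroup
    subst hp2
    haveI : Nontrivial (Q : Subgroup G) := (nontrivial_iff_ne_bot _).2
      (Q.ne_bot_of_dvd_card (h.tord ▸ orderOf_dvd_natCard t))
    haveI := Q.2.center_nontrivial
    obtain ⟨m, hm⟩ := IsPGroup.iff_card.1 (Q.2.to_subgroup (center (Q : Subgroup G)))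
    have hm0 : m ≠ 0 := fun e => absurd (Finite.one_lt_card (α := center (Q : Subgroup G))) (by
      rw [hm, e, pow_zero]; omega)
    obtain ⟨z, hz⟩ := exists_prime_orderOf_dvd_card' 2 (G := center (Q : Subgroup G))
      (hm ▸ dvd_pow_self 2 hm0)
    obtain ⟨K', s', h', hcard, -⟩ := h.at_invol (u := ((z : (Q : Subgroup G)) : G))
      ((Subgroup.orderOf_coe _).trans ((Subgroup.orderOf_coe _).trans hz))
    have hQC : (Q : Subgroup G) ≤ centralizer ({((z : (Q : Subgroup G)) : G)} : Set G) := fun q hq =>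
      mem_centralizer_singleton_iff.2 (congrArg Subtype.val ((mem_center_iff.1 z.2) ⟨q, hq⟩))
    have hidx : (centralizer ({((z : (Q : Subgroup G)) : G)} : Set G)).index = H.index := by
      have e1 := h'.card_G
      rw [hcard] at e1
      have hpos : 0 < 2 * Nat.card K := Nat.mul_pos two_pos Nat.card_pos
      exact Nat.eq_of_mul_eq_mul_left hpos (e1.symm.trans h.card_G)
    exact Q.not_dvd_index ((hidx ▸ hpn).trans (index_dvd_of_le hQC))
  have hlt : (P : Subgroup H).map H.subtype < Q := by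
    refine lt_of_le_of_ne hQ fun e => ?_
    refine Q.not_dvd_index ?_
    rw [← e, index_map_subtype]
    exact dvd_mul_of_dvd_right hpn _
  haveI : Group.IsNilpotent (Q : Subgroup G) := Q.2.isNilpotent
  set P' := ((P : Subgroup H).map H.subtype).subgroupOf (Q : Subgroup G) with hP'
  have hlt' : P' < ⊤ := lt_top_iff_ne_top.2 fun e => hlt.not_ge (subgroupOf_eq_top.1 e)
  obtain ⟨g, hgN, hgP⟩ := SetLike.exists_of_lt (Group.normalizerCondition_of_isNilpotent P' hlt')
  have hodd : ∀ x ∈ (Q : Subgroup G), Odd (orderOf x) := fun x hx => by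
    obtain ⟨m, hm⟩ := IsPGroup.iff_orderOf.1 Q.2 ⟨x, hx⟩
    rw [← Subgroup.orderOf_coe] at hm
    rw [hm]
    exact (hp.odd_of_ne_two hp2).pow
  have hPK : (P : Subgroup H).map H.subtype ≤ K := by
    rintro _ ⟨x, hx, rfl⟩
    exact h.odd_mem x.2 (hodd _ (hQ (mem_map.2 ⟨x, hx, rfl⟩)))
  have hp2k : p ∣ Nat.card H := by rw [h.card_H]; exact hpk
  obtain ⟨⟨z, hz⟩, hz1⟩ := (P : Subgroup H).ne_bot_iff_exists_ne_one.1 (P.ne_bot_of_dvd_card hp2k)
  have hzP : (z : G) ∈ (P : Subgroup H).map H.subtype := mem_map.2 ⟨z, hz, rfl⟩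
  have hgK : (g : G) ∈ K := by
    refine h.odd_mem (h.mem_of_conj (hPK hzP) (fun e => hz1 (Subtype.ext (Subtype.ext e))) (hPK ?_)) (hodd _ g.2)
    exact (mem_normalizer_iff.1 hgN ⟨z, hQ hzP⟩).1 hzP
  have hR : IsPGroup p (((Q : Subgroup G) ⊓ K).subgroupOf H) :=
    (Q.2.to_le inf_le_left).comap_of_injective H.subtype H.subtype_injective
  have heq := P.3 hR (fun x hx => mem_subgroupOf.2 (mem_inf.2
    ⟨hQ (mem_map.2 ⟨x, hx, rfl⟩), hPK (mem_map.2 ⟨x, hx, rfl⟩)⟩))
  exact hgP (mem_subgroupOf.2 (mem_map.2 ⟨⟨g, h.K_le hgK⟩,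
    heq ▸ mem_subgroupOf.2 (mem_inf.2 ⟨g.2, hgK⟩), rfl⟩))

end finite

end Setup

end Cfsg.Agent.Screen.BSW
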