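import Cfsg.Agent.Screen.BSW.Arith

/-!
The normalizers of the maximal abelian subgroups of outside real elements, and the case analysis
giving the subgroup `Q`.
-/

set_option autoImplicit false
set_option linter.unusedSectionVars false
set_option linter.style.haveILetI false

namespace Cfsg.Agent.Screen.BSW

open Subgroup

universe u

variable {G : Type u} [Group G] [Finite G] {t s : G} {K : Subgroup G}

namespace Setup

variable (h : Setup t K s)
include h

theorem exists_split {y u g : G} (hy : Out K y) (hr : IsConj y y⁻¹) (hu : orderOf u = 2)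
    (huy : u * y * u⁻¹ = y⁻¹)
    (hg : g ∈ normalizer ((centralizer ({y} : Set G) : Subgroup G) : Set G)) :
    ∃ a ∈ centralizer ({y} : Set G), Commute (a * g) u := by
  have hi := h.out_inverts hy hu huy
  have huu := TwoGroups.sq_one_of_order_two hu
  have hwy : g * u * g⁻¹ * y * (g * u * g⁻¹)⁻¹ = y⁻¹ := by
    have hmem : g⁻¹ * y * g ∈ centralizer ({y} : Set G) := by
      have := (mem_normalizer_iff.1 (inv_mem hg) y).1 (mem_centralizer_singleton_iff.2 rfl)
      rwa [inv_inv] at this
    have := hi _ hmem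
    calc g * u * g⁻¹ * y * (g * u * g⁻¹)⁻¹ = g * (u * (g⁻¹ * y * g) * u⁻¹) * g⁻¹ := by group
      _ = _ := by rw [this]; group
  have hw := TwoGroups.sq_one_of_order_two (Components.invol_conj hu g)
  have huw : u * (g * u * g⁻¹) ∈ centralizer ({y} : Set G) := by
    refine mem_centralizer_singleton_iff.2 (mul_inv_eq_iff_eq_mul.1 ?_)
    calc u * (g * u * g⁻¹) * y * (u * (g * u * g⁻¹))⁻¹
        = u * (g * u * g⁻¹ * y * (g * u * g⁻¹)⁻¹) * u⁻¹ := by group
      _ = (u * y * u⁻¹)⁻¹ := by rw [hwy]; group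
      _ = y := by rw [huy, inv_inv]
  obtain ⟨a, ha, hae⟩ := TwoGroups.exists_conj_of_odd huu hw (h.odd_of_mem_cent hy huw)
  refine ⟨a, (zpowers_le.2 huw) ha, ?_⟩
  calc a * g * u = a * (g * u * g⁻¹) * a⁻¹ * (a * g) := by group
    _ = u * (a * g) := by rw [hae]

theorem exists_complement {y u : G} (hy : Out K y) (hr : IsConj y y⁻¹) (hu : orderOf u = 2)
    (huy : u * y * u⁻¹ = y⁻¹) {Ku : Subgroup G} {su : G} (hsu : Setup u Ku su) :
    ∃ C : Subgroup G, C ≤ Ku ∧ u ∈ C ∧ centralizer ({y} : Set G) ⊓ C = ⊥ ∧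
      normalizer ((centralizer ({y} : Set G) : Subgroup G) : Set G) = centralizer ({y} : Set G) ⊔ C ∧
      Nat.card (normalizer ((centralizer ({y} : Set G) : Subgroup G) : Set G)) =
        Nat.card (centralizer ({y} : Set G)) * Nat.card C ∧
      Nat.card C ∣ Nat.card (centralizer ({y} : Set G)) - 1 := by
  classical
  haveI := Fintype.ofFinite G
  set A := centralizer ({y} : Set G) with hA
  set N := normalizer (A : Set G) with hN
  have hi := h.out_inverts hy hu huy
  have huu := TwoGroups.sq_one_of_order_two hu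
  have hui := TwoGroups.inv_eq_of_sq_one huu
  have huN : u ∈ N := by
    rw [hN, mem_normalizer_iff]
    intro c
    refine ⟨fun hc => by rw [hi c hc]; exact A.inv_mem hc, fun hc => ?_⟩
    have := hi _ hc
    have e : u * (u * c * u⁻¹) * u⁻¹ = c := by
      simp [mul_assoc, hui, huu]
      simp [← mul_assoc, huu]
    rw [e] at this
    rw [this]; exact A.inv_mem hc
  refine ⟨N ⊓ centralizer ({u} : Set G), ?_, mem_inf.2 ⟨huN, mem_centralizer_singleton_iff.2 rfl⟩, ?_, ?_, ?_, ?_⟩
  · intro c hc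
    obtain ⟨hcN, hcu⟩ := mem_inf.1 hc
    refine (hsu.mem_H.1 hcu).resolve_right fun hcs => ?_
    have hc2 := hsu.outer_sq hcs
    have hc1 : c ≠ 1 := fun e => hsu.sK (by rwa [e, one_mul] at hcs)
    have hco := Components.invol_of_mul_self hc2 hc1
    have hcinv := FourCentralizer.inverts_of_fpf hc2 A
      (fun d hd => (mem_normalizer_iff.1 hcN d).1 hd) (fun d hd => h.out_fpf hy hco hd)
    have hcuA : c * u ∈ A := by
      refine mem_centralizer_singleton_iff.2 (mul_inv_eq_iff_eq_mul.1 ?_)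
      calc c * u * y * (c * u)⁻¹ = c * (u * y * u⁻¹) * c⁻¹ := by group
        _ = (c * y * c⁻¹)⁻¹ := by rw [huy]; group
        _ = y := by rw [hcinv y (mem_centralizer_singleton_iff.2 rfl), inv_inv]
    have hcu' : Commute c u := mem_centralizer_singleton_iff.1 hcu
    have e := h.out_fpf hy hu hcuA (hcu'.mul_left (Commute.refl u))
    have : c = u := by rw [eq_inv_of_mul_eq_one_left e, hui]
    rw [this] at hcs
    exact hsu.not_both hsu.tK hcs
  · refine eq_bot_iff.2 fun c hc => mem_bot.2 ?_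
    obtain ⟨hcA, -, hcu⟩ := hc
    exact h.out_fpf hy hu hcA (mem_centralizer_singleton_iff.1 hcu)
  · refine le_antisymm (fun g hg => ?_) (sup_le le_normalizer inf_le_left)
    obtain ⟨a, ha, hag⟩ := h.exists_split hy hr hu huy hg
    rw [show g = a⁻¹ * (a * g) by group]
    exact mul_mem (mem_sup_left (A.inv_mem ha)) (mem_sup_right (mem_inf.2
      ⟨mul_mem (le_normalizer ha) hg, mem_centralizer_singleton_iff.2 hag⟩))
  · rw [← Nat.card_prod]
    refine (Nat.card_eq_of_bijective (fun p : A × (N ⊓ centralizer ({u} : Set G) : Subgroup G) =>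
      (⟨(p.1 : G) * p.2, mul_mem (le_normalizer p.1.2) (mem_inf.1 p.2.2).1⟩ : N)) ⟨?_, ?_⟩).symm
    · rintro ⟨a, c⟩ ⟨a', c'⟩ e
      have e' : (a : G) * c = a' * c' := congrArg Subtype.val e
      have hd : ((a' : G))⁻¹ * a = (c' : G) * (c : G)⁻¹ := by
        calc ((a' : G))⁻¹ * a = (a' : G)⁻¹ * (a * c) * (c : G)⁻¹ := by group
          _ = _ := by rw [e']; group
      have h1 : ((a' : G))⁻¹ * a = 1 := h.out_fpf hy hu (A.mul_mem (A.inv_mem a'.2) a.2)
        (mem_centralizer_singleton_iff.1 (by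
          rw [hd]; exact mul_mem (mem_inf.1 c'.2).2 (inv_mem (mem_inf.1 c.2).2)))
      have ha : a' = a := Subtype.ext (inv_mul_eq_one.1 h1)
      subst ha
      rw [Subtype.ext (mul_left_cancel e') ]
    · rintro ⟨g, hg⟩
      obtain ⟨a, ha, hag⟩ := h.exists_split hy hr hu huy hg
      exact ⟨(⟨a⁻¹, A.inv_mem ha⟩, ⟨a * g, mem_inf.2
        ⟨mul_mem (le_normalizer ha) hg, mem_centralizer_singleton_iff.2 hag⟩⟩),
        Subtype.ext (inv_mul_cancel_left a g)⟩
  · set C := N ⊓ centralizer ({u} : Set G)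
    let f : G → Finset G := fun z => (Finset.univ.filter (· ∈ C)).image fun c => c * z * c⁻¹
    set S := Finset.univ.filter fun z : G => z ∈ A ∧ z ≠ 1
    have hS : S.card = Nat.card A - 1 := by
      have : S = (Finset.univ.filter (· ∈ A)).erase 1 := by ext z; simp [S, and_comm]
      rw [this, Finset.card_erase_of_mem (by simp), Nat.card_eq_fintype_card, Fintype.card_subtype]
    have hcard : ∀ z ∈ S, (S.filter fun z' => f z' = f z).card = Nat.card C := by
      intro z hz
      obtain ⟨hzA, hz1⟩ := (Finset.mem_filter.1 hz).2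
      obtain ⟨-, -, hCz⟩ := h.out_mem hy hr hzA hz1
      have heq : (S.filter fun z' => f z' = f z) = f z := by
        ext z'
        simp only [Finset.mem_filter]
        constructor
        · rintro ⟨-, e⟩
          rw [← e]
          exact Finset.mem_image.2 ⟨1, by simp, by group⟩
        · intro hz'
          obtain ⟨c, hc, rfl⟩ := Finset.mem_image.1 hz'
          have hcC : c ∈ C := (Finset.mem_filter.1 hc).2
          refine ⟨Finset.mem_filter.2 ⟨Finset.mem_univ _,
            (mem_normalizer_iff.1 (mem_inf.1 hcC).1 z).1 hzA, fun e => hz1 (conj_eq_one_iff.1 e)⟩, ?_⟩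
          ext w
          simp only [f, Finset.mem_image, Finset.mem_filter, Finset.mem_univ, true_and]
          constructor
          · rintro ⟨d, hd, rfl⟩; exact ⟨d * c, mul_mem hd hcC, by group⟩
          · rintro ⟨d, hd, rfl⟩; exact ⟨d * c⁻¹, mul_mem hd (inv_mem hcC), by group⟩
      rw [heq, Finset.card_image_of_injOn, Nat.card_eq_fintype_card, Fintype.card_subtype]
      intro c hc d hd e
      simp only [Finset.coe_filter, Finset.mem_univ, true_and, Set.mem_setOf_eq] at hc hd
      have h1 : d⁻¹ * c ∈ centralizer ({z} : Set G) := by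
        refine mem_centralizer_singleton_iff.2 (mul_inv_eq_iff_eq_mul.1 ?_)
        calc d⁻¹ * c * z * (d⁻¹ * c)⁻¹ = d⁻¹ * (c * z * c⁻¹) * d := by group
          _ = z := by rw [show c * z * c⁻¹ = d * z * d⁻¹ from e]; group
      rw [hCz] at h1
      exact (inv_mul_eq_one.1 (h.out_fpf hy hu h1 (mem_centralizer_singleton_iff.1
        (mul_mem (inv_mem (mem_inf.1 hd).2) (mem_inf.1 hc).2)))).symm
    rw [← hS, Finset.card_eq_sum_card_image f S, Finset.sum_congr rfl fun b hb => ?_, Finset.sum_const,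
      smul_eq_mul]
    · exact Dvd.intro_left _ rfl
    · obtain ⟨z, hz, rfl⟩ := Finset.mem_image.1 hb
      exact hcard z hz

/-- The size of the union of the conjugates. -/
theorem card_union {y : G} (hy : Out K y) (hr : IsConj y y⁻¹) :
    ∃ U : Set G, (∀ z ∈ U, Out K z ∧ IsConj z z⁻¹ ∧
        Nat.card (centralizer ({z} : Set G)) = Nat.card (centralizer ({y} : Set G))) ∧
      U.ncard * Nat.card (normalizer ((centralizer ({y} : Set G) : Subgroup G) : Set G)) =
        Nat.card G * (Nat.card (centralizer ({y} : Set G)) - 1) := by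
  classical
  haveI := Fintype.ofFinite G
  set A := centralizer ({y} : Set G) with hA
  set N := normalizer (A : Set G) with hN
  let f : (G ⧸ N) × {x : A // x ≠ 1} → G := fun p => p.1.out * (p.2.1 : G) * p.1.out⁻¹
  refine ⟨Set.range f, ?_, ?_⟩
  · rintro _ ⟨⟨g, ⟨⟨x, hx⟩, hx1⟩⟩, rfl⟩
    obtain ⟨ho, hxr, hxC⟩ := h.out_mem hy hr hx fun e => hx1 (Subtype.ext e)
    refine ⟨out_conj ho _, ?_, ?_⟩
    · obtain ⟨c, hc⟩ := isConj_iff.1 hxr
      refine isConj_iff.2 ⟨g.out * c * g.out⁻¹, ?_⟩
      show g.out * c * g.out⁻¹ * (g.out * x * g.out⁻¹) * (g.out * c * g.out⁻¹)⁻¹ = (g.out * x * g.out⁻¹)⁻¹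
      calc _ = g.out * (c * x * c⁻¹) * g.out⁻¹ := by group
        _ = _ := by rw [hc]; group
    · refine (Nat.card_congr ((MulAut.conj g.out⁻¹).toEquiv.subtypeEquiv fun c => ?_)).trans
        (congrArg (fun B : Subgroup G => Nat.card B) hxC)
      simp only [mem_centralizer_singleton_iff, MulEquiv.toEquiv_eq_coe, MulEquiv.coe_toEquiv,
        MulAut.conj_apply, inv_inv]
      show c * (g.out * x * g.out⁻¹) = g.out * x * g.out⁻¹ * c ↔ _
      constructor
      · intro e
        calc g.out⁻¹ * c * g.out * x = g.out⁻¹ * (c * (g.out * x * g.out⁻¹)) * g.out := by group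
          _ = _ := by rw [e]; group
      · intro e
        calc c * (g.out * x * g.out⁻¹) = g.out * (g.out⁻¹ * c * g.out * x) * g.out⁻¹ := by group
          _ = _ := by rw [e]; group
  · have hinj : Function.Injective f := by
      rintro ⟨a, ⟨⟨x, hx⟩, hx1⟩⟩ ⟨b, ⟨⟨z, hz⟩, hz1⟩⟩ e
      have e' : a.out * x * a.out⁻¹ = b.out * z * b.out⁻¹ := e
      have hab : b.out⁻¹ * a.out ∈ N := by
        obtain ⟨-, -, hxC⟩ := h.out_mem hy hr hx fun q => hx1 (Subtype.ext q)
        obtain ⟨-, -, hzC⟩ := h.out_mem hy hr hz fun q => hz1 (Subtype.ext q)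
        set c := b.out⁻¹ * a.out with hc
        have hcx : c * x * c⁻¹ = z := by
          calc c * x * c⁻¹ = b.out⁻¹ * (a.out * x * a.out⁻¹) * b.out := by rw [hc]; group
            _ = z := by rw [e']; group
        rw [hN, mem_normalizer_iff]
        intro w
        constructor
        · intro hw
          rw [hA, ← hxC, mem_centralizer_singleton_iff] at hw
          rw [hA, ← hzC, mem_centralizer_singleton_iff, ← hcx]
          calc c * w * c⁻¹ * (c * x * c⁻¹) = c * (w * x) * c⁻¹ := by group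
            _ = _ := by rw [hw]; group
        · intro hw
          rw [hA, ← hzC, mem_centralizer_singleton_iff, ← hcx] at hw
          rw [hA, ← hxC, mem_centralizer_singleton_iff]
          calc w * x = c⁻¹ * (c * w * c⁻¹ * (c * x * c⁻¹)) * c := by group
            _ = x * w := by rw [hw]; group
      have : b = a := by
        rw [← QuotientGroup.out_eq' a, ← QuotientGroup.out_eq' b]
        exact QuotientGroup.eq.2 hab
      subst this
      have : x = z := mul_left_cancel (mul_right_cancel e')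
      subst this; rfl
    rw [Set.ncard_range_of_injective hinj, Nat.card_prod, mul_right_comm]
    congr 1
    · exact N.index_mul_card
    · simp [Nat.card_eq_fintype_card]

/-- Counting pairs of involutions. -/
theorem counts : ∃ R : Finset G,
    (∀ y, y ∈ R ↔ Out K y) ∧
    R.card + 1 + (centralizer ({t} : Set G)).index * (Nat.card K - 1) = Nat.card G ∧
    (centralizer ({t} : Set G)).index + (centralizer ({t} : Set G)).index * (Nat.card K - 1) * Nat.card K +
        ∑ y ∈ R, pairs y = (centralizer ({t} : Set G)).index ^ 2 := by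
  classical
  haveI := Fintype.ofFinite G
  refine ⟨Finset.univ.filter (Out K), fun y => by simp, ?_, ?_⟩
  all_goals
    have hnot : (Finset.univ.filter fun y : G => y ≠ 1 ∧ ¬ Out K y).card =
        (centralizer ({t} : Set G)).index * (Nat.card K - 1) := by
      rw [← h.card_not_out, Nat.card_eq_fintype_card, Fintype.card_subtype]
    have hsplit : (Finset.univ : Finset G) = {1} ∪ (Finset.univ.filter fun y : G => y ≠ 1 ∧ ¬ Out K y) ∪
        Finset.univ.filter (Out K) := by
      ext y
      by_cases hy : y = 1 <;> by_cases ho : Out K y <;> simp [hy, ho]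
    have hd1 : Disjoint ({1} : Finset G) (Finset.univ.filter fun y : G => y ≠ 1 ∧ ¬ Out K y) := by simp
    have hd2 : Disjoint ({1} ∪ (Finset.univ.filter fun y : G => y ≠ 1 ∧ ¬ Out K y))
        (Finset.univ.filter (Out K)) := by
      rw [Finset.disjoint_left]
      intro y hy hy'
      simp only [Finset.mem_union, Finset.mem_singleton, Finset.mem_filter, Finset.mem_univ, true_and] at hy hy'
      rcases hy with rfl | hy
      · exact hy'.1 rfl
      · exact hy.2 hy'
  · have hu := congrArg Finset.card hsplit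
    rw [Finset.card_union_of_disjoint hd2, Finset.card_union_of_disjoint hd1, hnot, Finset.card_singleton,
      Finset.card_univ, ← Nat.card_eq_fintype_card] at hu
    omega
  · have htot : ∑ y : G, pairs y = (centralizer ({t} : Set G)).index ^ 2 := by
      rw [sq, ← h.card_invol, ← Nat.card_prod,
        Finset.sum_congr rfl fun y _ => show pairs y = Nat.card {p : {v : G // orderOf v = 2} × {v : G // orderOf v = 2} // (p.1 : G) * p.2 = y} from
          Nat.card_congr
            { toFun := fun p => ⟨(⟨p.1.1, p.2.1⟩, ⟨p.1.2, p.2.2.1⟩), p.2.2.2⟩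
              invFun := fun p => ⟨(p.1.1.1, p.1.2.1), p.1.1.2, p.1.2.2, p.2⟩
              left_inv := fun _ => rfl
              right_inv := fun _ => rfl },
        ← Nat.card_sigma]
      exact Nat.card_congr (Equiv.sigmaFiberEquiv _)
    have h1 : pairs (1 : G) = (centralizer ({t} : Set G)).index := by
      rw [← h.card_invol]
      exact Nat.card_congr
        { toFun := fun p => ⟨p.1.1, p.2.1⟩
          invFun := fun v => ⟨(v.1, v.1), v.2, v.2, TwoGroups.sq_one_of_order_two v.2⟩
          left_inv := fun p => Subtype.ext (Prod.ext rfl (by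
            have e := p.2.2.2
            rw [eq_inv_of_mul_eq_one_right e]
            exact (TwoGroups.inv_eq_of_sq_one (TwoGroups.sq_one_of_order_two p.2.1)).symm))
          right_inv := fun _ => rfl }
    have hK : ∀ y ∈ (Finset.univ.filter fun y : G => y ≠ 1 ∧ ¬ Out K y), pairs y = Nat.card K := by
      intro y hy
      obtain ⟨hy1, hy⟩ := (Finset.mem_filter.1 hy).2
      obtain ⟨g, hg⟩ : ∃ g : G, g * y * g⁻¹ ∈ K := by
        by_contra hno; exact hy ⟨hy1, fun g hg => hno ⟨g, hg⟩⟩
      rw [← pairs_conj y g]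
      exact h.pairs_K hg fun e => hy1 (conj_eq_one_iff.1 e)
    have hu : ∑ y : G, pairs y = ∑ y ∈ {1} ∪ (Finset.univ.filter fun y : G => y ≠ 1 ∧ ¬ Out K y) ∪
        Finset.univ.filter (Out K), pairs y := by rw [← hsplit]
    rw [← htot, hu, Finset.sum_union hd2, Finset.sum_union hd1, Finset.sum_singleton, h1,
      Finset.sum_congr rfl hK, Finset.sum_const, hnot, smul_eq_mul]

/-- The first case. -/
theorem plus_structure (hk : 4 ≤ Nat.card K) (hp : Plus t K) :
    ∃ (Q : Subgroup G) (u : G) (Ku : Subgroup G) (su : G), Setup u Ku su ∧ Nat.card Ku = Nat.card K ∧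
      Nat.card Q = 2 * Nat.card K + 1 ∧
      (∀ x ∈ Q, x ≠ 1 → centralizer ({x} : Set G) = Q) ∧
      normalizer (Q : Set G) = Q ⊔ Ku ∧ Q ⊓ Ku = ⊥ := by
  classical
  obtain ⟨hn, hout⟩ := hp
  obtain ⟨R, hR, hR1, hR2⟩ := h.counts
  have hG := h.card_G
  obtain ⟨k, hkdef⟩ : ∃ k, k = Nat.card K := ⟨_, rfl⟩
  rw [hn] at hR1 hR2
  rw [hG, hn] at hR1
  rw [← hkdef] at hout hk hR1 hR2 hn hG
  set R2 := R.filter fun y => Nat.card (centralizer ({y} : Set G)) = 2 * k + 1 with hR2def
  have hcard2 : (R2.card : ℤ) = 4 * k * (k + 1) := by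
    have hpairs : ∀ y ∈ R, (pairs y : ℤ) = (k + 1) + if Nat.card (centralizer ({y} : Set G)) = 2 * k + 1 then (k : ℤ) else 0 := by
      intro y hy
      obtain ⟨hr, hc⟩ := hout y ((hR y).1 hy)
      rw [h.pairs_out_real ((hR y).1 hy) hr]
      rcases hc with e | e <;> rw [e]
      · rw [if_neg (by omega)]; push_cast; ring
      · rw [if_pos rfl]; push_cast; ring
    have hR2' := congrArg (fun x : ℕ => (x : ℤ)) hR2
    push_cast [Nat.cast_sub (by omega : 1 ≤ k)] at hR2'
    rw [Finset.sum_congr rfl hpairs, Finset.sum_add_distrib, Finset.sum_const, nsmul_eq_mul,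
      ← Finset.sum_filter, Finset.sum_const, nsmul_eq_mul] at hR2'
    have hR1' := congrArg (fun x : ℕ => (x : ℤ)) hR1
    push_cast [Nat.cast_sub (by omega : 1 ≤ k)] at hR1'
    refine mul_right_cancel₀ (by omega : (k : ℤ) ≠ 0) ?_
    linear_combination hR2' - ((k : ℤ) + 1) * hR1'
  obtain ⟨y, hy2⟩ := Finset.card_pos.1 (by
    have : (0 : ℤ) < R2.card := by rw [hcard2]; positivity
    exact_mod_cast this : 0 < R2.card)
  obtain ⟨hyR, hya⟩ := Finset.mem_filter.1 hy2
  have hy := (hR y).1 hyR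
  obtain ⟨hr, -⟩ := hout y hy
  obtain ⟨u, hu, huy⟩ := h.out_inverter hy hr
  obtain ⟨Ku, su, hsu, hKu, -⟩ := h.at_invol hu
  obtain ⟨C, hCK, -, hCA, hNeq, hNcard, -⟩ := h.exists_complement hy hr hu huy hsu
  obtain ⟨U, hU, hUcard⟩ := h.card_union hy hr
  have hUle : U.ncard ≤ R2.card := by
    rw [← Set.ncard_coe_finset]
    refine Set.ncard_le_ncard (fun z hz => ?_) (Finset.finite_toSet _)
    obtain ⟨hzo, -, hzc⟩ := hU z hz
    exact Finset.mem_coe.2 (Finset.mem_filter.2 ⟨(hR z).2 hzo, by rw [hzc, hya]⟩)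
  have hCle : Nat.card C ≤ k := hkdef ▸ hKu ▸ card_le_of_le hCK
  rw [hNcard, hya, hG, hn] at hUcard
  simp only [Nat.add_sub_cancel] at hUcard
  have hUle' : (U.ncard : ℤ) ≤ 4 * k * (k + 1) := hcard2 ▸ (Int.ofNat_le.2 hUle)
  have hd : k ≤ Nat.card C := by
    have e := congrArg (fun x : ℕ => (x : ℤ)) hUcard
    push_cast at e
    have e2 : (U.ncard : ℤ) * Nat.card C = 2 * k * (k + 1) * (2 * k) :=
      mul_left_cancel₀ (by omega : (2 * (k : ℤ) + 1) ≠ 0) (by linear_combination e)
    by_contra hlt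
    have h1 : (Nat.card C : ℤ) + 1 ≤ k := by omega
    nlinarith [mul_le_mul hUle' h1 (by positivity) (by positivity)]
  have hCeq : C = Ku := eq_of_le_of_card_ge hCK (by rw [hKu, ← hkdef]; exact hd)
  refine ⟨centralizer ({y} : Set G), u, Ku, su, hsu, hKu, by rw [hya, hkdef], fun x hx hx1 => ?_,
    hCeq ▸ hNeq, hCeq ▸ hCA⟩
  exact (h.out_mem hy hr hx hx1).2.2

/-- In the second case all real outside elements have centralizers of order one less than `K`. -/
theorem minus_real (hk : 4 ≤ Nat.card K) (hm : Minus t K) :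
    (∀ y : G, Out K y → IsConj y y⁻¹ → Nat.card (centralizer ({y} : Set G)) = Nat.card K - 1 ∧
      ∀ u : G, orderOf u = 2 → u * y * u⁻¹ = y⁻¹ →
        normalizer ((centralizer ({y} : Set G) : Subgroup G) : Set G) =
          centralizer ({y} : Set G) ⊔ zpowers u) ∧
      (∃ y, Out K y ∧ IsConj y y⁻¹) ∧
      Nat.card {w : G // Out K w ∧ ¬ IsConj w w⁻¹} = 4 * Nat.card K * (Nat.card K - 1) := by
  classical
  obtain ⟨hn, hout⟩ := hm
  obtain ⟨R, hR, hR1, hR2⟩ := h.counts
  have hG := h.card_G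
  obtain ⟨k, hkdef⟩ : ∃ k, k = Nat.card K := ⟨_, rfl⟩
  rw [hn] at hR1 hR2
  rw [hG, hn] at hR1
  rw [← hkdef] at hout hk hR1 hR2 hn hG ⊢
  set Rr := R.filter fun y => IsConj y y⁻¹ with hRr
  have hsum : (∑ y ∈ Rr, (Nat.card (centralizer ({y} : Set G)) : ℤ)) =
      ((k : ℤ) - 1) * (2 * k - 1) * k * (k - 2) := by
    have e : ∑ y ∈ R, pairs y = ∑ y ∈ Rr, Nat.card (centralizer ({y} : Set G)) := by
      rw [hRr, Finset.sum_filter]
      refine Finset.sum_congr rfl fun y hy => ?_
      by_cases hr : IsConj y y⁻¹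
      · rw [if_pos hr]; exact h.pairs_out_real ((hR y).1 hy) hr
      · rw [if_neg hr]; exact h.pairs_out_nonreal hr
    have hR2' := congrArg (fun x : ℕ => (x : ℤ)) hR2
    rw [e] at hR2'
    push_cast [Nat.cast_sub (by omega : 1 ≤ k), Nat.cast_sub (by omega : 1 ≤ 2 * k)] at hR2'
    linear_combination hR2'
  have hone : ∀ y : G, Out K y → IsConj y y⁻¹ → Nat.card (centralizer ({y} : Set G)) = k - 1 ∧
      ∀ u : G, orderOf u = 2 → u * y * u⁻¹ = y⁻¹ →
        normalizer ((centralizer ({y} : Set G) : Subgroup G) : Set G) =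
          centralizer ({y} : Set G) ⊔ zpowers u := by
    intro y hy hr
    obtain ⟨j, hjodd, hj⟩ := hout y hy hr
    obtain ⟨U, hU, hUcard⟩ := h.card_union hy hr
    have key : ∀ u, orderOf u = 2 → u * y * u⁻¹ = y⁻¹ → ∃ C : Subgroup G, u ∈ C ∧
        normalizer ((centralizer ({y} : Set G) : Subgroup G) : Set G) = centralizer ({y} : Set G) ⊔ C ∧
        Nat.card (normalizer ((centralizer ({y} : Set G) : Subgroup G) : Set G)) =
          Nat.card (centralizer ({y} : Set G)) * Nat.card C ∧
        Nat.card C ∣ k ∧ Nat.card C ∣ (k - 1) * j - 1 := by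
      intro u hu huy
      obtain ⟨Ku, su, hsu, hKu, -⟩ := h.at_invol hu
      obtain ⟨C, hCK, huC, -, hNeq, hNcard, hdvd⟩ := h.exists_complement hy hr hu huy hsu
      exact ⟨C, huC, hNeq, hNcard, hkdef ▸ hKu ▸ card_dvd_of_le hCK, hj ▸ hdvd⟩
    obtain ⟨u₀, hu₀, hu₀y⟩ := h.out_inverter hy hr
    obtain ⟨C₀, -, -, hN₀, hd₀, hd₀'⟩ := key u₀ hu₀ hu₀y
    have hdj : ∀ d : ℕ, d ∣ k → d ∣ (k - 1) * j - 1 → (d : ℤ) ∣ (j : ℤ) + 1 := by
      intro d h1 h2
      have h1' : (d : ℤ) ∣ k := Int.natCast_dvd_natCast.2 h1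
      have h2' : (d : ℤ) ∣ ((k : ℤ) - 1) * j - 1 := by
        have := Int.natCast_dvd_natCast.2 h2
        have hpos : 1 ≤ (k - 1) * j := Nat.one_le_iff_ne_zero.2 (Nat.mul_ne_zero (by omega) (by
          obtain ⟨i, hi⟩ := hjodd; omega))
        rwa [Nat.cast_sub hpos, Nat.cast_mul, Nat.cast_sub (by omega : 1 ≤ k)] at this
      have := dvd_sub (h1'.mul_right (j : ℤ)) h2'
      rwa [show (k : ℤ) * j - (((k : ℤ) - 1) * j - 1) = j + 1 by ring] at this
    have hj1 : j = 1 := by
      have hle : (U.ncard : ℤ) * ((k - 1) * j) ≤ ((k : ℤ) - 1) * (2 * k - 1) * k * (k - 2) := by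
        rw [← hsum]
        have e : (U.ncard : ℤ) * ((k - 1) * j) =
            ∑ y ∈ Finset.filter (· ∈ U) Rr, (Nat.card (centralizer ({y} : Set G)) : ℤ) := by
          rw [Finset.sum_congr rfl (g := fun _ => ((k : ℤ) - 1) * j) fun z hz => ?_, Finset.sum_const,
            nsmul_eq_mul]
          · congr 2
            rw [← Set.ncard_coe_finset]
            congr 1
            ext z
            simp only [Finset.coe_filter, Set.mem_setOf_eq, hRr, Finset.mem_filter]
            exact ⟨fun hz => ⟨⟨(hR z).2 (hU z hz).1, (hU z hz).2.1⟩, hz⟩, fun hz => hz.2⟩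
          · rw [(hU z (Finset.mem_filter.1 hz).2).2.2, hj]
            push_cast [Nat.cast_sub (by omega : 1 ≤ k)]
            ring
        rw [e]
        exact Finset.sum_le_sum_of_subset_of_nonneg (Finset.filter_subset _ _) fun _ _ _ => Int.natCast_nonneg _
      rw [hN₀, hj, hG, hn] at hUcard
      have hdle : (Nat.card C₀ : ℤ) ≤ j + 1 := Int.le_of_dvd (by positivity) (hdj _ hd₀ hd₀')
      have hpos : 1 ≤ (k - 1) * j := Nat.one_le_iff_ne_zero.2 (Nat.mul_ne_zero (by omega) (by
        obtain ⟨i, hi⟩ := hjodd; omega))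
      have e := congrArg (fun x : ℕ => (x : ℤ)) hUcard
      push_cast [Nat.cast_sub hpos, Nat.cast_sub (by omega : 1 ≤ k), Nat.cast_sub (by omega : 1 ≤ 2 * k)] at e
      by_contra hne
      have hj3 : (3 : ℤ) ≤ j := by obtain ⟨i, hi⟩ := hjodd; omega
      have hd0 : (0 : ℤ) ≤ Nat.card C₀ := Int.natCast_nonneg _
      have hM : (0 : ℤ) ≤ ((k : ℤ) - 1) * (2 * k - 1) * k := by
        have : (1 : ℤ) ≤ k := by omega
        exact mul_nonneg (mul_nonneg (by linarith) (by linarith)) (by linarith)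
      have h1 := mul_le_mul_of_nonneg_right hle hd0
      have h2 : ((k : ℤ) - 1) * (2 * k - 1) * k * (k - 2) * Nat.card C₀ ≤
          ((k : ℤ) - 1) * (2 * k - 1) * k * (k - 2) * (j + 1) :=
        mul_le_mul_of_nonneg_left hdle (mul_nonneg hM (by linarith [(by omega : (4 : ℤ) ≤ k)]))
      have hMp : (0 : ℤ) < ((k : ℤ) - 1) * (2 * k - 1) * k := by
        have : (4 : ℤ) ≤ k := by omega
        exact mul_pos (mul_pos (by linarith) (by linarith)) (by linarith)
      have h3 : 2 * (((k : ℤ) - 1) * j - 1) ≤ (k - 2) * (j + 1) := by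
        refine le_of_mul_le_mul_left ?_ hMp
        calc ((k : ℤ) - 1) * (2 * k - 1) * k * (2 * (((k : ℤ) - 1) * j - 1))
            = (U.ncard : ℤ) * ((k - 1) * j) * Nat.card C₀ := by linear_combination -e
          _ ≤ ((k : ℤ) - 1) * (2 * k - 1) * k * (k - 2) * Nat.card C₀ := h1
          _ ≤ ((k : ℤ) - 1) * (2 * k - 1) * k * (k - 2) * (j + 1) := h2
          _ = _ := by ring
      have h4 := mul_le_mul_of_nonneg_left hj3 (by omega : (0 : ℤ) ≤ k)
      linarith
    subst hj1
    rw [mul_one] at hj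
    refine ⟨hj, fun u hu huy => ?_⟩
    obtain ⟨C, huC, hNeq, -, hdk, hdk'⟩ := key u hu huy
    rw [hNeq]
    congr 1
    refine (eq_of_le_of_card_ge (zpowers_le.2 huC) ?_).symm
    rw [Nat.card_zpowers, hu]
    have := hdj _ hdk hdk'
    norm_num at this
    exact Nat.le_of_dvd two_pos (Int.natCast_dvd_natCast.1 this)
  have hRcard : (Rr.card : ℤ) = (2 * k - 1) * k * (k - 2) := by
    rw [Finset.sum_congr rfl (g := fun _ => ((k : ℤ) - 1)) fun y hy => ?_, Finset.sum_const, nsmul_eq_mul] at hsum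
    · refine mul_right_cancel₀ (by omega : ((k : ℤ) - 1) ≠ 0) ?_
      rw [hsum]; ring
    · obtain ⟨hyR, hr⟩ := Finset.mem_filter.1 hy
      rw [(hone y ((hR y).1 hyR) hr).1, Nat.cast_sub (by omega : 1 ≤ k), Nat.cast_one]
  refine ⟨hone, ?_, ?_⟩
  · obtain ⟨y, hy⟩ := Finset.card_pos.1 (by
      have : (0 : ℤ) < Rr.card := by
        rw [hRcard]
        have : (4 : ℤ) ≤ k := by omega
        exact mul_pos (mul_pos (by linarith) (by linarith)) (by linarith)
      exact_mod_cast this : 0 < Rr.card)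
    obtain ⟨hyR, hr⟩ := Finset.mem_filter.1 hy
    exact ⟨y, (hR y).1 hyR, hr⟩
  · haveI := Fintype.ofFinite G
    have e : Nat.card {w : G // Out K w ∧ ¬ IsConj w w⁻¹} = (R.filter fun y => ¬ IsConj y y⁻¹).card := by
      rw [Nat.card_eq_fintype_card, Fintype.card_subtype]
      congr 1
      ext y; simp [hR]
    rw [e]
    have hsplit : Rr.card + (R.filter fun y => ¬ IsConj y y⁻¹).card = R.card := by
      rw [hRr]; convert Finset.card_filter_add_card_filter_not (s := R) (fun y => IsConj y y⁻¹)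
    have hR1' := congrArg (fun x : ℕ => (x : ℤ)) hR1
    rw [← hsplit] at hR1'
    zify [(by omega : 1 ≤ k)]
    push_cast [Nat.cast_sub (by omega : 1 ≤ k), Nat.cast_sub (by omega : 1 ≤ 2 * k)] at hR1' ⊢
    linear_combination hR1' - hRcard

end Setup

end Cfsg.Agent.Screen.BSW
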