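import Cfsg.Agent.Screen.BSW.Basic
import Mathlib.GroupTheory.Coset.Card
import Mathlib.Data.Fintype.Prod

/-!
Elements meeting no conjugate of the trivial intersection subgroup, and pairs of involutions with
given product.
-/

set_option autoImplicit false
set_option linter.unusedSectionVars false
set_option linter.style.haveILetI false

namespace Cfsg.Agent.Screen.BSW

open Subgroup

variable {G : Type*} [Group G] [Finite G] {t s : G} {K : Subgroup G}

/-- Pairs of involutions with product `y`. -/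
noncomputable def pairs (y : G) : ℕ :=
  Nat.card {p : G × G // orderOf p.1 = 2 ∧ orderOf p.2 = 2 ∧ p.1 * p.2 = y}

theorem out_conj {y : G} (hy : Out K y) (g : G) : Out K (g * y * g⁻¹) :=
  ⟨fun e => hy.1 (conj_eq_one_iff.1 e), fun a => by
    rw [show a * (g * y * g⁻¹) * a⁻¹ = a * g * y * (a * g)⁻¹ by group]
    exact hy.2 _⟩

theorem out_of_isConj {y z : G} (hy : Out K y) (hz : IsConj y z) : Out K z := by
  obtain ⟨g, rfl⟩ := isConj_iff.1 hz
  exact out_conj hy g

namespace Setup

variable (h : Setup t K s)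
include h

theorem not_out_invol {u : G} (hu : orderOf u = 2) : ¬ Out K u := by
  rintro ⟨-, hout⟩
  obtain ⟨g, hg⟩ := isConj_iff.1 (h.one u t hu h.tord)
  exact hout g (hg ▸ h.tK)

theorem out_sq {y : G} (hy : Out K y) : y * y ≠ 1 := fun e =>
  h.not_out_invol (Components.invol_of_mul_self e hy.1) hy

/-- No involution commutes with an outside element. -/
theorem out_no_invol {y u : G} (hy : Out K y) (hu : orderOf u = 2) : ¬ Commute y u := by
  intro hc
  obtain ⟨K', s', h', -, hK'⟩ := h.at_invol hu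
  exact hK' y (h'.mem_K_of_sq_ne (mem_centralizer_singleton_iff.2 hc) (h.out_sq hy)) hy.1 hy

theorem out_cent_odd {y : G} (hy : Out K y) : Odd (Nat.card (centralizer ({y} : Set G))) := by
  rw [← Nat.not_even_iff_odd, even_iff_two_dvd]
  intro h2
  obtain ⟨u, hu⟩ := exists_prime_orderOf_dvd_card' 2 h2
  exact h.out_no_invol hy ((Subgroup.orderOf_coe u).trans hu)
    (mem_centralizer_singleton_iff.1 u.2).symm

theorem odd_of_mem_cent {y c : G} (hy : Out K y) (hc : c ∈ centralizer ({y} : Set G)) :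
    Odd (orderOf c) :=
  (h.out_cent_odd hy).of_dvd_nat ((centralizer ({y} : Set G)).orderOf_dvd_natCard hc)

/-- A real outside element is inverted by an involution. -/
theorem out_inverter {y : G} (hy : Out K y) (hr : IsConj y y⁻¹) :
    ∃ u : G, orderOf u = 2 ∧ u * y * u⁻¹ = y⁻¹ := by
  obtain ⟨g, hg⟩ := isConj_iff.1 hr
  have hg2 : g * g ∈ centralizer ({y} : Set G) := by
    refine mem_centralizer_singleton_iff.2 ?_
    have e : g * g * y * (g * g)⁻¹ = y := by
      calc g * g * y * (g * g)⁻¹ = g * (g * y * g⁻¹) * g⁻¹ := by group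
        _ = g * y⁻¹ * g⁻¹ := by rw [hg]
        _ = (g * y * g⁻¹)⁻¹ := by group
        _ = y := by rw [hg, inv_inv]
    exact mul_inv_eq_iff_eq_mul.1 e
  set m := orderOf (g * g)
  obtain ⟨i, hi⟩ := h.odd_of_mem_cent hy hg2
  refine ⟨g ^ m, ?_, ?_⟩
  · have hne : g ^ m ≠ 1 := by
      intro e
      have hconj : g ^ m * y * (g ^ m)⁻¹ = y⁻¹ := by
        rw [show m = 2 * i + 1 from hi, pow_succ', pow_mul, sq]
        have hc : (g * g) ^ i ∈ centralizer ({y} : Set G) := pow_mem hg2 i
        rw [show g * (g * g) ^ i * y * (g * (g * g) ^ i)⁻¹ = g * ((g * g) ^ i * y * ((g * g) ^ i)⁻¹) * g⁻¹ by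
          group, mem_centralizer_singleton_iff.1 hc, mul_inv_cancel_right, hg]
      rw [e, one_mul, inv_one, mul_one] at hconj
      exact h.out_sq hy (by nth_rw 2 [hconj]; exact mul_inv_cancel y)
    refine Components.invol_of_mul_self ?_ hne
    rw [← pow_add, ← two_mul, pow_mul, sq]
    exact pow_orderOf_eq_one _
  · rw [show m = 2 * i + 1 from hi, pow_succ', pow_mul, sq]
    have hc : (g * g) ^ i ∈ centralizer ({y} : Set G) := pow_mem hg2 i
    rw [show g * (g * g) ^ i * y * (g * (g * g) ^ i)⁻¹ = g * ((g * g) ^ i * y * ((g * g) ^ i)⁻¹) * g⁻¹ by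
      group, mem_centralizer_singleton_iff.1 hc, mul_inv_cancel_right, hg]

theorem out_fpf {y u c : G} (hy : Out K y) (hu : orderOf u = 2)
    (hc : c ∈ centralizer ({y} : Set G)) (hcu : Commute c u) : c = 1 := by
  by_contra hc1
  obtain ⟨K', s', h', -, hK'⟩ := h.at_invol hu
  have hodd := h.odd_of_mem_cent hy hc
  have hcK : c ∈ K' := h'.odd_mem (mem_centralizer_singleton_iff.2 hcu) hodd
  have hc2 : c * c ≠ 1 := fun e => by
    rw [Components.invol_of_mul_self e hc1] at hodd
    exact absurd hodd (by decide)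
  have hyK : y ∈ K' := by
    rw [← h'.cent hcK hc2]
    exact mem_centralizer_singleton_iff.2 (mem_centralizer_singleton_iff.1 hc).symm
  exact hK' y hyK hy.1 hy

theorem out_inverts {y u : G} (hy : Out K y) (hu : orderOf u = 2) (huy : u * y * u⁻¹ = y⁻¹) :
    ∀ c ∈ centralizer ({y} : Set G), u * c * u⁻¹ = c⁻¹ := by
  refine FourCentralizer.inverts_of_fpf (TwoGroups.sq_one_of_order_two hu) _ (fun c hc => ?_)
    fun c hc => h.out_fpf hy hu hc
  have h1 : Commute c y := mem_centralizer_singleton_iff.1 hc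
  have h2 := h1.map (MulAut.conj u).toMonoidHom
  simp only [MulEquiv.coe_toMonoidHom, MulAut.conj_apply, huy] at h2
  exact mem_centralizer_singleton_iff.2 (inv_inv y ▸ h2.inv_right)

theorem out_comm {y : G} (hy : Out K y) (hr : IsConj y y⁻¹) :
    ∀ c ∈ centralizer ({y} : Set G), ∀ d ∈ centralizer ({y} : Set G), c * d = d * c := by
  obtain ⟨u, hu, huy⟩ := h.out_inverter hy hr
  intro c hc d hd
  have hi := h.out_inverts hy hu huy
  have h1 := hi _ (mul_mem hc hd)
  rw [show u * (c * d) * u⁻¹ = (u * c * u⁻¹) * (u * d * u⁻¹) by group, hi c hc, hi d hd,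
    mul_inv_rev] at h1
  exact inv_injective (by simpa using h1.symm)

theorem out_mem {y z : G} (hy : Out K y) (hr : IsConj y y⁻¹) (hz : z ∈ centralizer ({y} : Set G))
    (hz1 : z ≠ 1) : Out K z ∧ IsConj z z⁻¹ ∧ centralizer ({z} : Set G) = centralizer ({y} : Set G) := by
  obtain ⟨u, hu, huy⟩ := h.out_inverter hy hr
  have hzy : z * y = y * z := mem_centralizer_singleton_iff.1 hz
  have hodd := h.odd_of_mem_cent hy hz
  have hz2 : z * z ≠ 1 := fun e => by
    rw [Components.invol_of_mul_self e hz1] at hodd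
    exact absurd hodd (by decide)
  have hout : Out K z := by
    refine ⟨hz1, fun g hg => hy.2 g ?_⟩
    have hg2 : g * z * g⁻¹ * (g * z * g⁻¹) ≠ 1 := by
      rw [show g * z * g⁻¹ * (g * z * g⁻¹) = g * (z * z) * g⁻¹ by group, Ne, conj_eq_one_iff]
      exact hz2
    rw [← h.cent hg hg2, mem_centralizer_singleton_iff]
    calc g * y * g⁻¹ * (g * z * g⁻¹) = g * (y * z) * g⁻¹ := by group
      _ = g * z * g⁻¹ * (g * y * g⁻¹) := by rw [← hzy]; group
  have hrz : IsConj z z⁻¹ := isConj_iff.2 ⟨u, h.out_inverts hy hu huy z hz⟩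
  refine ⟨hout, hrz, le_antisymm (fun c hc => ?_) fun c hc => ?_⟩
  · exact mem_centralizer_singleton_iff.2
      (h.out_comm hout hrz c hc y (mem_centralizer_singleton_iff.2 hzy.symm))
  · exact mem_centralizer_singleton_iff.2 (h.out_comm hy hr c hc z hz)

theorem cent_coprime {y : G} (hy : Out K y) (hr : IsConj y y⁻¹) :
    Nat.Coprime (Nat.card (centralizer ({y} : Set G))) (2 * Nat.card K) := by
  refine Nat.coprime_of_dvd fun p hp hpa hpk => ?_
  haveI : Fact p.Prime := ⟨hp⟩
  obtain ⟨z, hz⟩ := exists_prime_orderOf_dvd_card' p hpa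
  have hz1 : (z : G) ≠ 1 := fun e => by
    rw [← Subgroup.orderOf_coe, e, orderOf_one] at hz
    exact hp.ne_one hz.symm
  obtain ⟨hzout, -, -⟩ := h.out_mem hy hr z.2 hz1
  have hp2 : p ≠ 2 := by
    rintro rfl
    exact absurd ((h.out_cent_odd hy).of_dvd_nat hpa) (by decide)
  -- a Sylow subgroup inside the centralizer of the involution
  set H := centralizer ({t} : Set G) with hH
  obtain ⟨P⟩ : Nonempty (Sylow p H) := inferInstance
  have hnp : ¬ p ∣ H.index := fun hd => hp.ne_one (Nat.dvd_one.1 (h.coprime ▸ Nat.dvd_gcd hd hpk))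
  have hPp : IsPGroup p ((P : Subgroup H).map H.subtype) := P.2.map _
  obtain ⟨R, hR⟩ := (IsPGroup.of_card (n := 1) (by rw [Nat.card_zpowers, Subgroup.orderOf_coe, hz, pow_one]) :
    IsPGroup p (zpowers (z : G))).exists_le_sylow
  let Q : Sylow p G := hPp.toSylow (by
    rw [index_map_subtype]
    intro hd
    rcases hp.dvd_mul.1 hd with e | e
    · exact P.not_dvd_index e
    · exact hnp e)
  obtain ⟨g, hg⟩ := MulAction.exists_smul_eq G R Q
  have hmem : g * (z : G) * g⁻¹ ∈ (Q : Subgroup G) :=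
    hg ▸ Subgroup.smul_mem_pointwise_smul _ (MulAut.conj g) _ (hR (mem_zpowers _))
  obtain ⟨x, -, hxe⟩ := mem_map.1 hmem
  refine hzout.2 g (h.odd_mem ?_ ?_)
  · rw [← hxe]; exact x.2
  · have e : orderOf (g * (z : G) * g⁻¹) = orderOf (z : G) :=
      orderOf_injective (MulAut.conj g).toMonoidHom (MulAut.conj g).injective (z : G)
    rw [e, Subgroup.orderOf_coe, hz]
    exact hp.odd_of_ne_two hp2

theorem cent_dvd {y : G} (hy : Out K y) (hr : IsConj y y⁻¹) :
    Nat.card (centralizer ({y} : Set G)) ∣ (centralizer ({t} : Set G)).index := by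
  refine (h.cent_coprime hy hr).dvd_of_dvd_mul_left ?_
  rw [← h.card_G]
  exact card_subgroup_dvd_card _

theorem one_lt_cent {y : G} (hy : Out K y) : 1 < Nat.card (centralizer ({y} : Set G)) := by
  refine (one_lt_card_iff_ne_bot _).2 fun e => hy.1 ?_
  have : y ∈ centralizer ({y} : Set G) := mem_centralizer_singleton_iff.2 rfl
  rwa [e, mem_bot] at this

theorem pairs_out_real {y : G} (hy : Out K y) (hr : IsConj y y⁻¹) :
    pairs y = Nat.card (centralizer ({y} : Set G)) := by
  obtain ⟨u, hu, huy⟩ := h.out_inverter hy hr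
  rw [pairs, Components.card_pairs_inverting y (by rw [sq]; exact h.out_sq hy)]
  refine (Nat.card_congr ((Components.centralizerEquivInverting y u huy).trans (Equiv.subtypeEquivRight
    fun v => ⟨fun hv => ⟨?_, hv⟩, fun hv => hv.2⟩))).symm
  obtain ⟨c, hc, rfl⟩ : ∃ c, c ∈ centralizer ({y} : Set G) ∧ u * c = v := by
    refine ⟨u⁻¹ * v, mem_centralizer_singleton_iff.2 ?_, mul_inv_cancel_left u v⟩
    have e1 : v * y = y⁻¹ * v := mul_inv_eq_iff_eq_mul.1 hv
    have e2 : u⁻¹ * y⁻¹ = y * u⁻¹ := by rw [← huy]; group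
    rw [mul_assoc, e1, ← mul_assoc, e2, mul_assoc]
  have hi := h.out_inverts hy hu huy c hc
  refine Components.invol_of_mul_self ?_ fun e => h.out_no_invol hy hu ?_
  · have : u * c * (u * c) = u * c * u⁻¹ * c := by
      rw [TwoGroups.inv_eq_of_sq_one (TwoGroups.sq_one_of_order_two hu), mul_assoc (u * c) u]
    rw [this, hi, inv_mul_cancel]
  · have hc' : c = u⁻¹ := eq_inv_of_mul_eq_one_right e
    have := (mem_centralizer_singleton_iff.1 hc)
    rw [hc', TwoGroups.inv_eq_of_sq_one (TwoGroups.sq_one_of_order_two hu)] at this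
    exact this.symm

theorem pairs_K {x : G} (hx : x ∈ K) (hx1 : x ≠ 1) : pairs x = Nat.card K := by
  have hrefl : ∀ y ∈ K, orderOf (y * s) = 2 ∧ y * s ∈ centralizer ({t} : Set G) := fun y hy =>
    ⟨Components.invol_of_mul_self (h.refl_sq hy) fun e => h.sK (by
      rw [eq_inv_of_mul_eq_one_right e]; exact K.inv_mem hy), mul_mem (h.K_le hy) h.sH⟩
  have hinvol : ∀ v : G, orderOf v = 2 → v ∈ centralizer ({t} : Set G) → v = t ∨ v * s ∈ K := by
    intro v hv hvH
    rcases h.mem_H.1 hvH with hK | hK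
    · rcases h.sq_one_cases hK (TwoGroups.sq_one_of_order_two hv) with e | e
      · rw [e, orderOf_one] at hv; omega
      · exact Or.inl e
    · exact Or.inr hK
  rcases eq_or_ne x t with rfl | hxt
  · rw [pairs, Nat.card_congr (Components.pairsEquivCommuting x h.tord)]
    refine Nat.card_congr
      { toFun := fun v => ⟨v.1 * s, ((hinvol v.1 v.2.1.1 (mem_centralizer_singleton_iff.2 v.2.1.2)).resolve_left v.2.2)⟩
        invFun := fun y => ⟨y.1 * s, ⟨(hrefl y.1 y.2).1, mem_centralizer_singleton_iff.1 (hrefl y.1 y.2).2⟩,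
          fun e => h.not_both y.2 (e ▸ h.tK)⟩
        left_inv := fun v => Subtype.ext (by simp [mul_assoc, h.ss])
        right_inv := fun y => Subtype.ext (by simp [mul_assoc, h.ss]) }
  · have hx2 : x * x ≠ 1 := fun e => (h.sq_one_cases hx e).elim hx1 hxt
    rw [pairs, Components.card_pairs_inverting x (by rwa [sq])]
    refine Nat.card_congr
      { toFun := fun v => ⟨v.1 * s, ((hinvol v.1 v.2.1
          (h.mem_of_conj hx hx1 (by rw [v.2.2]; exact K.inv_mem hx))).resolve_left fun e => hx2 (by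
            have := v.2.2
            rw [e, h.comm t h.tK x hx, mul_inv_cancel_right] at this
            nth_rw 2 [this]; exact mul_inv_cancel x))⟩
        invFun := fun y => ⟨y.1 * s, (hrefl y.1 y.2).1, by
          rw [show y.1 * s * x * (y.1 * s)⁻¹ = y.1 * (s * x * s⁻¹) * y.1⁻¹ by group, h.inv x hx,
            h.comm y.1 y.2 _ (K.inv_mem hx), mul_inv_cancel_right]⟩
        left_inv := fun v => Subtype.ext (by simp [mul_assoc, h.ss])
        right_inv := fun y => Subtype.ext (by simp [mul_assoc, h.ss]) }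

omit h in
theorem pairs_conj (y g : G) : pairs (g * y * g⁻¹) = pairs y := by
  refine (Nat.card_congr (((MulAut.conj g).toEquiv.prodCongr (MulAut.conj g).toEquiv).subtypeEquiv fun p => ?_)).symm
  simp only [Equiv.prodCongr_apply, Prod.map_fst, Prod.map_snd, MulEquiv.toEquiv_eq_coe,
    MulEquiv.coe_toEquiv, MulEquiv.orderOf_eq, ← map_mul]
  rw [← MulAut.conj_apply, (MulAut.conj g).injective.eq_iff]

/-- The number of involutions is the index of the centralizer. -/
theorem card_invol : Nat.card {v : G // orderOf v = 2} = (centralizer ({t} : Set G)).index := by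
  have e := Components.card_class_mul_centralizer t
  have : Nat.card {v : G // IsConj t v} = Nat.card {v : G // orderOf v = 2} :=
    Nat.card_congr (Equiv.subtypeEquivRight fun v => ⟨fun hv => by
      obtain ⟨g, rfl⟩ := isConj_iff.1 hv
      exact Components.invol_conj h.tord g, fun hv => h.one t v h.tord hv⟩)
  rw [this, ← (centralizer ({t} : Set G)).card_mul_index, mul_comm] at e
  exact Nat.eq_of_mul_eq_mul_left Nat.card_pos e

/-- The number of nontrivial elements with a conjugate in `K`. -/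
theorem card_not_out :
    Nat.card {y : G // y ≠ 1 ∧ ¬ Out K y} = (centralizer ({t} : Set G)).index * (Nat.card K - 1) := by
  classical
  set H := centralizer ({t} : Set G) with hH
  let f : (G ⧸ H) × {x : K // x ≠ 1} → {y : G // y ≠ 1 ∧ ¬ Out K y} := fun p =>
    ⟨p.1.out * (p.2.1 : G) * p.1.out⁻¹, fun e => p.2.2 (Subtype.ext (conj_eq_one_iff.1 e)), fun hout =>
      hout.2 p.1.out⁻¹ (by
        rw [show p.1.out⁻¹ * (p.1.out * (p.2.1 : G) * p.1.out⁻¹) * p.1.out⁻¹⁻¹ = p.2.1 by group]
        exact p.2.1.2)⟩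
  have hf : Function.Bijective f := by
    constructor
    · rintro ⟨a, ⟨⟨x, hx⟩, hx1⟩⟩ ⟨b, ⟨⟨z, hz⟩, hz1⟩⟩ e
      have e' : a.out * x * a.out⁻¹ = b.out * z * b.out⁻¹ := congrArg Subtype.val e
      have hab : b.out⁻¹ * a.out ∈ H := by
        refine h.mem_of_conj hx (fun q => hx1 (Subtype.ext q)) ?_
        rw [show b.out⁻¹ * a.out * x * (b.out⁻¹ * a.out)⁻¹ = b.out⁻¹ * (a.out * x * a.out⁻¹) * b.out by group, e',
          show b.out⁻¹ * (b.out * z * b.out⁻¹) * b.out = z by group]
        exact hz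
      have : b = a := by
        rw [← QuotientGroup.out_eq' a, ← QuotientGroup.out_eq' b]
        exact QuotientGroup.eq.2 hab
      subst this
      have : x = z := mul_left_cancel (mul_right_cancel e')
      subst this; rfl
    · rintro ⟨y, hy1, hy⟩
      obtain ⟨g, hg⟩ : ∃ g : G, g * y * g⁻¹ ∈ K := by
        by_contra hno; exact hy ⟨hy1, fun g hg => hno ⟨g, hg⟩⟩
      set a : G ⧸ H := QuotientGroup.mk g⁻¹
      have hae : g⁻¹⁻¹ * a.out ∈ H := QuotientGroup.eq.1 (QuotientGroup.out_eq' a).symm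
      refine ⟨(a, ⟨⟨(g⁻¹⁻¹ * a.out)⁻¹ * (g * y * g⁻¹) * (g⁻¹⁻¹ * a.out)⁻¹⁻¹,
        h.conj_mem_K (H.inv_mem hae) hg⟩, fun e => hy1 ?_⟩), Subtype.ext ?_⟩
      · have := congrArg Subtype.val e
        simp only [OneMemClass.coe_one, conj_eq_one_iff] at this
        exact this
      · show a.out * _ * a.out⁻¹ = y
        group
  rw [← Nat.card_eq_of_bijective f hf, Nat.card_prod]
  congr 1
  haveI := Fintype.ofFinite K
  simp [Nat.card_eq_fintype_card]

end Setup

end Cfsg.Agent.Screen.BSW
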