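import Cfsg.Agent.Screen.BSW.Comb
import Cfsg.Agent.Screen.BSW.Out
import Cfsg.Agent.LeadWork.CoherentAbelian
import Cfsg.Agent.Chars.Induced
import Cfsg.Agent.BlockChar.CharCount
import Cfsg.Agent.DegreeGraph.Values
import Cfsg.Agent.OddChar.TICongr

/-!
The exceptional characters in the setting of Brauer, Suzuki and Wall, and the order formula.
-/

set_option autoImplicit false
set_option linter.unusedSectionVars false
set_option linter.style.haveILetI false

namespace Cfsg.Agent.Screen.BSW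

open scoped ComplexConjugate
open Cfsg Cfsg.Agent.Chars

universe u

variable {G : Type u} [Group G] [Fintype G] {t s : G} {K : Subgroup G}

/-- Class counts of pairs with given product in terms of pairs of involutions. -/
theorem Setup.prodCount_pairs (h : Setup t K s) (z : G) :
    BlockChar.prodCount t t z = (2 * Nat.card K) ^ 2 * pairs z := by
  classical
  rw [BlockChar.prodCount, pairs]
  have hfib : ∀ v : G, orderOf v = 2 →
      (Finset.univ.filter fun u : G => u * t * u⁻¹ = v).card = 2 * Nat.card K := by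
    intro v hv
    obtain ⟨g, rfl⟩ := isConj_iff.1 (h.one t v h.tord hv)
    rw [← h.card_H, ← Nat.card_eq_finsetCard]
    refine Nat.card_congr ((Equiv.mulLeft g⁻¹).subtypeEquiv fun u => ?_)
    simp only [Finset.mem_filter, Finset.mem_univ, true_and, Equiv.coe_mulLeft,
      Subgroup.mem_centralizer_singleton_iff]
    constructor
    · intro e
      calc g⁻¹ * u * t = g⁻¹ * (u * t * u⁻¹) * u := by group
        _ = t * (g⁻¹ * u) := by rw [e]; group
    · intro e
      calc u * t * u⁻¹ = g * (g⁻¹ * u * t) * u⁻¹ := by group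
        _ = g * t * g⁻¹ := by rw [e]; group
  set S := (Finset.univ : Finset (G × G)).filter fun p => orderOf p.1 = 2 ∧ orderOf p.2 = 2 ∧ p.1 * p.2 = z
  have hS : Nat.card {p : G × G // orderOf p.1 = 2 ∧ orderOf p.2 = 2 ∧ p.1 * p.2 = z} = S.card := by
    rw [Nat.card_eq_fintype_card, Fintype.card_subtype]
  rw [hS, Finset.card_eq_sum_card_fiberwise (t := S)
    (f := fun uw : G × G => (uw.1 * t * uw.1⁻¹, uw.2 * t * uw.2⁻¹)) (fun uw huw => by
      simp only [Finset.coe_filter, S, Finset.mem_univ, true_and, Set.mem_setOf_eq] at huw ⊢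
      exact ⟨Components.invol_conj h.tord _, Components.invol_conj h.tord _, huw⟩)]
  rw [Finset.sum_congr rfl (g := fun _ => (2 * Nat.card K) ^ 2) fun p hp => ?_, Finset.sum_const,
    smul_eq_mul, mul_comm]
  simp only [S, Finset.mem_filter, Finset.mem_univ, true_and] at hp
  rw [sq]
  nth_rw 1 [← hfib p.1 hp.1]
  rw [← hfib p.2 hp.2.1, ← Finset.card_product]
  congr 1
  ext uw
  simp only [Finset.mem_filter, Finset.mem_univ, true_and, Finset.mem_product, Prod.ext_iff]
  constructor
  · rintro ⟨-, e⟩; exact e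
  · rintro ⟨e1, e2⟩; exact ⟨by rw [e1, e2]; exact hp.2.2, e1, e2⟩

theorem isClassFunction_irr_one (y : G) : ((⟨fun _ => 1, isIrrCharacter_one⟩ : IrrCharacter G) : G → ℂ) y = 1 := rfl

/-- The exceptional characters: what is needed from them. -/
theorem Setup.exceptional (h : Setup t K s) (hk : 4 ≤ Nat.card K) :
    ∃ (θ : IrrCharacter G) (σ F : ℤ), (σ = 1 ∨ σ = -1) ∧ F ≡ 2 [ZMOD (2 * Nat.card K : ℕ)] ∧ F ≠ 0 ∧
      F ≠ 1 ∧ (θ : G → ℂ) ≠ (fun _ => 1) ∧
      ((Subgroup.centralizer ({t} : Set G)).index : ℚ) * (1 + 1 / ((F : ℚ) - 1) - 4 / F) =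
        2 * (Nat.card K : ℚ) ^ 2 ∧
      ∀ y : G, Out K y →
        ((Subgroup.centralizer ({t} : Set G)).index : ℂ) *
            (1 + (σ : ℂ) * (θ : G → ℂ) y / ((F : ℂ) - 1) +
              2 * ((Nat.card K : ℂ) - 1) * (1 + (σ : ℂ) * (θ : G → ℂ) y) / (F : ℂ)) =
          2 * (Nat.card K : ℂ) * pairs y := by
  classical
  letI : CommGroup K :=
    { (inferInstance : Group K) with mul_comm := fun a b => Subtype.ext (h.comm a a.2 b b.2) }
  letI : Fintype (K →* ℂˣ) := Fintype.ofFinite _
  letI : Fintype K := Fintype.ofFinite K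
  obtain ⟨k, hkdef⟩ : ∃ k, k = Nat.card K := ⟨_, rfl⟩
  obtain ⟨n, hndef⟩ : ∃ n, n = (Subgroup.centralizer ({t} : Set G)).index := ⟨_, rfl⟩
  rw [← hndef, ← hkdef]
  have hk0 : (k : ℂ) ≠ 0 := by rw [hkdef]; exact_mod_cast Nat.card_pos.ne'
  let lf : (K →* ℂˣ) → K → ℂ := fun l a => (l a : ℂ)
  let β : (K →* ℂˣ) → K → ℂ := fun l => (fun _ => 1) - lf l
  have hlf : ∀ l : K →* ℂˣ, IsCharacter K (lf l) := fun l => (Chars2.linFun_isCharacter l).1
  have hβgen : ∀ l, IsGeneralizedCharacter K (β l) := fun l =>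
    ⟨_, _, isCharacter_one, hlf l, rfl⟩
  let α : (K →* ℂˣ) → G → ℂ := fun l => indFun K (β l)
  have hαcf : ∀ l, IsClassFunction G (α l) := fun l => isClassFunction_indFun K _
  choose x hx using fun (l : K →* ℂˣ) (χ : IrrCharacter G) =>
    exists_classInner_eq_int (isGen_indFun K (hβgen l)) (isGen_of_isCharacter (irr_isCharacter χ))
  have hx' : ∀ l (χ : IrrCharacter G), (x l χ : ℂ) =
      (k : ℂ)⁻¹ * ∑ b : K, (1 - (l b : ℂ)) * conj ((χ : G → ℂ) b) := by
    intro l χ
    rw [← hx l χ, classInner_indFun K _ (isClassFunction_irr χ), classInner_def, hkdef]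
    rfl
  have hdual : ∀ v : K, ∑ l : K →* ℂˣ, (l v : ℂ) = if v = 1 then (k : ℂ) else 0 := fun v => by
    rw [hkdef]; exact LeadWork.Coherent.sum_dual v
  have hconjl : ∀ (l : K →* ℂˣ) (a : K), conj (l a : ℂ) = (l a⁻¹ : ℂ) := fun l a =>
    (LeadWork.Coherent.linFun_inv l a).symm
  have hcardΛ : Fintype.card (K →* ℂˣ) = k := by
    rw [hkdef, ← CommGroup.card_monoidHom_of_hasEnoughRootsOfUnity K ℂ, Nat.card_eq_fintype_card]
  -- the values on `K`
  have hsumx : ∀ (χ : IrrCharacter G) (a : K), ∑ l : K →* ℂˣ, (x l χ : ℂ) * (l a : ℂ) =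
      (if a = 1 then ∑ b : K, (χ : G → ℂ) b else 0) - (χ : G → ℂ) a := by
    intro χ a
    have hreal : ∀ l, (x l χ : ℂ) = (k : ℂ)⁻¹ * ∑ b : K, (1 - (l b⁻¹ : ℂ)) * (χ : G → ℂ) b := by
      intro l
      rw [← map_intCast (starRingEnd ℂ) (x l χ), hx' l χ]
      simp only [map_mul, map_sum, map_inv₀, Complex.conj_natCast, map_sub, map_one, Complex.conj_conj,
        hconjl]
    simp only [hreal, mul_assoc, ← Finset.mul_sum, Finset.sum_mul]
    rw [Finset.sum_comm]
    have e : ∀ b : K, ∑ l : K →* ℂˣ, (1 - (l b⁻¹ : ℂ)) * ((χ : G → ℂ) b * (l a : ℂ)) =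
        (χ : G → ℂ) b * (if a = 1 then (k : ℂ) else 0) -
          if b = a then (k : ℂ) * (χ : G → ℂ) b else 0 := by
      intro b
      have e1 : ∀ l : K →* ℂˣ, (1 - (l b⁻¹ : ℂ)) * ((χ : G → ℂ) b * (l a : ℂ)) =
          (χ : G → ℂ) b * (l a : ℂ) - (χ : G → ℂ) b * (l (b⁻¹ * a) : ℂ) := by
        intro l; rw [map_mul, Units.val_mul]; ring
      simp only [e1, Finset.sum_sub_distrib, ← Finset.mul_sum, hdual, inv_mul_eq_one]
      by_cases hba : b = a <;> simp [hba, mul_comm]
    rw [Finset.sum_congr rfl fun b _ => e b, Finset.sum_sub_distrib, Finset.sum_ite_eq' Finset.univ a,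
      ← Finset.sum_mul]
    simp only [Finset.mem_univ, if_true]
    split_ifs <;> field_simp
    ring
  have hval : ∀ (χ : IrrCharacter G) (a : K), a ≠ 1 →
      (χ : G → ℂ) a = -∑ l : K →* ℂˣ, (x l χ : ℂ) * (l a : ℂ) := by
    intro χ a ha
    rw [hsumx, if_neg ha]; ring
  -- values of the induced functions on `K`
  have hαK : ∀ (m : K →* ℂˣ) (a : K), α m a = 2 - (m a : ℂ) - conj (m a : ℂ) := by
    intro m a
    by_cases ha : a = 1
    · subst ha
      show indFun K (β m) 1 = _
      rw [indFun_apply_one]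
      simp [β, lf]
      norm_num
    have ha' : (a : G) ≠ 1 := fun e => ha (Subtype.ext e)
    have hterm : ∀ g : G, extendByZero K (β m) (g⁻¹ * a * g) =
        (if g ∈ K then 1 - (m a : ℂ) else 0) + if g * s ∈ K then 1 - (m a⁻¹ : ℂ) else 0 := by
      intro g
      by_cases hg : g ∈ K
      · rw [if_pos hg, if_neg (h.not_both hg), add_zero,
          show g⁻¹ * (a : G) * g = a by rw [mul_assoc, h.comm a a.2 g hg, inv_mul_cancel_left],
          extendByZero_coe]
        rfl
      by_cases hgs : g * s ∈ K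
      · rw [if_neg hg, if_pos hgs, zero_add, show g⁻¹ * (a : G) * g = ((a⁻¹ : K) : G) by
          calc g⁻¹ * (a : G) * g = s * ((g * s)⁻¹ * ((a : G) * (g * s))) * s⁻¹ := by group
            _ = _ := by rw [h.comm a a.2 _ hgs, inv_mul_cancel_left, h.inv a a.2]; rfl,
          extendByZero_coe]
        rfl
      rw [if_neg hg, if_neg hgs, add_zero]
      refine extendByZero_of_not_mem K _ fun hin => ?_
      have hH := h.mem_of_conj a.2 ha' (g := g⁻¹) (by rwa [inv_inv])
      rcases h.mem_H.1 (inv_mem hH) with e | e <;> rw [inv_inv] at e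
      exacts [hg e, hgs e]
    show indFun K (β m) a = _
    rw [indFun_apply, Finset.sum_congr rfl fun g _ => hterm g, Finset.sum_add_distrib, ← Finset.sum_filter,
      ← Finset.sum_filter, Finset.sum_const, Finset.sum_const]
    have c1 : (Finset.univ.filter fun g : G => g ∈ K).card = k := by
      rw [hkdef, Nat.card_eq_fintype_card, Fintype.card_subtype]
    have c2 : (Finset.univ.filter fun g : G => g * s ∈ K).card = k := by
      rw [← c1]
      exact Finset.card_equiv (Equiv.mulRight s) (by simp)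
    rw [c1, c2, ← hkdef, nsmul_eq_mul, nsmul_eq_mul, hconjl]
    field_simp
    ring
  have hsuml : ∀ m : K →* ℂˣ, ∑ a : K, (m a : ℂ) = if m = 1 then (k : ℂ) else 0 := by
    intro m
    have e := LeadWork.Coherent.sum_mul_conj m 1
    simp only [MonoidHom.one_apply, Units.val_one, map_one, mul_one] at e
    rw [e, hkdef]
  have hgramC : ∀ l m : K →* ℂˣ, l ≠ 1 → m ≠ 1 → classInner (α l) (α m) =
      2 + (if l = m then 1 else 0) + if l * m = 1 then 1 else 0 := by
    intro l m hl hm
    rw [classInner_indFun K _ (hαcf m), classInner_def, ← hkdef]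
    have e : ∀ a : K, β l a * conj (α m a) = 2 - (m⁻¹ a : ℂˣ) - (m a : ℂ) - 2 * (l a : ℂ) +
        ((l * m⁻¹) a : ℂˣ) + ((l * m) a : ℂˣ) := by
      intro a
      rw [hαK, show conj (2 - (m a : ℂ) - conj (m a : ℂ)) = 2 - (m a : ℂ) - conj (m a : ℂ) by
        simp [map_ofNat, sub_right_comm]]
      simp only [β, lf, Pi.sub_apply, hconjl, MonoidHom.mul_apply,
        MonoidHom.inv_apply, map_inv, Units.val_mul]
      ring
    rw [Finset.sum_congr rfl fun a _ => e a]
    simp only [Finset.sum_add_distrib, Finset.sum_sub_distrib, ← Finset.mul_sum, Finset.sum_const,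
      Finset.card_univ, nsmul_eq_mul, hsuml, if_neg hl, if_neg hm, ← Nat.card_eq_fintype_card, ← hkdef]
    rw [if_congr (inv_eq_one (a := m)) rfl rfl, if_congr (mul_inv_eq_one (a := l) (b := m)) rfl rfl,
      if_neg hm]
    split_ifs <;> field_simp <;> ring
  -- values at the involution
  set tK : K := ⟨t, h.tK⟩ with htK
  have htK1 : tK ≠ 1 := fun e => h.t_ne_one (congrArg Subtype.val e)
  have htt : tK * tK = 1 := Subtype.ext h.tt
  let v : (K →* ℂˣ) → ℤ := fun l => if (l tK : ℂ) = 1 then 1 else -1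
  have hv : ∀ l : K →* ℂˣ, (v l : ℂ) = (l tK : ℂ) := by
    intro l
    have e : (l tK : ℂ) ^ 2 = 1 := by rw [sq, ← Units.val_mul, ← map_mul, htt, map_one, Units.val_one]
    rcases sq_eq_one_iff.1 e with e | e
    · show ((if (l tK : ℂ) = 1 then (1 : ℤ) else -1 : ℤ) : ℂ) = _
      rw [if_pos e, e, Int.cast_one]
    · have h' : ¬ ((l tK : ℂ) = 1) := by rw [e]; norm_num
      show ((if (l tK : ℂ) = 1 then (1 : ℤ) else -1 : ℤ) : ℂ) = _
      rw [if_neg h', e, Int.cast_neg, Int.cast_one]
  obtain ⟨eΛ⟩ := CommGroup.monoidHom_mulEquiv_of_hasEnoughRootsOfUnity K ℂ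
  obtain ⟨o, ho⟩ : ∃ o : IrrCharacter G, o = ⟨fun _ => 1, isIrrCharacter_one⟩ := ⟨_, rfl⟩
  choose d hd using fun χ : IrrCharacter G => exists_apply_one_eq (irr_isCharacter χ)
  have hd0 : ∀ χ, 0 < d χ := fun χ => Nat.pos_of_ne_zero fun e =>
    irr_apply_one_ne_zero χ.2 (by rw [hd, e, Nat.cast_zero])
  have hm1 : ∀ χ : IrrCharacter G, ∃ m : ℕ, ∑ b : K, (χ : G → ℂ) b = (k : ℂ) * m := by
    intro χ
    obtain ⟨m, hm⟩ := exists_classInner_eq_nat (isCharacter_restrict (irr_isCharacter χ) K)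
      (isCharacter_one (G := K))
    refine ⟨m, ?_⟩
    rw [classInner_def, ← hkdef] at hm
    simp only [map_one, mul_one] at hm
    rw [← hm]; field_simp
  have hsys : Comb.Sys x o (fun χ => (d χ : ℤ)) v (eΛ.symm tK) k := by
    refine
      { card := hcardΛ, hone := ?_, htriv := ?_, gram := ?_, dpos := fun χ => by exact_mod_cast hd0 χ,
        dgo := ?_, deg := ?_, cong := ?_, vone := by simp [v], vsgn := fun l => by
          simp only [v]; split_ifs <;> simp,
        vinv := ?_, vsum := ?_, l0ne := fun e => htK1 (by simpa using congrArg eΛ e),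
        l0sq := by rw [← map_mul, htt, map_one], sq_eq := ?_ }
    · intro χ
      have := hx' 1 χ
      simp only [MonoidHom.one_apply, Units.val_one, sub_self, zero_mul, Finset.sum_const_zero,
        mul_zero] at this
      exact_mod_cast this
    · intro l hl
      have := hx' l o
      subst ho
      simp only [map_one, mul_one, Finset.sum_sub_distrib, Finset.sum_const, Finset.card_univ,
        nsmul_eq_mul, hsuml, if_neg hl, sub_zero, ← Nat.card_eq_fintype_card, ← hkdef,
        inv_mul_cancel₀ hk0] at this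
      exact_mod_cast this
    · intro l m hl hm
      have e := hgramC l m hl hm
      rw [classInner_eq_sum (hαcf l)] at e
      have e' : ∀ χ : IrrCharacter G, classInner (α l) (χ : G → ℂ) * classInner (χ : G → ℂ) (α m) =
          ((x l χ * x m χ : ℤ) : ℂ) := by
        intro χ
        rw [← classInner_conj_symm (α m) (χ : G → ℂ), hx, hx, map_intCast, Int.cast_mul]
      rw [Finset.sum_congr rfl fun χ _ => e' χ, ← Int.cast_sum] at e
      refine Int.cast_injective (α := ℂ) ?_
      rw [e]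
      split_ifs <;> norm_num
    · have := hd o
      subst ho
      simp only [] at this
      exact_mod_cast this.symm
    · intro l
      have e := congrFun (eq_sum_classInner (hαcf l)) 1
      simp only [Finset.sum_apply, Pi.smul_apply, smul_eq_mul] at e
      have e0 : α l 1 = 0 := by
        show indFun K (β l) 1 = 0
        rw [indFun_apply_one]; simp [β, lf]
      rw [e0] at e
      refine Int.cast_injective (α := ℂ) ?_
      rw [Int.cast_zero, e, Int.cast_sum]
      refine Finset.sum_congr rfl fun χ _ => ?_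
      rw [hx l χ, hd χ]; push_cast; ring
    · intro χ
      obtain ⟨m, hm⟩ := hm1 χ
      have e := hsumx χ 1
      rw [if_pos rfl, hm] at e
      simp only [map_one, Units.val_one, mul_one, OneMemClass.coe_one, hd χ] at e
      have e' : (∑ l, x l χ) = (k : ℤ) * m - d χ := by
        refine Int.cast_injective (α := ℂ) ?_
        push_cast; exact e
      rw [Int.modEq_iff_dvd, e']
      exact ⟨-(m : ℤ), by ring⟩
    · intro l
      refine Int.cast_injective (α := ℂ) ?_
      rw [hv, hv, MonoidHom.inv_apply, ← map_inv, inv_eq_of_mul_eq_one_right htt]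
    · refine Int.cast_injective (α := ℂ) ?_
      rw [Int.cast_sum, Int.cast_zero, Finset.sum_congr rfl fun l _ => hv l, hdual, if_neg htK1]
    · intro l hll
      have e : ((eΛ l : K) : G) * (eΛ l : K) = 1 := by
        have := congrArg eΛ hll
        rw [map_mul, map_one] at this
        exact congrArg Subtype.val this
      rcases h.sq_one_cases (eΛ l).2 e with e1 | e1
      · left; exact eΛ.injective (by rw [map_one]; exact Subtype.ext e1)
      · right; apply eΛ.injective; rw [MulEquiv.apply_symm_apply]; exact Subtype.ext e1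
  have htv : ∀ χ : IrrCharacter G, ((Comb.tv x v χ : ℤ) : ℂ) = (χ : G → ℂ) t := by
    intro χ
    rw [show (χ : G → ℂ) t = (χ : G → ℂ) (tK : G) from rfl, hval χ tK htK1, Comb.tv]
    push_cast
    exact congrArg Neg.neg (Finset.sum_congr rfl fun l _ => by rw [hv, mul_comm])
  have hn0 : (n : ℂ) ≠ 0 := by rw [hndef]; exact_mod_cast Subgroup.index_ne_zero_of_finite
  have hpc : ∀ z : G, (n : ℂ) * ∑ χ : IrrCharacter G,
      ((Comb.tv x v χ : ℤ) : ℂ) ^ 2 * (χ : G → ℂ) z / (d χ : ℂ) = 2 * (k : ℂ) * pairs z := by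
    intro z
    have e := BlockChar.prodCount_eq t t z
    rw [h.prodCount_pairs, ← hkdef, h.card_G, ← hkdef, ← hndef] at e
    push_cast at e
    have e' : ∑ χ : IrrCharacter G, conj ((χ : G → ℂ) t * (χ : G → ℂ) t) * (χ : G → ℂ) z / (χ : G → ℂ) 1 =
        ∑ χ : IrrCharacter G, ((Comb.tv x v χ : ℤ) : ℂ) ^ 2 * (χ : G → ℂ) z / (d χ : ℂ) :=
      Finset.sum_congr rfl fun χ _ => by rw [← htv, map_mul, map_intCast, ← hd χ, sq]
    rw [e'] at e
    refine mul_left_cancel₀ (mul_ne_zero two_ne_zero hk0) ?_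
    linear_combination -e
  obtain ⟨c, hc⟩ : ∃ c : ℂ, c = 2 * (k : ℂ) ^ 2 / n := ⟨_, rfl⟩
  have hcK : ∀ a : K, a ≠ 1 →
      ∑ χ : IrrCharacter G, ((Comb.tv x v χ : ℤ) : ℂ) ^ 2 * (χ : G → ℂ) a / (d χ : ℂ) = c := by
    intro a ha
    have e := hpc a
    rw [h.pairs_K a.2 (fun e' => ha (Subtype.ext e')), ← hkdef] at e
    rw [hc, eq_div_iff hn0]
    linear_combination e
  have hS : ∀ m : K →* ℂˣ, m ≠ 1 →
      ∑ χ : IrrCharacter G, (x m χ : ℂ) * ((Comb.tv x v χ : ℤ) : ℂ) ^ 2 / (d χ : ℂ) = c := by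
    intro m hm
    let C : (K →* ℂˣ) → ℂ := fun l => ∑ χ : IrrCharacter G, (x l χ : ℂ) * ((Comb.tv x v χ : ℤ) : ℂ) ^ 2 / (d χ : ℂ)
    show C m = c
    have hCa : ∀ a : K, a ≠ 1 → ∑ l, C l * (l a : ℂ) = -c := by
      intro a ha
      simp only [C, Finset.sum_mul]
      rw [Finset.sum_comm, ← hcK a ha, ← Finset.sum_neg_distrib]
      refine Finset.sum_congr rfl fun χ _ => ?_
      rw [hval χ a ha, mul_neg, neg_div, neg_neg, Finset.mul_sum, Finset.sum_div]
      exact Finset.sum_congr rfl fun l _ => by ring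
    have hkey : ∀ p : K →* ℂˣ, (k : ℂ) * C p =
        (∑ l, C l) + c - if p = 1 then (k : ℂ) * c else 0 := by
      intro p
      have e : ∀ a : K, (∑ l, C l * (l a : ℂ)) * (p⁻¹ a : ℂˣ) =
          (if a = 1 then (∑ l, C l) + c else 0) - c * (p⁻¹ a : ℂˣ) := by
        intro a
        by_cases ha : a = 1
        · subst ha; simp
        · rw [hCa a ha, if_neg ha]; ring
      have e2 := Finset.sum_congr (rfl : (Finset.univ : Finset K) = Finset.univ) fun a _ => e a
      rw [Finset.sum_sub_distrib, Finset.sum_ite_eq', if_pos (Finset.mem_univ _), ← Finset.mul_sum,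
        hsuml] at e2
      simp only [Finset.sum_mul] at e2
      rw [Finset.sum_comm, Finset.sum_congr rfl (g := fun l => if l = p then (k : ℂ) * C l else 0) fun l _ => ?_,
        Finset.sum_ite_eq', if_pos (Finset.mem_univ _)] at e2
      · rw [e2, if_congr (inv_eq_one (a := p)) rfl rfl]
        split_ifs <;> ring
      · have e3 : ∀ a : K, C l * (l a : ℂ) * (p⁻¹ a : ℂˣ) = C l * ((l * p⁻¹) a : ℂˣ) := by
          intro a; rw [MonoidHom.mul_apply, Units.val_mul]; ring
        rw [Finset.sum_congr rfl fun a _ => e3 a, ← Finset.mul_sum, hsuml,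
          if_congr (mul_inv_eq_one (a := l) (b := p)) rfl rfl]
        split_ifs <;> ring
    have e1 := hkey 1
    have hC1 : C 1 = 0 := by
      simp only [C, hsys.hone, Int.cast_zero, zero_mul, zero_div, Finset.sum_const_zero]
    rw [hC1, if_pos rfl] at e1
    have e2 := hkey m
    rw [if_neg hm] at e2
    refine mul_left_cancel₀ hk0 ?_
    linear_combination e2 - e1
  have hSq : ∀ m : K →* ℂˣ, m ≠ 1 →
      ∑ χ : IrrCharacter G, (x m χ : ℚ) * (Comb.tv x v χ : ℚ) ^ 2 / ((d χ : ℤ) : ℚ) = 2 * (k : ℚ) ^ 2 / n := by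
    intro m hm
    have e := hS m hm
    rw [hc] at e
    apply Rat.cast_injective (α := ℂ)
    push_cast
    exact e
  obtain ⟨θ, σ, F, hθo, hσ, -, hF, hFmod, hF0, hFS, hin⟩ := Comb.main hsys (hkdef ▸ hk) hSq
  refine ⟨θ, σ, F, hσ, hFmod, hF0, ?_, ?_, ?_, fun y hy => ?_⟩
  · intro e
    rw [e] at hF
    rcases hσ with p | p <;> rw [p] at hF <;> have := hd0 θ <;> omega
  · intro e
    exact hθo (by rw [ho]; exact Subtype.ext e)
  · rw [← hFS]
    have : (n : ℚ) ≠ 0 := by rw [hndef]; exact_mod_cast Subgroup.index_ne_zero_of_finite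
    field_simp
  · have hαy : ∀ l, α l y = 0 := by
      intro l
      show indFun K (β l) y = 0
      rw [indFun_apply, Finset.sum_eq_zero fun g _ => extendByZero_of_not_mem K _ fun hg => hy.2 g⁻¹
        (by rwa [inv_inv]), mul_zero]
    have horth : ∀ l : K →* ℂˣ, l ≠ 1 → ∑ χ : IrrCharacter G, (x l χ : ℂ) * (χ : G → ℂ) y = 0 := by
      intro l _
      have e := congrFun (eq_sum_classInner (hαcf l)) y
      simp only [Finset.sum_apply, Pi.smul_apply, smul_eq_mul] at e
      rw [hαy] at e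
      rw [e]
      exact Finset.sum_congr rfl fun χ _ => by rw [hx]
    have hinner := hin (fun χ => (χ : G → ℂ) y) (by rw [ho]) horth
    rw [← hpc y]
    congr 1
    have e1 : ∀ χ : IrrCharacter G, ((Comb.tv x v χ : ℤ) : ℂ) ^ 2 * (χ : G → ℂ) y / (d χ : ℂ) =
        -∑ l : K →* ℂˣ, (v l : ℂ) *
          ((x l χ : ℂ) * ((Comb.tv x v χ : ℤ) : ℂ) * (χ : G → ℂ) y / (((d χ : ℤ)) : ℂ)) := by
      intro χ
      rw [sq]
      nth_rw 1 [Comb.tv]
      push_cast
      simp only [neg_mul, neg_div, Finset.sum_mul, Finset.sum_div]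
      exact congrArg Neg.neg (Finset.sum_congr rfl fun l _ => by ring)
    rw [Finset.sum_congr rfl fun χ _ => e1 χ, Finset.sum_neg_distrib, Finset.sum_comm,
      Finset.sum_congr rfl fun l _ => (Finset.mul_sum Finset.univ _ ((v l : ℂ))).symm,
      ← Finset.add_sum_erase Finset.univ _ (Finset.mem_univ (1 : K →* ℂˣ)),
      Finset.sum_congr rfl fun (l : K →* ℂˣ) hl => by rw [hinner l (Finset.ne_of_mem_erase hl)]]
    set A : ℂ := 1 + (σ : ℂ) * (θ : G → ℂ) y / ((F : ℂ) - 1)
    set B : ℂ := 2 * (1 + (σ : ℂ) * (θ : G → ℂ) y) / (F : ℂ)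
    have e2 : ∀ l : K →* ℂˣ, (v l : ℂ) * (A - 2 * (v l : ℂ) * (1 + (σ : ℂ) * (θ : G → ℂ) y) / (F : ℂ)) =
        (v l : ℂ) * A - B := by
      intro l
      have : (v l : ℂ) ^ 2 = 1 := by rcases hsys.vsgn l with q | q <;> simp [q]
      simp only [B]
      linear_combination -(2 * (1 + (σ : ℂ) * (θ : G → ℂ) y) / (F : ℂ)) * this
    rw [Finset.sum_congr rfl fun l _ => e2 l, Finset.sum_sub_distrib, ← Finset.sum_mul, Finset.sum_const,
      Finset.card_erase_of_mem (Finset.mem_univ _), Finset.card_univ, hcardΛ, nsmul_eq_mul,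
      Nat.cast_sub (by omega), Nat.cast_one]
    have e3 : ∑ l ∈ Finset.univ.erase (1 : K →* ℂˣ), (v l : ℂ) = -1 := by
      have := hsys.vsum
      rw [← Finset.add_sum_erase Finset.univ v (Finset.mem_univ 1), hsys.vone] at this
      have : ∑ l ∈ Finset.univ.erase (1 : K →* ℂˣ), v l = -1 := by linarith
      exact_mod_cast this
    rw [e3]
    simp only [hsys.hone, Int.cast_zero, zero_mul, zero_div, Finset.sum_const_zero, mul_zero, zero_add, A, B]
    ring

end Cfsg.Agent.Screen.BSW
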