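import Mathlib.Algebra.BigOperators.Field
import Mathlib.Algebra.Group.Pi.Basic
import Mathlib.Data.Int.ModEq
import Mathlib.Data.Complex.Basic
import Mathlib.Tactic

/-!
Integral vectors with the inner products of the characters induced from a trivial intersection
abelian subgroup inverted by an involution: the shape of the exceptional characters.
-/

set_option autoImplicit false
set_option linter.unusedSectionVars false

namespace Cfsg.Agent.Screen.BSW.Comb

open Finset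

variable {Λ : Type*} [CommGroup Λ] [Fintype Λ] [DecidableEq Λ] {ι : Type*} [Fintype ι] [DecidableEq ι]

/-- The hypotheses. `x` gives the multiplicities, `v` the values at the involution. -/
structure Sys (x : Λ → ι → ℤ) (o : ι) (dg : ι → ℤ) (v : Λ → ℤ) (l0 : Λ) (k : ℕ) : Prop where
  card : Fintype.card Λ = k
  hone : ∀ i, x 1 i = 0
  htriv : ∀ l, l ≠ 1 → x l o = 1
  gram : ∀ l m, l ≠ 1 → m ≠ 1 →
    ∑ i, x l i * x m i = 2 + (if l = m then 1 else 0) + if l * m = 1 then 1 else 0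
  dpos : ∀ i, 0 < dg i
  dgo : dg o = 1
  deg : ∀ l, ∑ i, dg i * x l i = 0
  cong : ∀ i, dg i ≡ -∑ l, x l i [ZMOD k]
  vone : v 1 = 1
  vsgn : ∀ l, v l = 1 ∨ v l = -1
  vinv : ∀ l, v l⁻¹ = v l
  vsum : ∑ l, v l = 0
  l0ne : l0 ≠ 1
  l0sq : l0 * l0 = 1
  sq_eq : ∀ l : Λ, l * l = 1 → l = 1 ∨ l = l0

variable (x : Λ → ι → ℤ) (o : ι) (v : Λ → ℤ)

/-- The nontrivial support. -/
def supp (l : Λ) : Finset ι := univ.filter fun i => i ≠ o ∧ x l i ≠ 0

/-- The value at the involution. -/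
def tv (i : ι) : ℤ := -∑ l, v l * x l i

variable {x o v} {dg : ι → ℤ} {l0 : Λ} {k : ℕ} (h : Sys x o dg v l0 k)

theorem mem_supp {l : Λ} {i : ι} : i ∈ supp x o l ↔ i ≠ o ∧ x l i ≠ 0 := by simp [supp]

include h

theorem sum_split {M : Type*} [AddCommMonoid M] (l : Λ) (f : ι → M) (hf : ∀ i, x l i = 0 → f i = 0) :
    ∑ i, f i = f o + ∑ i ∈ supp x o l, f i := by
  rw [← add_sum_erase univ f (mem_univ o)]
  refine congrArg (f o + ·) (sum_subset (fun i hi => ?_) fun i hi hi' => ?_).symm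
  · exact mem_erase.2 ⟨(mem_supp.1 hi).1, mem_univ i⟩
  · refine hf i ?_
    by_contra hne
    exact hi' (mem_supp.2 ⟨ne_of_mem_erase hi, hne⟩)

theorem sum_sq {l : Λ} (hl : l ≠ 1) :
    ∑ i ∈ supp x o l, x l i ^ 2 = if l = l0 then 3 else 2 := by
  have h1 := h.gram l l hl hl
  rw [sum_split h l (fun i => x l i * x l i) (fun i hi => by rw [hi, mul_zero]), h.htriv l hl,
    if_pos rfl] at h1
  simp only [sq]
  by_cases h0 : l = l0
  · rw [if_pos h0]; rw [if_pos (h0 ▸ h.l0sq)] at h1; linarith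
  · rw [if_neg h0]
    rw [if_neg (fun e => (h.sq_eq l e).elim hl h0)] at h1
    linarith

theorem sq_one {l : Λ} (hl : l ≠ 1) {i : ι} (hi : i ∈ supp x o l) : x l i = 1 ∨ x l i = -1 := by
  have h1 := single_le_sum (f := fun i => x l i ^ 2) (fun j _ => sq_nonneg _) hi
  rw [sum_sq h hl] at h1
  have h2 : x l i ^ 2 ≤ 3 := by split_ifs at h1 <;> linarith
  have h3 := (mem_supp.1 hi).2
  have h4 : -2 < x l i ∧ x l i < 2 := ⟨by nlinarith, by nlinarith⟩
  omega

theorem card_supp {l : Λ} (hl : l ≠ 1) : (supp x o l).card = if l = l0 then 3 else 2 := by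
  have h1 := sum_sq h hl
  rw [sum_congr rfl (g := fun _ => (1 : ℤ)) fun i hi => by
    rcases sq_one h hl hi with e | e <;> rw [e] <;> norm_num, sum_const, nsmul_eq_mul, mul_one] at h1
  split_ifs at h1 ⊢ <;> exact_mod_cast h1

theorem x_inv (l : Λ) : x l⁻¹ = x l := by
  by_cases hl : l = 1
  · rw [hl, inv_one]
  have hl' : l⁻¹ ≠ 1 := fun e => hl (inv_eq_one.1 e)
  have a := h.gram l l hl hl
  have b := h.gram l⁻¹ l⁻¹ hl' hl'
  have c := h.gram l⁻¹ l hl' hl
  have h0 : ∑ i, (x l⁻¹ i - x l i) ^ 2 = 0 := by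
    calc ∑ i, (x l⁻¹ i - x l i) ^ 2
        = ∑ i, x l⁻¹ i * x l⁻¹ i + ∑ i, x l i * x l i - 2 * ∑ i, x l⁻¹ i * x l i := by
          rw [mul_sum, ← sum_add_distrib, ← sum_sub_distrib]
          exact sum_congr rfl fun i _ => by ring
      _ = 0 := by
          rw [a, b, c, if_pos rfl, if_pos rfl, if_pos (inv_mul_cancel l)]
          have e1 : (l⁻¹ * l⁻¹ = 1) ↔ (l * l = 1) := by rw [← mul_inv, inv_eq_one]
          have e2 : (l⁻¹ = l) ↔ (l * l = 1) := by rw [inv_eq_iff_mul_eq_one]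
          simp only [e1, e2]
          split_ifs <;> ring
  funext i
  have := (sum_eq_zero_iff_of_nonneg fun i _ => sq_nonneg (x l⁻¹ i - x l i)).1 h0 i (mem_univ i)
  exact sub_eq_zero.1 (eq_zero_of_pow_eq_zero this)

theorem inter {l m : Λ} (hl : l ≠ 1) (hm : m ≠ 1) (hl0 : l ≠ l0) (h1 : l ≠ m) (h2 : l * m ≠ 1) :
    ∃ a, supp x o l ∩ supp x o m = {a} ∧ x l a = x m a := by
  have hg := h.gram l m hl hm
  rw [if_neg h1, if_neg h2,
    sum_split h l (fun i => x l i * x m i) (fun i hi => by rw [hi, zero_mul]),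
    h.htriv l hl, h.htriv m hm, ← sum_subset (inter_subset_left (s₂ := supp x o m)) (fun i hi hi' => by
      have : x m i = 0 := by
        by_contra hne
        exact hi' (mem_inter.2 ⟨hi, mem_supp.2 ⟨(mem_supp.1 hi).1, hne⟩⟩)
      rw [this, mul_zero])] at hg
  have hle : (supp x o l ∩ supp x o m).card ≤ 2 := by
    have := card_le_card (inter_subset_left (s₁ := supp x o l) (s₂ := supp x o m))
    rwa [card_supp h hl, if_neg hl0] at this
  have hpm : ∀ i ∈ supp x o l ∩ supp x o m, x l i * x m i = 1 ∨ x l i * x m i = -1 := by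
    intro i hi
    rcases sq_one h hl (mem_inter.1 hi).1 with e | e <;>
      rcases sq_one h hm (mem_inter.1 hi).2 with e' | e' <;> simp [e, e']
  rcases Nat.lt_or_ge (supp x o l ∩ supp x o m).card 1 with hc | hc
  · rw [card_eq_zero.1 (by omega : (supp x o l ∩ supp x o m).card = 0), sum_empty] at hg
    norm_num at hg
  rcases Nat.lt_or_ge (supp x o l ∩ supp x o m).card 2 with hc2 | hc2
  · obtain ⟨a, ha⟩ := card_eq_one.1 (by omega : (supp x o l ∩ supp x o m).card = 1)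
    refine ⟨a, ha, ?_⟩
    have ha' : a ∈ supp x o l ∩ supp x o m := by rw [ha]; exact mem_singleton_self a
    rw [ha, sum_singleton] at hg
    rcases sq_one h hl (mem_inter.1 ha').1 with e | e <;>
      rcases sq_one h hm (mem_inter.1 ha').2 with e' | e' <;> rw [e, e'] at hg ⊢ <;> linarith
  · obtain ⟨a, b, hab, he⟩ := card_eq_two.1 (by omega : (supp x o l ∩ supp x o m).card = 2)
    have ha' : a ∈ supp x o l ∩ supp x o m := by rw [he]; simp
    have hb' : b ∈ supp x o l ∩ supp x o m := by rw [he]; simp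
    rw [he, sum_pair hab] at hg
    rcases hpm a ha' with e | e <;> rcases hpm b hb' with e' | e' <;> rw [e, e'] at hg <;> linarith

theorem deg_supp {l : Λ} (hl : l ≠ 1) : 1 + ∑ i ∈ supp x o l, dg i * x l i = 0 := by
  have := h.deg l
  rw [sum_split h l (fun i => dg i * x l i) (fun i hi => by rw [hi, mul_zero]), h.dgo, h.htriv l hl] at this
  simpa using this

theorem supp_pair {l : Λ} (hl : l ≠ 1) (hl0 : l ≠ l0) {a : ι} (ha : a ∈ supp x o l) :
    ∃ e, e ≠ a ∧ supp x o l = {a, e} := by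
  obtain ⟨p, q, hpq, he⟩ := card_eq_two.1 (by rw [card_supp h hl, if_neg hl0] : (supp x o l).card = 2)
  rw [he, mem_insert, mem_singleton] at ha
  rcases ha with rfl | rfl
  · exact ⟨q, hpq.symm, he⟩
  · exact ⟨p, hpq, by rw [he, pair_comm]⟩

/-- All common constituents agree. -/
theorem common_unique {S : ℚ}
    (hS : ∀ l, l ≠ 1 → ∑ i, (x l i : ℚ) * (tv x v i : ℚ) ^ 2 / (dg i : ℚ) = S)
    {l m : Λ} (hl : l ≠ 1) (hm : m ≠ 1) (hl0 : l ≠ l0) (hm0 : m ≠ l0) {a b : ι}
    (ha : supp x o l ∩ supp x o l0 = {a}) (hb : supp x o m ∩ supp x o l0 = {b}) : a = b := by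
  by_contra hab
  have hal : a ∈ supp x o l ∧ a ∈ supp x o l0 := mem_inter.1 (by rw [ha]; exact mem_singleton_self a)
  have hbm : b ∈ supp x o m ∧ b ∈ supp x o l0 := mem_inter.1 (by rw [hb]; exact mem_singleton_self b)
  have hsame : ∀ p q : Λ, x p = x q → supp x o p = supp x o q := fun p q e => by simp [supp, e]
  have h1 : l ≠ m := fun e => hab (by
    rw [← e, ha, singleton_inj] at hb; exact hb)
  have h2 : l * m ≠ 1 := fun e => hab (by
    rw [eq_inv_of_mul_eq_one_right e, hsame _ _ (x_inv h l), ha, singleton_inj] at hb; exact hb)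
  obtain ⟨e, hea, hel⟩ := supp_pair h hl hl0 hal.1
  obtain ⟨f, hfb, hfm⟩ := supp_pair h hm hm0 hbm.1
  obtain ⟨c, hc, hce⟩ := inter h hl hm hl0 h1 h2
  have hcl : c ∈ supp x o l ∧ c ∈ supp x o m := mem_inter.1 (by rw [hc]; exact mem_singleton_self c)
  have hca : c ≠ a := by
    rintro rfl
    exact hab (mem_singleton.1 (hb ▸ mem_inter.2 ⟨hcl.2, hal.2⟩))
  have hcb : c ≠ b := by
    rintro rfl
    exact hab (mem_singleton.1 (ha ▸ mem_inter.2 ⟨hcl.1, hbm.2⟩)).symm
  have hec : c = e := by simpa [hel, hca] using hcl.1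
  have hfc : c = f := by simpa [hfm, hcb] using hcl.2
  subst hec hfc
  -- degrees
  have h0l : x l a = x l0 a := by
    obtain ⟨a', ha', hae⟩ := inter h hl h.l0ne hl0 hl0 (fun e => hl0 (by
      rw [eq_inv_of_mul_eq_one_left e, inv_eq_iff_mul_eq_one.2 h.l0sq]))
    rw [ha, singleton_inj] at ha'
    rw [ha']; exact hae
  have h0m : x m b = x l0 b := by
    obtain ⟨b', hb', hbe⟩ := inter h hm h.l0ne hm0 hm0 (fun e => hm0 (by
      rw [eq_inv_of_mul_eq_one_left e, inv_eq_iff_mul_eq_one.2 h.l0sq]))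
    rw [hb, singleton_inj] at hb'
    rw [hb']; exact hbe
  have dl := deg_supp h hl
  have dm := deg_supp h hm
  rw [hel, sum_pair hea.symm] at dl
  rw [hfm, sum_pair hfb.symm] at dm
  have hAB : dg a * x l a = dg b * x m b := by rw [hce] at dl; linarith
  -- no further class
  have hmore : ∀ p : Λ, p ≠ 1 → p ≠ l0 → x p = x l ∨ x p = x m := by
    intro p hp hp0
    by_contra hno
    push Not at hno
    have hpl : l ≠ p ∧ l * p ≠ 1 := ⟨fun e => hno.1 (by rw [e]), fun e => hno.1 (by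
      rw [eq_inv_of_mul_eq_one_right e, x_inv h])⟩
    have hpm : m ≠ p ∧ m * p ≠ 1 := ⟨fun e => hno.2 (by rw [e]), fun e => hno.2 (by
      rw [eq_inv_of_mul_eq_one_right e, x_inv h])⟩
    obtain ⟨d, hd, hde⟩ := inter h hp h.l0ne hp0 hp0 (fun e => hp0 (by
      rw [eq_inv_of_mul_eq_one_left e, inv_eq_iff_mul_eq_one.2 h.l0sq]))
    have hdp : d ∈ supp x o p ∧ d ∈ supp x o l0 := mem_inter.1 (by rw [hd]; exact mem_singleton_self d)
    obtain ⟨g, hgd, hgp⟩ := supp_pair h hp hp0 hdp.1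
    obtain ⟨u, hu, hue⟩ := inter h hl hp hl0 hpl.1 hpl.2
    obtain ⟨w, hw, hwe⟩ := inter h hm hp hm0 hpm.1 hpm.2
    have hul : u ∈ supp x o l ∧ u ∈ supp x o p := mem_inter.1 (by rw [hu]; exact mem_singleton_self u)
    have hwm : w ∈ supp x o m ∧ w ∈ supp x o p := mem_inter.1 (by rw [hw]; exact mem_singleton_self w)
    have hcl0 : c ∉ supp x o l0 := fun hh => hca (mem_singleton.1 (ha ▸ mem_inter.2 ⟨hcl.1, hh⟩))
    have hcp : c ∈ supp x o p := by
      rcases (by simpa [hel] using hul.1 : u = a ∨ u = c) with rfl | rfl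
      · rcases (by simpa [hfm] using hwm.1 : w = b ∨ w = c) with rfl | rfl
        · exfalso
          exact hab ((mem_singleton.1 (hd ▸ mem_inter.2 ⟨hul.2, hal.2⟩)).trans
            (mem_singleton.1 (hd ▸ mem_inter.2 ⟨hwm.2, hbm.2⟩)).symm)
        · exact hwm.2
      · exact hul.2
    have hgc : g = c := by
      have hdc : c ≠ d := fun e => hcl0 (e ▸ hdp.2)
      simpa [hgp, hdc, eq_comm] using hcp
    subst hgc
    have hda : d ≠ a := by
      rintro rfl
      have hac : supp x o l ∩ supp x o p = {u} := hu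
      rw [hel, hgp, Finset.inter_self] at hac
      have h3 := congrArg Finset.card hac
      rw [card_pair hgd.symm, card_singleton] at h3
      omega
    have hdb : d ≠ b := by
      rintro rfl
      have hac : supp x o m ∩ supp x o p = {w} := hw
      rw [hfm, hgp, Finset.inter_self] at hac
      have h3 := congrArg Finset.card hac
      rw [card_pair hgd.symm, card_singleton] at h3
      omega
    have hxc : x p g = x l g := by
      have : g = u := mem_singleton.1 (hu ▸ mem_inter.2 ⟨hcl.1, hcp⟩)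
      rw [this]; exact hue.symm
    have dp := deg_supp h hp
    rw [hgp, sum_pair hgd.symm, hxc] at dp
    have hl0supp : supp x o l0 = {a, b, d} := by
      symm
      refine eq_of_subset_of_card_le ?_ ?_
      · intro i hi
        simp only [mem_insert, mem_singleton] at hi
        rcases hi with rfl | rfl | rfl
        exacts [hal.2, hbm.2, hdp.2]
      · rw [card_supp h h.l0ne, if_pos rfl]
        simp [hab, hda.symm, hdb.symm]
    have d0 := deg_supp h h.l0ne
    rw [hl0supp, sum_insert (by simp [hab, hda.symm]), sum_pair hdb.symm, ← h0l, ← h0m, ← hde] at d0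
    omega
  have hpartition : ∀ p : Λ, p = 1 ∨ p = l0 ∨ p = l ∨ p = l⁻¹ ∨ p = m ∨ p = m⁻¹ := by
    intro p
    by_contra hno
    push Not at hno
    obtain ⟨hp1, hp0, hpl, hpl', hpm, hpm'⟩ := hno
    rcases hmore p hp1 hp0 with e | e
    · have := h.gram p l hp1 hl
      rw [e, h.gram l l hl hl, if_pos rfl, if_neg hpl, if_neg (fun e' => hpl' (eq_inv_of_mul_eq_one_left e'))] at this
      split_ifs at this <;> norm_num at this
    · have := h.gram p m hp1 hm
      rw [e, h.gram m m hm hm, if_pos rfl, if_neg hpm, if_neg (fun e' => hpm' (eq_inv_of_mul_eq_one_left e'))] at this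
      split_ifs at this <;> norm_num at this
  have hll : l ≠ l⁻¹ := fun e => (h.sq_eq l (by nth_rw 2 [e]; exact mul_inv_cancel l)).elim hl hl0
  have hmm : m ≠ m⁻¹ := fun e => (h.sq_eq m (by nth_rw 2 [e]; exact mul_inv_cancel m)).elim hm hm0
  have hl0' : l⁻¹ ≠ l0 := fun e => hl0 (by rw [← inv_inv l, e, inv_eq_iff_mul_eq_one.2 h.l0sq])
  have hm0' : m⁻¹ ≠ l0 := fun e => hm0 (by rw [← inv_inv m, e, inv_eq_iff_mul_eq_one.2 h.l0sq])
  have h2' : l ≠ m⁻¹ := fun e => h2 (by rw [e, inv_mul_cancel])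
  have huniv : (univ : Finset Λ) = {1, l0, l, l⁻¹, m, m⁻¹} := by
    ext p
    simpa using hpartition p
  have hsumsix : ∀ f : Λ → ℤ, ∑ p, f p = f 1 + (f l0 + (f l + (f l⁻¹ + (f m + f m⁻¹)))) := by
    intro f
    rw [huniv, sum_insert (by simp [Ne.symm h.l0ne, Ne.symm hl, Ne.symm hm, eq_comm (a := (1 : Λ)), hl, hm]),
      sum_insert (by simp [Ne.symm hl0, Ne.symm hm0, Ne.symm hl0', Ne.symm hm0']),
      sum_insert (by simp [hll, h1, h2']),
      sum_insert (by simp [inv_eq_iff_eq_inv, h1, h2']),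
      sum_pair hmm]
  have hv := h.vsum
  rw [hsumsix, h.vone, h.vinv, h.vinv] at hv
  have htv : ∀ i, tv x v i = -(v l0 * x l0 i + 2 * (v l * x l i) + 2 * (v m * x m i)) := by
    intro i
    rw [tv, hsumsix, h.hone, h.vinv, h.vinv, x_inv h, x_inv h]
    ring
  have hvl : v l = -v m ∧ v l0 = -1 := by
    rcases h.vsgn l with p | p <;> rcases h.vsgn m with q | q <;> rcases h.vsgn l0 with r | r <;> omega
  have hma : x m a = 0 := by
    by_contra hne
    exact hab (mem_singleton.1 (hb ▸ mem_inter.2 ⟨mem_supp.2 ⟨(mem_supp.1 hal.1).1, hne⟩, hal.2⟩))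
  have hlb : x l b = 0 := by
    by_contra hne
    exact hab (mem_singleton.1 (ha ▸ mem_inter.2 ⟨mem_supp.2 ⟨(mem_supp.1 hbm.1).1, hne⟩, hbm.2⟩)).symm
  have h0c : x l0 c = 0 := by
    by_contra hne
    exact hca (mem_singleton.1 (ha ▸ mem_inter.2 ⟨hcl.1, mem_supp.2 ⟨(mem_supp.1 hcl.1).1, hne⟩⟩))
  have ta : tv x v a = -((2 * v l + v l0) * x l a) := by rw [htv, hma, ← h0l]; ring
  have tb : tv x v b = -((2 * v m + v l0) * x m b) := by rw [htv, hlb, ← h0m]; ring
  have tc : tv x v c = 0 := by rw [htv, h0c, ← hce, hvl.1]; ring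
  have el := hS l hl
  have em := hS m hm
  rw [sum_split h l _ (fun i hi => by simp [hi]), hel, sum_pair hea.symm, h.htriv l hl] at el
  rw [sum_split h m _ (fun i hi => by simp [hi]), hfm, sum_pair hfb.symm, h.htriv m hm] at em
  rw [ta, tc] at el
  rw [tb, tc] at em
  push_cast at el em
  have ha2 : (x l a : ℚ) ^ 2 = 1 := by rcases sq_one h hl hal.1 with p | p <;> simp [p]
  have hb2 : (x m b : ℚ) ^ 2 = 1 := by rcases sq_one h hm hbm.1 with p | p <;> simp [p]
  have hA0 : (dg a : ℚ) ≠ 0 := by exact_mod_cast (h.dpos a).ne'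
  have hB0 : (dg b : ℚ) ≠ 0 := by exact_mod_cast (h.dpos b).ne'
  have hABq : (dg a : ℚ) * x l a = dg b * x m b := by exact_mod_cast hAB
  have key : ((2 * v l + v l0 : ℤ) : ℚ) ^ 2 = ((2 * v m + v l0 : ℤ) : ℚ) ^ 2 := by
    have e1 : ((2 * v l + v l0 : ℤ) : ℚ) ^ 2 * (x l a : ℚ) / dg a =
        ((2 * v m + v l0 : ℤ) : ℚ) ^ 2 * (x m b : ℚ) / dg b := by
      have z1 : (x l a : ℚ) * (-((2 * (v l : ℚ) + v l0) * x l a)) ^ 2 / dg a =
          (2 * (v l : ℚ) + v l0) ^ 2 * x l a / dg a := by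
        rw [neg_sq, mul_pow, ha2]; ring
      have z2 : (x m b : ℚ) * (-((2 * (v m : ℚ) + v l0) * x m b)) ^ 2 / dg b =
          (2 * (v m : ℚ) + v l0) ^ 2 * x m b / dg b := by
        rw [neg_sq, mul_pow, hb2]; ring
      simp only [ne_eq, OfNat.ofNat_ne_zero, not_false_eq_true, zero_pow, mul_zero, zero_div, add_zero] at el em
      push_cast
      linarith
    have e2 : (x m b : ℚ) / dg b = x l a / dg a := by
      rw [div_eq_div_iff hB0 hA0]
      have p1 : (x m b : ℚ) * ((dg a : ℚ) * x l a) * x l a = x m b * ((dg b : ℚ) * x m b) * x l a := by rw [hABq]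
      linear_combination p1 - (x m b : ℚ) * dg a * ha2 + (x l a : ℚ) * dg b * hb2
    rw [mul_div_assoc, mul_div_assoc, e2] at e1
    refine mul_right_cancel₀ ?_ e1
    refine div_ne_zero ?_ hA0
    intro hz
    rw [hz] at ha2
    norm_num at ha2
  have key' : (2 * v l + v l0) ^ 2 = (2 * v m + v l0) ^ 2 := by exact_mod_cast key
  rcases h.vsgn m with q | q <;> rw [hvl.1, hvl.2, q] at key' <;> norm_num at key'

/-- The exceptional constituents. -/
theorem main (hk : 4 ≤ k) {S : ℚ}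
    (hS : ∀ l, l ≠ 1 → ∑ i, (x l i : ℚ) * (tv x v i : ℚ) ^ 2 / (dg i : ℚ) = S) :
    ∃ (th : ι) (σ F : ℤ), th ≠ o ∧ (σ = 1 ∨ σ = -1) ∧ tv x v th = σ ∧ F = 1 + σ * dg th ∧
      F ≡ 2 [ZMOD (2 * k : ℕ)] ∧ F ≠ 0 ∧ S = 1 + 1 / ((F : ℚ) - 1) - 4 / F ∧
      ∀ (hf : ι → ℂ), hf o = 1 → (∀ l, l ≠ 1 → ∑ i, (x l i : ℂ) * hf i = 0) → ∀ l, l ≠ 1 →
        ∑ i, (x l i : ℂ) * (tv x v i : ℂ) * hf i / (dg i : ℂ) =
          1 + (σ : ℂ) * hf th / ((F : ℂ) - 1) - 2 * (v l : ℂ) * (1 + (σ : ℂ) * hf th) / (F : ℂ) := by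
  obtain ⟨l1, hl1, hl10⟩ : ∃ l : Λ, l ≠ 1 ∧ l ≠ l0 := by
    by_contra hno
    push Not at hno
    have : (univ : Finset Λ) ⊆ {1, l0} := fun l _ => by
      by_cases e : l = 1
      · simp [e]
      · simp [hno l e]
    have := (card_le_card this).trans card_le_two
    rw [card_univ, h.card] at this
    omega
  have hinvl0 : ∀ {l : Λ}, l ≠ l0 → l * l0 ≠ 1 := fun {l} hl e => hl (by
    rw [eq_inv_of_mul_eq_one_left e, inv_eq_iff_mul_eq_one.2 h.l0sq])
  obtain ⟨th, hth, -⟩ := inter h hl1 h.l0ne hl10 hl10 (hinvl0 hl10)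
  have hcommon : ∀ l, l ≠ 1 → l ≠ l0 → supp x o l ∩ supp x o l0 = {th} ∧ x l th = x l0 th := by
    intro l hl hl0
    obtain ⟨a, ha, hae⟩ := inter h hl h.l0ne hl0 hl0 (hinvl0 hl0)
    have e := common_unique h hS hl hl1 hl0 hl10 ha hth
    exact ⟨e ▸ ha, e ▸ hae⟩
  have hth0 : th ∈ supp x o l0 := (mem_inter.1 (by rw [hth]; exact mem_singleton_self th :
    th ∈ supp x o l1 ∩ supp x o l0)).2
  obtain ⟨σ, hσ⟩ : ∃ σ, σ = x l0 th := ⟨_, rfl⟩
  have hσ1 : σ = 1 ∨ σ = -1 := hσ ▸ sq_one h h.l0ne hth0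
  have hxth : ∀ l, l ≠ 1 → x l th = σ := fun l hl => by
    by_cases e : l = l0
    · rw [e, hσ]
    · rw [(hcommon l hl e).2, hσ]
  have hvrest : ∑ l ∈ univ.erase (1 : Λ), v l = -1 := by
    have := h.vsum
    rw [← add_sum_erase univ v (mem_univ 1), h.vone] at this
    linarith
  have htvth : tv x v th = σ := by
    rw [tv, ← add_sum_erase univ _ (mem_univ (1 : Λ)), h.hone, mul_zero, zero_add,
      sum_congr rfl fun l hl => by rw [hxth l (ne_of_mem_erase hl)], ← sum_mul, hvrest]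
    ring
  -- the other constituents
  have hpair : ∀ l, l ≠ 1 → l ≠ l0 → ∃ e, e ≠ th ∧ supp x o l = {th, e} ∧
      tv x v e = -(2 * (v l * x l e)) ∧ dg e * x l e = -(1 + σ * dg th) := by
    intro l hl hl0
    have hthl : th ∈ supp x o l := (mem_inter.1 (by rw [(hcommon l hl hl0).1]; exact mem_singleton_self th :
      th ∈ supp x o l ∩ supp x o l0)).1
    obtain ⟨e, het, he⟩ := supp_pair h hl hl0 hthl
    refine ⟨e, het, he, ?_, ?_⟩
    · have hll : l ≠ l⁻¹ := fun q => (h.sq_eq l (by nth_rw 2 [q]; exact mul_inv_cancel l)).elim hl hl0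
      have hel : e ∈ supp x o l := by rw [he]; simp
      have hzero : ∀ p, p ≠ l ∧ p ≠ l⁻¹ → x p e = 0 := by
        rintro p ⟨hpl, hpl'⟩
        by_contra hne
        by_cases hp : p = 1
        · exact hne (hp ▸ h.hone e)
        have hep : e ∈ supp x o p := mem_supp.2 ⟨(mem_supp.1 hel).1, hne⟩
        by_cases hp0 : p = l0
        · exact het (mem_singleton.1 ((hcommon l hl hl0).1 ▸ mem_inter.2 ⟨hel, hp0 ▸ hep⟩))
        have hthp : th ∈ supp x o p := mem_supp.2 ⟨(mem_supp.1 hth0).1, by rw [hxth p hp]; omega⟩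
        obtain ⟨c, hc, -⟩ := inter h hl hp hl0 (Ne.symm hpl) (fun q => hpl' (eq_inv_of_mul_eq_one_right q))
        have e1 : e = c := mem_singleton.1 (hc ▸ mem_inter.2 ⟨hel, hep⟩)
        have e2 : th = c := mem_singleton.1 (hc ▸ mem_inter.2 ⟨hthl, hthp⟩)
        exact het (e1.trans e2.symm)
      rw [tv, ← sum_subset (subset_univ {l, l⁻¹}) (fun p _ hp => by
          rw [hzero p (by simpa using hp), mul_zero]), sum_pair hll, h.vinv, x_inv h]
      ring
    · have := deg_supp h hl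
      rw [he, sum_pair het.symm, hxth l hl] at this
      linarith
  obtain ⟨F, hF⟩ : ∃ F, F = 1 + σ * dg th := ⟨_, rfl⟩
  obtain ⟨e1, -, he1, -, hd1⟩ := hpair l1 hl1 hl10
  have hF0 : F ≠ 0 := by
    intro z
    rw [← hF, z, neg_zero] at hd1
    have h1 : x l1 e1 ≠ 0 := (mem_supp.1 (by rw [he1]; simp : e1 ∈ supp x o l1)).2
    exact mul_ne_zero (h.dpos e1).ne' h1 hd1
  have hF1 : (F : ℤ) - 1 = σ * dg th := by omega
  -- the two constituents of `l0`
  obtain ⟨a, b, hab, hl0ab⟩ := card_eq_two.1 (by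
    rw [card_erase_of_mem hth0, card_supp h h.l0ne, if_pos rfl] : ((supp x o l0).erase th).card = 2)
  have hsupp0 : supp x o l0 = {th, a, b} := by rw [← insert_erase hth0, hl0ab]
  have hab_mem : ∀ c, c = a ∨ c = b → c ∈ supp x o l0 ∧ c ≠ th := fun c hc => by
    have : c ∈ (supp x o l0).erase th := by rw [hl0ab]; simpa using hc
    exact ⟨mem_of_mem_erase this, ne_of_mem_erase this⟩
  have honly : ∀ c, c = a ∨ c = b → ∀ p, p ≠ l0 → x p c = 0 := by
    intro c hc p hp
    obtain ⟨hc0, hct⟩ := hab_mem c hc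
    by_contra hne
    by_cases hp1 : p = 1
    · exact hne (hp1 ▸ h.hone c)
    exact hct (mem_singleton.1 ((hcommon p hp1 hp).1 ▸
      mem_inter.2 ⟨mem_supp.2 ⟨(mem_supp.1 hc0).1, hne⟩, hc0⟩))
  have htvab : ∀ c, c = a ∨ c = b → tv x v c = -(v l0 * x l0 c) := by
    intro c hc
    rw [tv, sum_eq_single l0 (fun p _ hp => by rw [honly c hc p hp, mul_zero]) (by simp)]
  have hcongab : ∀ c, c = a ∨ c = b → dg c ≡ -x l0 c [ZMOD k] := by
    intro c hc
    have := h.cong c
    rwa [sum_eq_single l0 (fun p _ hp => honly c hc p hp) (by simp)] at this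
  obtain ⟨hat, hbt⟩ : a ≠ th ∧ b ≠ th :=
    ⟨(hab_mem a (Or.inl rfl)).2, (hab_mem b (Or.inr rfl)).2⟩
  have hyab : -(dg a * x l0 a) - dg b * x l0 b = F := by
    have := deg_supp h h.l0ne
    rw [hsupp0, sum_insert (by simp [hat.symm, hbt.symm]), sum_pair hab, ← hσ] at this
    rw [hF]; linarith
  have sqab : ∀ c, c = a ∨ c = b → x l0 c = 1 ∨ x l0 c = -1 :=
    fun c hc => sq_one h h.l0ne (hab_mem c hc).1
  -- equality of the two sums
  have hσq : (σ : ℚ) ^ 2 = 1 := by rcases hσ1 with q | q <;> simp [q]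
  have hdth : (dg th : ℚ) ≠ 0 := by exact_mod_cast (h.dpos th).ne'
  have hFq0 : (F : ℚ) ≠ 0 := by exact_mod_cast hF0
  have hF1q : (F : ℚ) - 1 = σ * dg th := by exact_mod_cast hF1
  have hterm : (x l1 th : ℚ) * (tv x v th : ℚ) ^ 2 / dg th = 1 / ((F : ℚ) - 1) := by
    rw [hxth l1 hl1, htvth, hF1q, hσq, mul_one]
    rcases hσ1 with q | q <;> simp [q, neg_div]
  have hS1 : S = 1 + 1 / ((F : ℚ) - 1) - 4 / F := by
    obtain ⟨e, het, he, hte, hde⟩ := hpair l1 hl1 hl10
    have hd := hS l1 hl1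
    rw [sum_split h l1 _ (fun i hi => by simp [hi]), he, sum_pair het.symm, hterm, h.htriv l1 hl1, h.dgo] at hd
    have hto : tv x v o = 1 := by
      rw [tv, ← add_sum_erase univ _ (mem_univ (1 : Λ)), h.hone, mul_zero, zero_add,
        sum_congr rfl fun l hl => by rw [h.htriv l (ne_of_mem_erase hl), mul_one], hvrest]
      ring
    rw [hto, hte] at hd
    have hde' : (dg e : ℚ) * x l1 e = -(F : ℚ) := by rw [← hF] at hde; exact_mod_cast hde
    have hxe : (x l1 e : ℚ) ^ 2 = 1 := by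
      rcases sq_one h hl1 (by rw [he]; simp : e ∈ supp x o l1) with q | q <;> simp [q]
    have hv2 : (v l1 : ℚ) ^ 2 = 1 := by rcases h.vsgn l1 with q | q <;> simp [q]
    have he0 : (dg e : ℚ) ≠ 0 := by exact_mod_cast (h.dpos e).ne'
    have : (x l1 e : ℚ) * ((-(2 * (v l1 * x l1 e)) : ℤ) : ℚ) ^ 2 / dg e = -(4 / F) := by
      push_cast
      rw [neg_sq, mul_pow, mul_pow, hxe, hv2, ← neg_div, div_eq_div_iff he0 hFq0]
      linear_combination 4 * (x l1 e : ℚ) * hde' - 4 * (dg e : ℚ) * hxe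
    rw [this] at hd
    rw [← hd]
    push_cast
    ring
  have hyeq : dg a * x l0 a = dg b * x l0 b := by
    have hd := hS l0 h.l0ne
    rw [sum_split h l0 _ (fun i hi => by simp [hi]), hsupp0, sum_insert (by simp [hat.symm, hbt.symm]),
      sum_pair hab, h.htriv l0 h.l0ne, h.dgo] at hd
    have hto : tv x v o = 1 := by
      rw [tv, ← add_sum_erase univ _ (mem_univ (1 : Λ)), h.hone, mul_zero, zero_add,
        sum_congr rfl fun l hl => by rw [h.htriv l (ne_of_mem_erase hl), mul_one], hvrest]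
      ring
    have e0 : (x l0 th : ℚ) * (tv x v th : ℚ) ^ 2 / dg th = 1 / ((F : ℚ) - 1) := by
      rw [← hterm, hxth l1 hl1, hxth l0 h.l0ne]
    rw [e0, hto, htvab a (Or.inl rfl), htvab b (Or.inr rfl), hS1] at hd
    have hv2 : (v l0 : ℚ) ^ 2 = 1 := by rcases h.vsgn l0 with q | q <;> simp [q]
    have hxa : (x l0 a : ℚ) ^ 2 = 1 := by rcases sqab a (Or.inl rfl) with q | q <;> simp [q]
    have hxb : (x l0 b : ℚ) ^ 2 = 1 := by rcases sqab b (Or.inr rfl) with q | q <;> simp [q]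
    have hya : (dg a : ℚ) ≠ 0 := by exact_mod_cast (h.dpos a).ne'
    have hyb : (dg b : ℚ) ≠ 0 := by exact_mod_cast (h.dpos b).ne'
    have hFy : -((dg a : ℚ) * x l0 a) - dg b * x l0 b = F := by exact_mod_cast hyab
    push_cast at hd
    simp only [neg_sq, mul_pow, hv2, hxa, hxb, one_mul, mul_one] at hd
    have hd' : (x l0 a : ℚ) / dg a + x l0 b / dg b = -(4 / F) := by linarith
    rw [div_add_div _ _ hya hyb, ← neg_div, div_eq_div_iff (mul_ne_zero hya hyb) hFq0, ← hFy] at hd'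
    have hsq : ((dg a : ℚ) * x l0 a - dg b * x l0 b) ^ 2 = 0 := by
      linear_combination (-((x l0 a : ℚ) * x l0 b)) * hd' -
        ((dg a : ℚ) * x l0 a * dg b * x l0 b + (dg a : ℚ) ^ 2 * (x l0 a : ℚ) ^ 2) * hxb -
        ((dg a : ℚ) * x l0 a * dg b * x l0 b + (dg b : ℚ) ^ 2 * (x l0 b : ℚ) ^ 2) * hxa
    exact_mod_cast sub_eq_zero.1 (eq_zero_of_pow_eq_zero hsq)
  have hFmod : F ≡ 2 [ZMOD (2 * k : ℕ)] := by
    have ha : dg a * x l0 a ≡ -1 [ZMOD k] := by
      have := (hcongab a (Or.inl rfl)).mul_right (x l0 a)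
      rcases sqab a (Or.inl rfl) with q | q <;> rw [q] at this ⊢ <;> simpa using this
    have h2 := (ha.mul_left' (c := -2))
    rw [Int.modEq_iff_dvd] at h2 ⊢
    rw [show -2 * (dg a * x l0 a) = F by linarith, show ((-2 : ℤ) * -1) = 2 by norm_num] at h2
    push_cast
    simpa [neg_mul] using h2
  refine ⟨th, σ, F, (mem_supp.1 hth0).1, hσ1, htvth, hF, hFmod, hF0, hS1, ?_⟩
  intro hf hfo horth l hl
  have hσc : (σ : ℂ) * σ = 1 := by rcases hσ1 with q | q <;> simp [q]
  have hF1c : (F : ℂ) - 1 = σ * dg th := by exact_mod_cast hF1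
  have hdc : (dg th : ℂ) ≠ 0 := by exact_mod_cast (h.dpos th).ne'
  have hFc : (F : ℂ) ≠ 0 := by exact_mod_cast hF0
  have hto : tv x v o = 1 := by
    rw [tv, ← add_sum_erase univ _ (mem_univ (1 : Λ)), h.hone, mul_zero, zero_add,
      sum_congr rfl fun l hl => by rw [h.htriv l (ne_of_mem_erase hl), mul_one], hvrest]
    ring
  have e0 : (x l th : ℂ) * (tv x v th : ℂ) * hf th / dg th = (σ : ℂ) * hf th / ((F : ℂ) - 1) := by
    rw [hxth l hl, htvth, hF1c]
    rcases hσ1 with q | q <;> simp [q, neg_div, div_neg]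
  rw [sum_split h l _ (fun i hi => by simp [hi]), h.htriv l hl, hto, hfo, h.dgo]
  push_cast
  have ho := horth l hl
  rw [sum_split h l _ (fun i hi => by simp [hi]), h.htriv l hl, hfo] at ho
  push_cast at ho
  by_cases hl0 : l = l0
  · subst hl0
    rw [hsupp0, sum_insert (by simp [hat.symm, hbt.symm]), sum_pair hab] at ho ⊢
    rw [hxth l hl] at ho
    rw [e0, htvab a (Or.inl rfl), htvab b (Or.inr rfl)]
    have hhalf : ∀ c, c = a ∨ c = b → (dg c : ℂ) * (x l c : ℂ) = -(F : ℂ) / 2 := by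
      intro c hc
      have e : 2 * (dg c * x l c) = -F := by rcases hc with rfl | rfl <;> linarith
      have e' : 2 * ((dg c : ℂ) * (x l c : ℂ)) = -(F : ℂ) := by exact_mod_cast e
      linear_combination e' / 2
    have hterm' : ∀ c, c = a ∨ c = b → (x l c : ℂ) * ((-(v l * x l c) : ℤ) : ℂ) * hf c / dg c =
        2 * (v l : ℂ) * ((x l c : ℂ) * hf c) / F := by
      intro c hc
      have hd0 : (dg c : ℂ) ≠ 0 := by exact_mod_cast (h.dpos c).ne'
      push_cast
      rw [div_eq_div_iff hd0 hFc]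
      have hx2 : (x l c : ℂ) ^ 2 = 1 := by rcases sqab c hc with q | q <;> simp [q]
      linear_combination -2 * (v l : ℂ) * hf c * (x l c : ℂ) ^ 2 * hhalf c hc +
        2 * (v l : ℂ) * hf c * (x l c : ℂ) * (dg c : ℂ) * hx2
    rw [hterm' a (Or.inl rfl), hterm' b (Or.inr rfl)]
    linear_combination (2 * (v l : ℂ) / F) * ho
  · obtain ⟨e, het, he, hte, hde⟩ := hpair l hl hl0
    rw [he, sum_pair het.symm] at ho ⊢
    rw [hxth l hl] at ho
    rw [e0, hte]
    have hde' : (dg e : ℂ) * x l e = -(F : ℂ) := by rw [← hF] at hde; exact_mod_cast hde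
    have he0 : (dg e : ℂ) ≠ 0 := by exact_mod_cast (h.dpos e).ne'
    have hterm' : (x l e : ℂ) * ((-(2 * (v l * x l e)) : ℤ) : ℂ) * hf e / dg e =
        2 * (v l : ℂ) * ((x l e : ℂ) * hf e) / F := by
      push_cast
      rw [div_eq_div_iff he0 hFc]
      have hx2 : (x l e : ℂ) ^ 2 = 1 := by
        rcases sq_one h hl (by rw [he]; simp : e ∈ supp x o l) with q | q <;> simp [q]
      linear_combination -2 * (v l : ℂ) * hf e * (x l e : ℂ) ^ 2 * hde' +
        2 * (v l : ℂ) * hf e * (x l e : ℂ) * (dg e : ℂ) * hx2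
    rw [hterm']
    linear_combination (2 * (v l : ℂ) / F) * ho

end Cfsg.Agent.Screen.BSW.Comb
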