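import Cfsg.Agent.Screen.BSW.MinusQ

/-!
The abstract theorem of Brauer, Suzuki and Wall.
-/

set_option autoImplicit false
set_option linter.unusedSectionVars false
set_option linter.style.haveILetI false

namespace Cfsg.Agent.Screen.BSW

open Subgroup

universe u

variable {G : Type u} [Group G] [Finite G] {t s : G} {K : Subgroup G}

/-- The conclusion. -/
def Concl (Q D : Subgroup G) : Prop :=
  2 * Nat.card G = Nat.card ↥Q * (Nat.card ↥Q + 1) * (Nat.card ↥Q - 1) ∧
    (∀ x ∈ Q, x ≠ 1 → centralizer ({x} : Set G) = Q) ∧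
    IsMulCommutative ↥D ∧ 2 * Nat.card ↥D + 1 = Nat.card ↥Q ∧ Q ⊓ D = ⊥ ∧
    normalizer (Q : Set G) = Q ⊔ D ∧
    ∀ X : Subgroup G, X ≤ D → X ≠ ⊥ →
      normalizer (X : Set G) = normalizer (D : Set G) ∧
      ∃ u : G, orderOf u = 2 ∧ u ∉ D ∧ (∀ d ∈ D, u * d * u⁻¹ = d⁻¹) ∧
        normalizer (D : Set G) = D ⊔ zpowers u

theorem mem_normalizer_of_inv {X : Subgroup G} {g : G} (h1 : ∀ x ∈ X, g * x * g⁻¹ ∈ X)
    (h2 : ∀ x ∈ X, g⁻¹ * x * g ∈ X) : g ∈ normalizer (X : Set G) := by
  rw [mem_normalizer_iff]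
  refine fun x => ⟨h1 x, fun hx => ?_⟩
  have := h2 _ hx
  rwa [show g⁻¹ * (g * x * g⁻¹) * g = x by group] at this

theorem isMulCommutative_of {D : Subgroup G} (h : ∀ a ∈ D, ∀ b ∈ D, a * b = b * a) : IsMulCommutative ↥D :=
  ⟨⟨fun a b => Subtype.ext (h a a.2 b b.2)⟩⟩

namespace Setup

variable (h : Setup t K s)
include h

theorem concl_plus (hk : 4 ≤ Nat.card K) (hp : Plus t K) : ∃ Q D : Subgroup G, Concl Q D := by
  obtain ⟨Q, u, Ku, su, hsu, hKu, hQ, hcent, hN, hbot⟩ := h.plus_structure hk hp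
  refine ⟨Q, Ku, ?_, hcent, isMulCommutative_of hsu.comm, by rw [hQ, hKu], hbot, hN, fun X hX hX1 => ?_⟩
  · rw [hQ, h.card_G, hp.1, Nat.add_sub_cancel]; ring
  · have hKb : Ku ≠ ⊥ := fun e => hsu.t_ne_one (by have := hsu.tK; rwa [e, mem_bot] at this)
    refine ⟨by rw [hsu.normalizer_sub hX hX1, hsu.normalizer_sub le_rfl hKb], su, hsu.sord, hsu.sK, hsu.inv, ?_⟩
    rw [hsu.normalizer_sub le_rfl hKb, hsu.sup]

theorem concl_minus (hk : 4 ≤ Nat.card K) (hm : Minus t K) : ∃ Q D : Subgroup G, Concl Q D := by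
  obtain ⟨Q, D, hQ, hcent, hD, hbot, hN, a, u, hao, har, hu, hCD, hinv, hND⟩ := h.minus_structure hk hm
  have hab : ∀ x ∈ D, ∀ y ∈ D, x * y = y * x := fun x hx y hy =>
    h.out_comm hao har x (hCD.symm ▸ hx) y (hCD.symm ▸ hy)
  refine ⟨Q, D, ?_, hcent, isMulCommutative_of hab, by rw [hQ, hD]; omega, hbot, hN, fun X hX hX1 => ?_⟩
  · rw [hQ, h.card_G, hm.1, show 2 * Nat.card K - 1 + 1 = 2 * Nat.card K by omega,
      show 2 * Nat.card K - 1 - 1 = 2 * (Nat.card K - 1) by omega]
    ring
  have huD : u ∉ D := fun hu' => by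
    rw [← hCD] at hu'
    exact h.out_no_invol hao hu (mem_centralizer_singleton_iff.1 hu').symm
  refine ⟨le_antisymm (fun g hg => ?_) ?_, u, hu, huD, hinv, hND⟩
  · obtain ⟨⟨x, hx⟩, hx'⟩ := X.ne_bot_iff_exists_ne_one.1 hX1
    have hx1 : x ≠ 1 := fun e => hx' (Subtype.ext e)
    have hgx : g * x * g⁻¹ ∈ X := (mem_normalizer_iff.1 hg x).1 hx
    obtain ⟨-, -, hxC⟩ := h.out_mem hao har (hCD.symm ▸ hX hx) hx1
    obtain ⟨-, -, hgC⟩ := h.out_mem hao har (hCD.symm ▸ hX hgx) fun e => hx1 (conj_eq_one_iff.1 e)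
    rw [hCD] at hxC hgC
    rw [mem_normalizer_iff]
    intro w
    constructor
    · intro hw
      rw [← hxC, mem_centralizer_singleton_iff] at hw
      rw [← hgC, mem_centralizer_singleton_iff]
      calc g * w * g⁻¹ * (g * x * g⁻¹) = g * (w * x) * g⁻¹ := by group
        _ = _ := by rw [hw]; group
    · intro hw
      rw [← hgC, mem_centralizer_singleton_iff] at hw
      rw [← hxC, mem_centralizer_singleton_iff]
      calc w * x = g⁻¹ * (g * w * g⁻¹ * (g * x * g⁻¹)) * g := by group
        _ = x * w := by rw [hw]; group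
  · rw [hND]
    refine sup_le (fun d hd => ?_) (zpowers_le.2 ?_)
    · refine mem_normalizer_of_inv (fun x hx => ?_) (fun x hx => ?_)
      · rwa [hab d hd x (hX hx), mul_inv_cancel_right]
      · rwa [mul_assoc, hab x (hX hx) d hd, inv_mul_cancel_left]
    · refine mem_normalizer_of_inv (fun x hx => ?_) (fun x hx => ?_)
      · rw [hinv x (hX hx)]; exact X.inv_mem hx
      · have := hinv x (hX hx)
        rw [TwoGroups.inv_eq_of_sq_one (TwoGroups.sq_one_of_order_two hu)] at this ⊢
        rw [this]; exact X.inv_mem hx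

theorem concl_small (hk : Nat.card K = 2) : ∃ Q D : Subgroup G, Concl Q D := by
  classical
  haveI := Fintype.ofFinite G
  have hKt : ∀ x ∈ K, x * x = 1 := fun x hx => by
    have e : x ^ Nat.card K = 1 := congrArg Subtype.val (pow_card_eq_one' (x := (⟨x, hx⟩ : K)))
    rwa [hk, pow_two] at e
  have h4 : FourCentralizer.AllFour G := by
    intro u hu
    obtain ⟨K', s', h', hcard, -⟩ := h.at_invol hu
    refine ⟨by rw [h'.card_H, hcard, hk], fun c hc => ?_⟩
    have hK' : ∀ x ∈ K', x * x = 1 := fun x hx => by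
      have e : x ^ Nat.card K' = 1 := congrArg Subtype.val (pow_card_eq_one' (x := (⟨x, hx⟩ : K')))
      rwa [hcard, hk, pow_two] at e
    rcases h'.mem_H.1 hc with hc | hc
    · exact hK' c hc
    · exact h'.outer_sq hc
  set V := centralizer ({t} : Set G) with hV
  have hV4 : Nat.card V = 4 := (h4 t h.tord).1
  have hV2 : ∀ v ∈ V, v * v = 1 := (h4 t h.tord).2
  -- centralizers of elements of prime order at least three
  have hodd : ∀ x : G, x * x ≠ 1 → Odd (Nat.card (centralizer ({x} : Set G))) := by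
    intro x hx
    rw [← Nat.not_even_iff_odd, even_iff_two_dvd]
    intro h2
    obtain ⟨w, hw⟩ := exists_prime_orderOf_dvd_card' 2 h2
    refine hx ((h4 (w : G) ((orderOf_coe w).trans hw)).2 x ?_)
    exact mem_centralizer_singleton_iff.2 (mem_centralizer_singleton_iff.1 w.2).symm
  have hsq : ∀ (p : ℕ) (x : G), p.Prime → p ≠ 2 → orderOf x = p → x * x ≠ 1 := fun p x hp hp2 hx e => by
    have := orderOf_dvd_of_pow_eq_one (show x ^ 2 = 1 by rw [pow_two, e])
    rw [hx] at this
    exact hp2 ((Nat.prime_dvd_prime_iff_eq hp Nat.prime_two).1 this)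
  have hcyc : ∀ (p : ℕ) (x : G), p.Prime → orderOf x = p → ∀ y ∈ zpowers x, y ≠ 1 → orderOf y = p := by
    intro p x hp hx y hy hy1
    have h1 : orderOf y ∣ p := by
      have e := (zpowers x).orderOf_dvd_natCard hy
      rwa [Nat.card_zpowers, hx] at e
    exact ((Nat.dvd_prime hp).1 h1).resolve_left fun e => hy1 (orderOf_eq_one_iff.1 e)
  by_cases hnorm : V.Normal
  · -- order twelve
    have h12 : Nat.card G = 12 := by
      have hidx : V.index = Nat.card {v : G // orderOf v = 2} := h.card_invol.symm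
      have h3 : Nat.card {v : G // orderOf v = 2} = 3 := by
        rw [Nat.card_eq_fintype_card, Fintype.card_subtype]
        have : (Finset.univ.filter fun v : G => orderOf v = 2) = (Finset.univ.filter (· ∈ V)).erase 1 := by
          ext v
          simp only [Finset.mem_filter, Finset.mem_univ, true_and, Finset.mem_erase]
          constructor
          · intro hv
            refine ⟨fun e => by rw [e, orderOf_one] at hv; omega, ?_⟩
            obtain ⟨g, rfl⟩ := isConj_iff.1 (h.one t v h.tord hv)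
            exact hnorm.conj_mem t (mem_centralizer_singleton_iff.2 rfl) g
          · rintro ⟨hv1, hv⟩
            exact Components.invol_of_mul_self (hV2 v hv) hv1
        rw [this, Finset.card_erase_of_mem (by simp), ← Fintype.card_subtype, ← Nat.card_eq_fintype_card, hV4]
      rw [← V.card_mul_index, hV4, hidx, h3]
    haveI : Fact (Nat.Prime 3) := ⟨Nat.prime_three⟩
    obtain ⟨x, hx⟩ := exists_prime_orderOf_dvd_card' (G := G) 3 (by rw [h12]; norm_num)
    set Q := zpowers x with hQ
    have hQ3 : Nat.card Q = 3 := by rw [hQ, Nat.card_zpowers, hx]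
    have hcent : ∀ y ∈ Q, y ≠ 1 → centralizer ({y} : Set G) = Q := by
      intro y hy hy1
      have hy3 := hcyc 3 x Nat.prime_three hx y hy hy1
      refine (eq_of_le_of_card_ge (fun w hw => mem_centralizer_singleton_iff.2 ?_) ?_).symm
      · obtain ⟨i, rfl⟩ := mem_zpowers_iff.1 hy
        obtain ⟨j, rfl⟩ := mem_zpowers_iff.1 hw
        rw [← zpow_add, ← zpow_add, add_comm]
      · have hd : Nat.card (centralizer ({y} : Set G)) ∣ 12 := h12 ▸ card_subgroup_dvd_card _
        have ho := hodd y (hsq 3 y Nat.prime_three (by norm_num) hy3)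
        have := Nat.le_of_dvd (by norm_num) hd
        interval_cases hc : Nat.card (centralizer ({y} : Set G)) <;> simp_all (config := { decide := true }) <;> omega
    refine ⟨Q, ⊥, by rw [hQ3, h12], hcent, isMulCommutative_of (fun a ha b hb => by
      rw [mem_bot.1 ha, mem_bot.1 hb]), by rw [hQ3, card_bot], inf_bot_eq Q, ?_, fun X hX hX1 =>
        absurd (le_bot_iff.1 hX) hX1⟩
    rw [sup_bot_eq]
    refine le_antisymm (fun g hg => ?_) le_normalizer
    have hnodd : Odd (Nat.card (normalizer (Q : Set G))) := by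
      rw [← Nat.not_even_iff_odd, even_iff_two_dvd]
      intro h2
      obtain ⟨w, hw⟩ := exists_prime_orderOf_dvd_card' 2 h2
      rw [← orderOf_coe] at hw
      have hwV : (w : G) ∈ V := by
        obtain ⟨g, hg⟩ := isConj_iff.1 (h.one t w h.tord hw)
        exact hg ▸ hnorm.conj_mem t (mem_centralizer_singleton_iff.2 rfl) g
      have h1 : (w : G) * x * (w : G)⁻¹ * x⁻¹ ∈ Q :=
        Q.mul_mem ((mem_normalizer_iff.1 w.2 x).1 (mem_zpowers x)) (Q.inv_mem (mem_zpowers x))
      have h2' : (w : G) * x * (w : G)⁻¹ * x⁻¹ ∈ V := by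
        rw [show (w : G) * x * (w : G)⁻¹ * x⁻¹ = (w : G) * (x * (w : G)⁻¹ * x⁻¹) by group]
        exact V.mul_mem hwV (hnorm.conj_mem _ (V.inv_mem hwV) x)
      have hcop : Nat.Coprime (Nat.card Q) (Nat.card V) := by rw [hQ3, hV4]; norm_num
      have e : (w : G) * x * (w : G)⁻¹ * x⁻¹ = 1 := by
        have := inf_eq_bot_of_coprime hcop
        exact mem_bot.1 (this ▸ mem_inf.2 ⟨h1, h2'⟩)
      rw [mul_inv_eq_one, mul_inv_eq_iff_eq_mul] at e
      exact hsq 3 x Nat.prime_three (by norm_num) hx ((h4 (w : G) hw).2 x (mem_centralizer_singleton_iff.2 e.symm))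
    have hN3 : Nat.card (normalizer (Q : Set G)) = 3 := by
      have hd : Nat.card (normalizer (Q : Set G)) ∣ 12 := h12 ▸ card_subgroup_dvd_card _
      have h3 : 3 ∣ Nat.card (normalizer (Q : Set G)) := hQ3 ▸ card_dvd_of_le le_normalizer
      have := Nat.le_of_dvd (by norm_num) hd
      obtain ⟨i, hi⟩ := hnodd
      interval_cases hc : Nat.card (normalizer (Q : Set G)) <;> omega
    rw [eq_of_le_of_card_ge le_normalizer (by rw [hN3, hQ3] : Nat.card (normalizer (Q : Set G)) ≤ Nat.card Q)]
    exact hg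
  · -- order sixty
    have h60 : Nat.card G = 60 := by
      simpa [Nat.card_eq_fintype_card] using FourCentralizer.card_eq_sixty h4 h.tord (fun u hu => h.one t u h.tord hu) hnorm
    obtain ⟨e⟩ := FourCentralizer.nonempty_mulEquiv_alternating_five h4 h.tord (fun u hu => h.one t u h.tord hu) hnorm
    haveI : IsSimpleGroup G :=
      MulEquiv.isSimpleGroup (H := alternatingGroup (Fin 5)) e
    haveI : Fact (Nat.Prime 5) := ⟨by norm_num⟩
    obtain ⟨x, hx⟩ := exists_prime_orderOf_dvd_card' (G := G) 5 (by rw [h60]; norm_num)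
    set Q := zpowers x with hQ
    have hQ5 : Nat.card Q = 5 := by rw [hQ, Nat.card_zpowers, hx]
    let P : Sylow 5 G := (IsPGroup.of_card (n := 1) (by rw [hQ5, pow_one]) : IsPGroup 5 Q).toSylow (by
      have := Q.card_mul_index; rw [hQ5, h60] at this; omega)
    have hPQ : (P : Subgroup G) = Q := rfl
    have hn : Nat.card (Sylow 5 G) = 6 := by
      have h1 : Nat.card (Sylow 5 G) ≡ 1 [MOD 5] := card_sylow_modEq_one 5 G
      have h2 : Nat.card (Sylow 5 G) ∣ 12 := by
        have := P.card_dvd_index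
        rwa [show (P : Subgroup G).index = 12 by
          have := Q.card_mul_index; rw [hQ5, h60] at this; rw [hPQ]; omega] at this
      have h3 : Nat.card (Sylow 5 G) ≠ 1 := by
        intro h1'
        haveI : Subsingleton (Sylow 5 G) := (Nat.card_eq_one_iff_unique.1 h1').1
        have hPn : (P : Subgroup G).Normal := P.normal_of_subsingleton
        rcases hPn.eq_bot_or_eq_top with e | e
        · rw [hPQ] at e; rw [e, card_bot] at hQ5; omega
        · rw [hPQ] at e; rw [e, card_top, h60] at hQ5; omega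
      have := Nat.le_of_dvd (by norm_num) h2
      unfold Nat.ModEq at h1
      interval_cases hc : Nat.card (Sylow 5 G) <;> omega
    have hN10 : Nat.card (normalizer (Q : Set G)) = 10 := by
      have := P.card_eq_index_normalizer
      rw [hn] at this
      replace this : 6 = (normalizer (Q : Set G)).index := this
      have e2 := (normalizer (Q : Set G)).card_mul_index
      rw [← this, h60] at e2
      omega
    have hcent : ∀ y ∈ Q, y ≠ 1 → centralizer ({y} : Set G) = Q := by
      intro y hy hy1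
      have hy5 := hcyc 5 x (by norm_num) hx y hy hy1
      have hzy : zpowers y = Q := eq_of_le_of_card_ge (zpowers_le.2 hy) (by rw [hQ5, Nat.card_zpowers, hy5])
      refine (eq_of_le_of_card_ge (fun w hw => mem_centralizer_singleton_iff.2 ?_) ?_).symm
      · obtain ⟨i, rfl⟩ := mem_zpowers_iff.1 hy
        obtain ⟨j, rfl⟩ := mem_zpowers_iff.1 hw
        rw [← zpow_add, ← zpow_add, add_comm]
      · have hle : centralizer ({y} : Set G) ≤ normalizer (Q : Set G) := fun w hw => by
          rw [← hzy]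
          rw [← centralizer_closure, ← zpowers_eq_closure] at hw
          exact centralizer_le_normalizer _ hw
        have hd : Nat.card (centralizer ({y} : Set G)) ∣ 10 := hN10 ▸ card_dvd_of_le hle
        obtain ⟨i, hi⟩ := hodd y (hsq 5 y (by norm_num) (by norm_num) hy5)
        have := Nat.le_of_dvd (by norm_num) hd
        interval_cases hc : Nat.card (centralizer ({y} : Set G)) <;> omega
    obtain ⟨w, hw⟩ := exists_prime_orderOf_dvd_card' (G := normalizer (Q : Set G)) 2 (by rw [hN10]; norm_num)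
    rw [← orderOf_coe] at hw
    obtain ⟨Kw, sw, hsw, hKw, -⟩ := h.at_invol hw
    rw [hk] at hKw
    have hKwz : Kw = zpowers (w : G) :=
      (eq_of_le_of_card_ge (zpowers_le.2 hsw.tK) (by rw [hKw, Nat.card_zpowers, hw])).symm
    have hDcard : Nat.card (zpowers (w : G)) = 2 := by rw [Nat.card_zpowers, hw]
    have hbot : Q ⊓ zpowers (w : G) = ⊥ := inf_eq_bot_of_coprime (by rw [hQ5, hDcard]; norm_num)
    refine ⟨Q, zpowers (w : G), by rw [hQ5, h60], hcent, inferInstance, by rw [hQ5, hDcard], hbot, ?_, ?_⟩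
    · refine (eq_of_le_of_card_ge (sup_le le_normalizer (zpowers_le.2 w.2)) ?_).symm
      rw [hN10]
      have h5 : 5 ∣ Nat.card (Q ⊔ zpowers (w : G) : Subgroup G) := hQ5 ▸ card_dvd_of_le le_sup_left
      have h2 : 2 ∣ Nat.card (Q ⊔ zpowers (w : G) : Subgroup G) := hDcard ▸ card_dvd_of_le le_sup_right
      exact Nat.le_of_dvd Nat.card_pos (Nat.Coprime.mul_dvd_of_dvd_of_dvd (by norm_num) h2 h5)
    · intro X hX hX1
      have hwb : zpowers (w : G) ≠ ⊥ := fun e => by rw [e, card_bot] at hDcard; omega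
      rw [← hKwz] at hX hwb ⊢
      refine ⟨by rw [hsw.normalizer_sub hX hX1, hsw.normalizer_sub le_rfl hwb], sw, hsw.sord, hsw.sK, hsw.inv, ?_⟩
      rw [hsw.normalizer_sub le_rfl hwb, hsw.sup]

/-- The theorem of Brauer, Suzuki and Wall, abstract form. -/
theorem concl : ∃ Q D : Subgroup G, Concl Q D := by
  rcases Nat.lt_or_ge (Nat.card K) 4 with hlt | hk
  · refine h.concl_small ?_
    have := Nat.le_of_dvd Nat.card_pos h.two_dvd_k
    obtain ⟨i, hi⟩ := h.two_dvd_k
    omega
  · rcases h.dichotomy hk with hp | hm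
    · exact h.concl_plus hk hp
    · exact h.concl_minus hk hm

end Setup

end Cfsg.Agent.Screen.BSW
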