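import Mathlib.GroupTheory.Sylow
import Mathlib.GroupTheory.Transfer
import Mathlib.GroupTheory.Nilpotent
import Mathlib.Tactic.Group

/-!
Groups in which every Sylow subgroup for a prime `r ≠ p` is centralized by its normalizer, and
trivial intersection of Sylow subgroups whose local subgroups are `p`-closed.
-/

set_option autoImplicit false
set_option linter.style.haveILetI false

namespace Cfsg.Agent.Screen.BSW

open Subgroup

variable {M : Type*} [Group M] [Finite M]

/-- Burnside transfer: a normal subgroup of order prime to `r` with quotient the Sylow subgroup. -/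
theorem exists_ker_of_central {r : ℕ} [Fact r.Prime] (R : Sylow r M)
    (hR : normalizer ((R : Subgroup M) : Set M) ≤ centralizer ((R : Subgroup M) : Set M)) :
    ∃ L : Subgroup M, ¬ r ∣ Nat.card L ∧ (∀ a : M, (orderOf a).Coprime r → a ∈ L) ∧
      ∀ a b : M, a * b * a⁻¹ * b⁻¹ ∈ L := by
  have hcomm : ∀ x y : (R : Subgroup M), x * y = y * x := fun x y => Subtype.ext
    ((mem_centralizer_iff.1 (hR (le_normalizer x.2)) y y.2).symm)
  refine ⟨(MonoidHom.transferSylow R hR).ker, MonoidHom.not_dvd_card_ker_transferSylow R hR,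
    fun a ha => ?_, fun a b => ?_⟩
  · rw [MonoidHom.mem_ker, ← orderOf_eq_one_iff]
    obtain ⟨m, hm⟩ := IsPGroup.iff_orderOf.1 R.2 (MonoidHom.transferSylow R hR a)
    have h1 : orderOf (MonoidHom.transferSylow R hR a) ∣ orderOf a := orderOf_map_dvd _ a
    rw [hm] at h1 ⊢
    exact Nat.eq_one_of_dvd_coprimes (ha.pow_right m) h1 dvd_rfl
  · rw [MonoidHom.mem_ker, map_mul, map_mul, map_mul, map_inv, map_inv,
      hcomm (MonoidHom.transferSylow R hR a) (MonoidHom.transferSylow R hR b), mul_inv_cancel_right,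
      mul_inv_cancel]

/-- If all Sylow subgroups are centralized by their normalizers then the group is abelian. -/
theorem comm_of_all_central (h : ∀ r : ℕ, r.Prime → r ∣ Nat.card M → ∀ R : Sylow r M,
      normalizer ((R : Subgroup M) : Set M) ≤ centralizer ((R : Subgroup M) : Set M)) (a b : M) :
    a * b = b * a := by
  suffices a * b * a⁻¹ * b⁻¹ = 1 by rwa [mul_inv_eq_one, mul_inv_eq_iff_eq_mul] at this
  by_contra hne
  obtain ⟨r, hr, hdvd⟩ := Nat.exists_prime_and_dvd (fun e => hne (orderOf_eq_one_iff.1 e))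
  haveI : Fact r.Prime := ⟨hr⟩
  obtain ⟨R⟩ : Nonempty (Sylow r M) := inferInstance
  obtain ⟨L, hL, -, hcomm⟩ := exists_ker_of_central R (h r hr (hdvd.trans (orderOf_dvd_natCard _)) R)
  exact hL (hdvd.trans (L.orderOf_dvd_natCard (hcomm a b)))

/-- If all Sylow subgroups for primes other than `p` are centralized by their normalizers, the
elements of `p`-power order generate a `p`-group. -/
theorem isPGroup_closure_of_central {p : ℕ} [hp : Fact p.Prime]
    (h : ∀ r : ℕ, r.Prime → r ≠ p → r ∣ Nat.card M → ∀ R : Sylow r M,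
      normalizer ((R : Subgroup M) : Set M) ≤ centralizer ((R : Subgroup M) : Set M)) :
    IsPGroup p (closure {a : M | ∃ i : ℕ, orderOf a = p ^ i}) := by
  refine IsPGroup.iff_orderOf.2 fun ⟨a, ha⟩ => ?_
  refine ⟨(orderOf (⟨a, ha⟩ : closure _)).primeFactorsList.length, ?_⟩
  refine Nat.eq_prime_pow_of_unique_prime_dvd (orderOf_pos _).ne' fun {r} hr hdvd => ?_
  by_contra hrp
  haveI : Fact r.Prime := ⟨hr⟩
  obtain ⟨R⟩ : Nonempty (Sylow r M) := inferInstance
  rw [Subgroup.orderOf_mk] at hdvd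
  obtain ⟨L, hL, hmem, -⟩ := exists_ker_of_central R (h r hr hrp (hdvd.trans (orderOf_dvd_natCard _)) R)
  refine hL (hdvd.trans (L.orderOf_dvd_natCard ((closure_le L).2 ?_ ha)))
  rintro b ⟨i, hi⟩
  refine hmem b ?_
  rw [hi]
  exact (Nat.coprime_primes hp.out hr).2 (Ne.symm hrp) |>.pow_left i

variable {G : Type*} [Group G] [Finite G]

/-- Sylow subgroups are trivial intersection subgroups if all local subgroups are `p`-closed. -/
theorem sylow_ti {p : ℕ} [Fact p.Prime]
    (h : ∀ I : Subgroup G, I ≠ ⊥ → IsPGroup p I →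
      IsPGroup p (closure {a : normalizer (I : Set G) | ∃ i : ℕ, orderOf a = p ^ i}))
    (P Q : Sylow p G) (x : G) (hx1 : x ≠ 1) (hxP : x ∈ (P : Subgroup G)) (hxQ : x ∈ (Q : Subgroup G)) :
    P = Q := by
  by_contra hne
  -- a maximal nontrivial intersection
  obtain ⟨I, ⟨A, B, hAB, hI, hI1⟩, hmax⟩ := Set.Finite.exists_maximal
    (s := {I : Subgroup G | ∃ A B : Sylow p G, A ≠ B ∧ I = (A : Subgroup G) ⊓ B ∧ I ≠ ⊥}) (Set.toFinite _)
    ⟨_, P, Q, hne, rfl, fun e => hx1 (by
      have : x ∈ (P : Subgroup G) ⊓ Q := ⟨hxP, hxQ⟩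
      rwa [e, mem_bot] at this)⟩
  subst hI
  set N := normalizer (((A : Subgroup G) ⊓ B : Subgroup G) : Set G) with hN
  have hIp : IsPGroup p ((A : Subgroup G) ⊓ B : Subgroup G) := A.2.to_le inf_le_left
  obtain ⟨C, hC⟩ := ((h _ hI1 hIp).map N.subtype).exists_le_sylow
  have key : ∀ D : Sylow p G, (A : Subgroup G) ⊓ B < D → D = C := by
    intro D hD
    haveI : Group.IsNilpotent (D : Subgroup G) := D.2.isNilpotent
    set I' := ((A : Subgroup G) ⊓ B).subgroupOf (D : Subgroup G) with hI'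
    have hlt : I' < ⊤ := lt_top_iff_ne_top.2 fun e => hD.not_ge (subgroupOf_eq_top.1 e)
    obtain ⟨g, hgN, hgI⟩ := SetLike.exists_of_lt (Group.normalizerCondition_of_isNilpotent I' hlt)
    have hgN' : (g : G) ∈ N := by
      rw [hN, mem_normalizer_iff]
      intro z
      constructor
      · intro hz
        exact (mem_normalizer_iff.1 hgN ⟨z, hD.le hz⟩).1 hz
      · intro hz
        have hzD : z ∈ (D : Subgroup G) := by
          have e : z = (g : G)⁻¹ * ((g : G) * z * (g : G)⁻¹) * g := by group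
          rw [e]
          exact mul_mem (mul_mem (inv_mem g.2) (hD.le hz)) g.2
        exact (mem_normalizer_iff.1 hgN ⟨z, hzD⟩).2 hz
    have hpow : ∀ z : G, ∀ hz : z ∈ N, z ∈ (D : Subgroup G) → z ∈ (C : Subgroup G) := by
      intro z hz hzD
      refine hC (mem_map.2 ⟨⟨z, hz⟩, subset_closure ?_, rfl⟩)
      obtain ⟨i, hi⟩ := IsPGroup.iff_orderOf.1 D.2 ⟨z, hzD⟩
      exact ⟨i, by rw [Subgroup.orderOf_mk] at hi ⊢; exact hi⟩
    by_contra hDC
    have hle : (A : Subgroup G) ⊓ B ≤ (D : Subgroup G) ⊓ C := fun z hz =>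
      ⟨hD.le hz, hpow z (le_normalizer hz) (hD.le hz)⟩
    have hne' : (D : Subgroup G) ⊓ C ≠ ⊥ := fun e => hI1 (eq_bot_iff.2 (hle.trans e.le))
    have := hmax ⟨D, C, hDC, rfl, hne'⟩ hle
    exact hgI (mem_subgroupOf.2 (this ⟨g.2, hpow g hgN' g.2⟩))
  have hlt : ∀ D E : Sylow p G, D ≠ E → (D : Subgroup G) ⊓ E < D := fun D E hDE =>
    lt_of_le_of_ne inf_le_left fun e => hDE (Sylow.ext (D.3 E.2 (inf_eq_left.1 e)).symm)
  exact hAB ((key A (hlt A B hAB)).trans (key B (inf_comm (B : Subgroup G) A ▸ hlt B A (Ne.symm hAB))).symm)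

end Cfsg.Agent.Screen.BSW
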