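import Cfsg.Agent.Screen.BSW.Cases
import Cfsg.Agent.Screen.BSW.TIFromLocal
import Mathlib.GroupTheory.SchurZassenhaus

/-!
The self-centralizing Sylow subgroup in the second case.
-/

set_option autoImplicit false
set_option linter.unusedSectionVars false
set_option linter.style.haveILetI false

namespace Cfsg.Agent.Screen.BSW

open Subgroup

universe u

variable {G : Type u} [Group G] [Finite G] {t s : G} {K : Subgroup G}

namespace Setup

variable (h : Setup t K s) (hk : 4 ≤ Nat.card K) (hm : Minus t K)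
include h hk hm

/-- A prime divisor of `|K| - 1`: the elements of that order are real outside elements. -/
theorem prime_real {r : ℕ} (hr : r.Prime) (hrk : r ∣ Nat.card K - 1) {z : G} (hz : orderOf z = r) :
    Out K z ∧ IsConj z z⁻¹ := by
  haveI : Fact r.Prime := ⟨hr⟩
  obtain ⟨hone, ⟨y, hy, hyr⟩, -⟩ := h.minus_real hk hm
  obtain ⟨z₀, hz₀⟩ := exists_prime_orderOf_dvd_card' r (G := centralizer ({y} : Set G))
    (by rw [(hone y hy hyr).1]; exact hrk)
  obtain ⟨R, hR⟩ := (IsPGroup.of_card (n := 1) (by rw [Nat.card_zpowers, Subgroup.orderOf_coe, hz₀, pow_one]) :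
    IsPGroup r (zpowers (z₀ : G))).exists_le_sylow
  haveI : Nontrivial (R : Subgroup G) := (nontrivial_iff_ne_bot _).2 fun e => by
    have := hR (mem_zpowers (z₀ : G))
    rw [e, mem_bot] at this
    rw [← Subgroup.orderOf_coe, this, orderOf_one] at hz₀
    exact hr.ne_one hz₀.symm
  haveI := R.2.center_nontrivial
  obtain ⟨c, hc1⟩ := exists_ne (1 : center (R : Subgroup G))
  have hcR : ∀ q ∈ (R : Subgroup G), q * ((c : (R : Subgroup G)) : G) = ((c : (R : Subgroup G)) : G) * q :=
    fun q hq => congrArg Subtype.val ((mem_center_iff.1 c.2) ⟨q, hq⟩)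
  obtain ⟨hz₀o, hz₀r, hz₀C⟩ := h.out_mem hy hyr z₀.2 fun e => by
    rw [← Subgroup.orderOf_coe, e, orderOf_one] at hz₀; exact hr.ne_one hz₀.symm
  have hcmem : ((c : (R : Subgroup G)) : G) ∈ centralizer ({(z₀ : G)} : Set G) :=
    mem_centralizer_singleton_iff.2 (hcR z₀ (hR (mem_zpowers _))).symm
  obtain ⟨hco, hcr, hcC⟩ := h.out_mem hz₀o hz₀r hcmem fun e => hc1 (Subtype.ext (Subtype.ext e))
  have hRA : (R : Subgroup G) ≤ centralizer ({(z₀ : G)} : Set G) := fun q hq => by
    rw [← hcC]; exact mem_centralizer_singleton_iff.2 (hcR q hq)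
  obtain ⟨S, hS⟩ := (IsPGroup.of_card (n := 1) (by rw [Nat.card_zpowers, hz, pow_one]) :
    IsPGroup r (zpowers z)).exists_le_sylow
  obtain ⟨g, hg⟩ := MulAction.exists_smul_eq G S R
  have hgz : g * z * g⁻¹ ∈ (R : Subgroup G) :=
    hg ▸ Subgroup.smul_mem_pointwise_smul _ (MulAut.conj g) _ (hS (mem_zpowers _))
  obtain ⟨ho, hor, -⟩ := h.out_mem hz₀o hz₀r (hRA hgz) fun e => by
    rw [conj_eq_one_iff] at e; rw [e, orderOf_one] at hz; exact hr.ne_one hz.symm
  have e : z = g⁻¹ * (g * z * g⁻¹) * g⁻¹⁻¹ := by group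
  refine ⟨e ▸ out_conj ho g⁻¹, ?_⟩
  obtain ⟨a, ha⟩ := isConj_iff.1 hor
  refine isConj_iff.2 ⟨g⁻¹ * a * g, ?_⟩
  calc g⁻¹ * a * g * z * (g⁻¹ * a * g)⁻¹ = g⁻¹ * (a * (g * z * g⁻¹) * a⁻¹) * g := by group
    _ = z⁻¹ := by rw [ha]; group

/-- A prime divisor of `|K|`: elements of that order are not outside. -/
theorem prime_in {r : ℕ} (hr : r.Prime) (hrk : r ∣ 2 * Nat.card K) {z : G} (hz : orderOf z = r) :
    ¬ Out K z := by
  intro ho
  haveI : Fact r.Prime := ⟨hr⟩
  by_cases h2 : r = 2
  · exact h.not_out_invol (h2 ▸ hz) ho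
  set H := centralizer ({t} : Set G) with hH
  obtain ⟨P⟩ : Nonempty (Sylow r H) := inferInstance
  have hnp : ¬ r ∣ H.index := fun hd => hr.ne_one (Nat.dvd_one.1 (h.coprime ▸ Nat.dvd_gcd hd hrk))
  let Q : Sylow r G := (P.2.map H.subtype).toSylow (by
    rw [index_map_subtype]
    intro hd
    rcases hr.dvd_mul.1 hd with e | e
    · exact P.not_dvd_index e
    · exact hnp e)
  obtain ⟨R, hR⟩ := (IsPGroup.of_card (n := 1) (by rw [Nat.card_zpowers, hz, pow_one]) :
    IsPGroup r (zpowers z)).exists_le_sylow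
  obtain ⟨g, hg⟩ := MulAction.exists_smul_eq G R Q
  obtain ⟨x, -, hxe⟩ := mem_map.1 (show g * z * g⁻¹ ∈ (Q : Subgroup G) from
    hg ▸ Subgroup.smul_mem_pointwise_smul _ (MulAut.conj g) _ (hR (mem_zpowers _)))
  refine ho.2 g (h.odd_mem (hxe ▸ x.2) ?_)
  have e : orderOf (g * z * g⁻¹) = orderOf z :=
    orderOf_injective (MulAut.conj g).toMonoidHom (MulAut.conj g).injective z
  rw [e, hz]
  exact hr.odd_of_ne_two h2

/-- Subgroups of odd order: Sylow subgroups for primes dividing `|K| (|K| - 1)` are centralized by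
their normalizers. -/
theorem central_sylow {M : Subgroup G} (hM : Odd (Nat.card M)) {r : ℕ} (hr : r.Prime)
    (hrk : r ∣ Nat.card K - 1 ∨ r ∣ 2 * Nat.card K) (hrM : r ∣ Nat.card M) (R : Sylow r M) :
    normalizer ((R : Subgroup M) : Set M) ≤ centralizer ((R : Subgroup M) : Set M) := by
  haveI : Fact r.Prime := ⟨hr⟩
  have hodd : ∀ a : M, Odd (orderOf (a : G)) := fun a => by
    rw [Subgroup.orderOf_coe]; exact hM.of_dvd_nat (orderOf_dvd_natCard a)
  haveI : Nontrivial (R : Subgroup M) := (nontrivial_iff_ne_bot _).2 (R.ne_bot_of_dvd_card hrM)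
  haveI := R.2.center_nontrivial
  obtain ⟨m, hm'⟩ := IsPGroup.iff_card.1 (R.2.to_subgroup (center (R : Subgroup M)))
  have hm0 : m ≠ 0 := fun e => absurd (Finite.one_lt_card (α := center (R : Subgroup M))) (by
    rw [hm', e, pow_zero]; omega)
  obtain ⟨c, hc⟩ := exists_prime_orderOf_dvd_card' r (G := center (R : Subgroup M)) (hm' ▸ dvd_pow_self r hm0)
  set z : G := (((c : (R : Subgroup M)) : M) : G) with hzdef
  have hz : orderOf z = r := by rw [hzdef, Subgroup.orderOf_coe, Subgroup.orderOf_coe, Subgroup.orderOf_coe, hc]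
  have hz1 : z ≠ 1 := fun e => by rw [e, orderOf_one] at hz; exact hr.ne_one hz.symm
  have hr2 : r ≠ 2 := by
    rintro rfl
    exact absurd (hM.of_dvd_nat hrM) (by decide)
  have hRC : ∀ a ∈ (R : Subgroup M), (a : G) ∈ centralizer ({z} : Set G) := fun a ha =>
    mem_centralizer_singleton_iff.2
      (congrArg (fun q : (R : Subgroup M) => ((q : M) : G)) ((mem_center_iff.1 c.2) ⟨a, ha⟩))
  intro a haN
  rw [mem_centralizer_iff]
  intro b hb
  have hcR : ((c : (R : Subgroup M)) : M) ∈ (R : Subgroup M) := (c : (R : Subgroup M)).2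
  have hconj : (a : G) * z * (a : G)⁻¹ ∈ centralizer ({z} : Set G) :=
    hRC _ ((mem_normalizer_iff.1 haN _).1 hcR)
  apply Subtype.ext
  show (b : G) * a = a * b
  rcases hrk with hrk | hrk
  · obtain ⟨ho, hor⟩ := h.prime_real hk hm hr hrk hz
    obtain ⟨hone, -, -⟩ := h.minus_real hk hm
    obtain ⟨u, hu, huz⟩ := h.out_inverter ho hor
    have hN := (hone z ho hor).2 u hu huz
    obtain ⟨-, -, hC'⟩ := h.out_mem ho hor hconj fun e => hz1 (conj_eq_one_iff.1 e)
    have haA : (a : G) ∈ normalizer ((centralizer ({z} : Set G) : Subgroup G) : Set G) := by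
      rw [mem_normalizer_iff]
      intro w
      constructor
      · intro hw
        rw [← hC', mem_centralizer_singleton_iff]
        calc (a : G) * w * (a : G)⁻¹ * ((a : G) * z * (a : G)⁻¹) = a * (w * z) * (a : G)⁻¹ := by group
          _ = _ := by rw [mem_centralizer_singleton_iff.1 hw]; group
      · intro hw
        rw [← hC', mem_centralizer_singleton_iff] at hw
        rw [mem_centralizer_singleton_iff]
        calc w * z = (a : G)⁻¹ * ((a : G) * w * (a : G)⁻¹ * ((a : G) * z * (a : G)⁻¹)) * a := by group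
          _ = z * w := by rw [hw]; group
    -- odd order elements of the normalizer lie in the centralizer
    have haC : (a : G) ∈ centralizer ({z} : Set G) := by
      set A := centralizer ({z} : Set G)
      have hi := h.out_inverts ho hu huz
      have huu := TwoGroups.sq_one_of_order_two hu
      have hui := TwoGroups.inv_eq_of_sq_one huu
      let L : Subgroup G :=
        { carrier := {g | g ∈ A ∨ g * u ∈ A}
          one_mem' := Or.inl A.one_mem
          mul_mem' := by
            rintro x y (hx | hx) (hy | hy)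
            · exact Or.inl (A.mul_mem hx hy)
            · exact Or.inr (by rw [mul_assoc]; exact A.mul_mem hx hy)
            · refine Or.inr ?_
              rw [show x * y * u = (x * u) * (u * y * u⁻¹) by simp [mul_assoc, ← mul_assoc u u, huu, hui], hi y hy]
              exact A.mul_mem hx (A.inv_mem hy)
            · refine Or.inl ?_
              rw [show x * y = (x * u) * (u * (y * u) * u⁻¹) by simp [mul_assoc, ← mul_assoc u u, huu, hui], hi _ hy]
              exact A.mul_mem hx (A.inv_mem hy)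
          inv_mem' := by
            rintro x (hx | hx)
            · exact Or.inl (A.inv_mem hx)
            · refine Or.inr ?_
              rw [show x⁻¹ * u = u * (x * u)⁻¹ * u⁻¹ by simp [mul_assoc, ← mul_assoc u u, huu, hui],
                hi _ (A.inv_mem hx), inv_inv]
              exact hx }
      rw [hN] at haA
      rcases (sup_le (fun x hx => Or.inl hx) (zpowers_le.2 (Or.inr (by rw [huu]; exact A.one_mem))) :
        A ⊔ zpowers u ≤ L) haA with e | e
      · exact e
      · exfalso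
        have hsq : (a : G) * a = 1 := by
          have := hi _ e
          rw [mul_inv_rev, hui] at this
          have e2 : u * ((a : G) * u) * u = u * a := by simp [mul_assoc, huu]
          rw [e2] at this
          exact mul_eq_one_iff_eq_inv.2 (mul_left_cancel this)
        have h2 : orderOf (a : G) ∣ 2 := orderOf_dvd_of_pow_eq_one (by rw [pow_two, hsq])
        have h1 : orderOf (a : G) = 1 := by
          rcases (Nat.dvd_prime Nat.prime_two).1 h2 with q | q
          · exact q
          · exact absurd (q ▸ hodd a) (by decide)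
        rw [orderOf_eq_one_iff.1 h1, one_mul] at e
        exact h.out_no_invol ho hu (mem_centralizer_singleton_iff.1 e).symm
    exact h.out_comm ho hor _ (hRC b hb) _ haC
  · have hz' := h.prime_in hk hm hr hrk hz
    obtain ⟨g, hg⟩ : ∃ g : G, g * z * g⁻¹ ∈ K := by
      by_contra hno; exact hz' ⟨hz1, fun g hg => hno ⟨g, hg⟩⟩
    set h' := h.conj g⁻¹
    set K' := K.map (MulAut.conj g⁻¹).toMonoidHom
    have hzK : z ∈ K' := mem_map.2 ⟨_, hg, show g⁻¹ * (g * z * g⁻¹) * g⁻¹⁻¹ = z by group⟩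
    have hzz : z * z ≠ 1 := fun e => hr2 (by
      rw [← hz]; exact Components.invol_of_mul_self e hz1)
    have hCK : centralizer ({z} : Set G) = K' := h'.cent hzK hzz
    rw [hCK] at hconj hRC
    exact h'.comm _ (hRC b hb) _ (h'.odd_mem (h'.mem_of_conj hzK hz1 hconj) (hodd a))

/-- The subgroups `Q` and `D`. -/
theorem minus_structure : ∃ Q D : Subgroup G, Nat.card Q = 2 * Nat.card K - 1 ∧
      (∀ x ∈ Q, x ≠ 1 → centralizer ({x} : Set G) = Q) ∧ Nat.card D = Nat.card K - 1 ∧ Q ⊓ D = ⊥ ∧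
      normalizer (Q : Set G) = Q ⊔ D ∧ ∃ a u : G, Out K a ∧ IsConj a a⁻¹ ∧ orderOf u = 2 ∧
        centralizer ({a} : Set G) = D ∧ (∀ d ∈ D, u * d * u⁻¹ = d⁻¹) ∧
        normalizer (D : Set G) = D ⊔ zpowers u := by
  classical
  haveI := Fintype.ofFinite G
  obtain ⟨hone, -, hW⟩ := h.minus_real hk hm
  obtain ⟨k, hkdef⟩ : ∃ k, k = Nat.card K := ⟨_, rfl⟩
  have hG := h.card_G
  rw [hm.1] at hG
  rw [← hkdef] at hG hW hone
  have hk4 : 4 ≤ k := hkdef ▸ hk
  obtain ⟨q, hq⟩ : ∃ q, q = 2 * k - 1 := ⟨_, rfl⟩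
  rw [← hq] at hG
  have hcop : Nat.Coprime q (2 * k) ∧ Nat.Coprime q (k - 1) := by
    constructor
    · have h1 := h.coprime
      rw [hm.1, ← hkdef, ← hq] at h1
      exact h1.coprime_mul_left
    · refine Nat.coprime_of_dvd fun r hr hrq hrk => hr.ne_one (Nat.dvd_one.1 ?_)
      have := Nat.dvd_sub hrq (hrk.mul_left 2)
      rwa [show q - 2 * (k - 1) = 1 by omega] at this
  -- nonreal outside elements
  have hNR : ∀ w : G, (Out K w ∧ ¬ IsConj w w⁻¹) → ∀ r : ℕ, r.Prime →
      r ∣ Nat.card (centralizer ({w} : Set G)) → r ∣ q := by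
    rintro w ⟨hw, hwr⟩ r hr hrC
    haveI : Fact r.Prime := ⟨hr⟩
    obtain ⟨c, hc⟩ := exists_prime_orderOf_dvd_card' r hrC
    rw [← Subgroup.orderOf_coe] at hc
    have hc1 : (c : G) ≠ 1 := fun e => by rw [e, orderOf_one] at hc; exact hr.ne_one hc.symm
    have hwc : w ∈ centralizer ({(c : G)} : Set G) :=
      mem_centralizer_singleton_iff.2 (mem_centralizer_singleton_iff.1 c.2).symm
    have hdvd : r ∣ 2 * k * ((k - 1) * q) := hG ▸ hrC.trans (card_subgroup_dvd_card _)
    rcases hr.dvd_mul.1 hdvd with e | e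
    · exfalso
      have hci := h.prime_in hk hm hr (hkdef ▸ e) hc
      obtain ⟨g, hg⟩ : ∃ g : G, g * (c : G) * g⁻¹ ∈ K := by
        by_contra hno; exact hci ⟨hc1, fun g hg => hno ⟨g, hg⟩⟩
      have hr2 : r ≠ 2 := by
        rintro rfl
        exact h.out_no_invol hw hc (mem_centralizer_singleton_iff.1 hwc)
      have hcc : g * (c : G) * g⁻¹ * (g * (c : G) * g⁻¹) ≠ 1 := fun e2 => hr2 (by
        have e3 := Components.invol_of_mul_self e2 fun e4 => hc1 (conj_eq_one_iff.1 e4)
        rw [show orderOf (g * (c : G) * g⁻¹) = orderOf (c : G) from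
          orderOf_injective (MulAut.conj g).toMonoidHom (MulAut.conj g).injective _, hc] at e3
        exact e3)
      refine hw.2 g ?_
      rw [← h.cent hg hcc, mem_centralizer_singleton_iff]
      calc g * w * g⁻¹ * (g * (c : G) * g⁻¹) = g * (w * c) * g⁻¹ := by group
        _ = _ := by rw [mem_centralizer_singleton_iff.1 hwc]; group
    rcases hr.dvd_mul.1 e with e | e
    · exfalso
      obtain ⟨hco, hcr⟩ := h.prime_real hk hm hr (hkdef ▸ e) hc
      exact hwr (h.out_mem hco hcr hwc hw.1).2.1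
    · exact e
  have hCdvd : ∀ w : G, (Out K w ∧ ¬ IsConj w w⁻¹) → Nat.card (centralizer ({w} : Set G)) ∣ q := by
    intro w hw
    refine (Nat.coprime_of_dvd fun r hr hrC hr2 => ?_).dvd_of_dvd_mul_left
      (m := 2 * k * (k - 1)) (by rw [mul_assoc, ← hG]; exact card_subgroup_dvd_card _)
    have hrq := hNR w hw r hr hrC
    rcases hr.dvd_mul.1 hr2 with e | e
    · exact hr.ne_one (Nat.dvd_one.1 (hcop.1 ▸ Nat.dvd_gcd hrq e))
    · exact hr.ne_one (Nat.dvd_one.1 (hcop.2 ▸ Nat.dvd_gcd hrq e))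
  obtain ⟨w₀, hw₀⟩ : ∃ w : G, Out K w ∧ ¬ IsConj w w⁻¹ := by
    have hpos : 0 < Nat.card {w : G // Out K w ∧ ¬ IsConj w w⁻¹} := by
      rw [hW]; exact Nat.mul_pos (by omega) (by omega)
    exact ((Nat.card_pos_iff.1 hpos).1).elim fun w => ⟨w.1, w.2⟩
  have hinv : ∀ w : G, (Out K w ∧ ¬ IsConj w w⁻¹) → (Out K w⁻¹ ∧ ¬ IsConj w⁻¹ w⁻¹⁻¹) := by
    rintro w ⟨hw, hwr⟩
    refine ⟨⟨inv_ne_one.2 hw.1, fun g hg => hw.2 g ?_⟩, fun e => hwr ?_⟩
    · have := K.inv_mem hg
      rwa [show (g * w⁻¹ * g⁻¹)⁻¹ = g * w * g⁻¹ by group] at this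
    · rw [inv_inv] at e; exact e.symm
  have hclass : ∀ w : G, (Out K w ∧ ¬ IsConj w w⁻¹) → Nat.card (centralizer ({w} : Set G)) = q ∧
      ∀ v : G, (Out K v ∧ ¬ IsConj v v⁻¹) → IsConj w v ∨ IsConj w⁻¹ v := by
    intro w hw
    set W := Finset.univ.filter fun v : G => Out K v ∧ ¬ IsConj v v⁻¹
    have hWc : W.card = 4 * k * (k - 1) := by
      rw [← hW, Nat.card_eq_fintype_card, Fintype.card_subtype]
    set C1 := Finset.univ.filter fun v : G => IsConj w v
    set C2 := Finset.univ.filter fun v : G => IsConj w⁻¹ v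
    have hcls : ∀ a : G, (Finset.univ.filter fun v : G => IsConj a v).card *
        Nat.card (centralizer ({a} : Set G)) = Nat.card G := fun a => by
      rw [← Components.card_class_mul_centralizer a]
      congr 1
      rw [Nat.card_eq_fintype_card, Fintype.card_subtype]
    have hsub : C1 ∪ C2 ⊆ W := by
      intro v hv
      simp only [C1, C2, W, Finset.mem_union, Finset.mem_filter, Finset.mem_univ, true_and] at hv ⊢
      have key : ∀ a : G, (Out K a ∧ ¬ IsConj a a⁻¹) → IsConj a v → Out K v ∧ ¬ IsConj v v⁻¹ := by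
        rintro a ⟨ha, har⟩ hav
        refine ⟨out_of_isConj ha hav, fun e => har ?_⟩
        obtain ⟨c, hc⟩ := isConj_iff.1 hav
        have h2 : IsConj v⁻¹ a⁻¹ := isConj_iff.2 ⟨c⁻¹, by rw [← hc]; group⟩
        exact hav.trans (e.trans h2)
      rcases hv with hv | hv
      · exact key w hw hv
      · exact key _ (hinv w hw) hv
    have hdisj : Disjoint C1 C2 := by
      rw [Finset.disjoint_left]
      intro v hv hv'
      simp only [C1, C2, Finset.mem_filter, Finset.mem_univ, true_and] at hv hv'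
      exact hw.2 (hv.trans hv'.symm)
    have hCle : ∀ a : G, (Out K a ∧ ¬ IsConj a a⁻¹) →
        2 * k * (k - 1) ≤ (Finset.univ.filter fun v : G => IsConj a v).card ∧
        ((Finset.univ.filter fun v : G => IsConj a v).card ≤ 2 * k * (k - 1) →
          Nat.card (centralizer ({a} : Set G)) = q) := by
      intro a ha
      obtain ⟨d, hd⟩ := hCdvd a ha
      have e := hcls a
      rw [hG, show 2 * k * ((k - 1) * q) = 2 * k * (k - 1) * q by ring, hd] at e
      have hpos : 0 < Nat.card (centralizer ({a} : Set G)) := Nat.card_pos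
      have e2 : (Finset.univ.filter fun v : G => IsConj a v).card = 2 * k * (k - 1) * d :=
        Nat.eq_of_mul_eq_mul_right hpos (by rw [e]; ring)
      have hd0 : 0 < d := Nat.pos_of_ne_zero fun z => by rw [z, mul_zero] at hd; omega
      refine ⟨by rw [e2]; exact Nat.le_mul_of_pos_right _ hd0, fun hle => ?_⟩
      rw [e2] at hle
      have : d = 1 := by
        by_contra hd1
        have h2 : 2 * k * (k - 1) * 2 ≤ 2 * k * (k - 1) * d := Nat.mul_le_mul_left _ (by omega)
        have : 0 < 2 * k * (k - 1) := Nat.mul_pos (by omega) (by omega)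
        omega
      rw [hd, this, mul_one]
    have h12 := Finset.card_le_card hsub
    rw [Finset.card_union_of_disjoint hdisj, hWc, show 4 * k * (k - 1) = 2 * k * (k - 1) + 2 * k * (k - 1) by ring] at h12
    have hl1 := (hCle w hw).1
    have hl2 := (hCle w⁻¹ (hinv w hw)).1
    refine ⟨(hCle w hw).2 (show C1.card ≤ _ by
      change 2 * k * (k - 1) ≤ C2.card at hl2; omega), fun v hv => ?_⟩
    have heq : C1 ∪ C2 = W := Finset.eq_of_subset_of_card_le hsub (by
      rw [Finset.card_union_of_disjoint hdisj, hWc,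
        show 4 * k * (k - 1) = 2 * k * (k - 1) + 2 * k * (k - 1) by ring]
      change 2 * k * (k - 1) ≤ C1.card at hl1
      change 2 * k * (k - 1) ≤ C2.card at hl2
      omega)
    have hvW : v ∈ W := Finset.mem_filter.2 ⟨Finset.mem_univ v, hv⟩
    rw [← heq] at hvW
    simpa [C1, C2] using hvW
  -- every element of order dividing `q`
  have hqW : ∀ x : G, x ≠ 1 → orderOf x ∣ q → Out K x ∧ ¬ IsConj x x⁻¹ := by
    intro x hx1 hxq
    have hxK : ∀ g : G, g * x * g⁻¹ ∉ K := by
      intro g hg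
      have h1 := K.orderOf_dvd_natCard hg
      rw [show orderOf (g * x * g⁻¹) = orderOf x from
        orderOf_injective (MulAut.conj g).toMonoidHom (MulAut.conj g).injective x, ← hkdef] at h1
      exact hx1 (orderOf_eq_one_iff.1 (Nat.eq_one_of_dvd_coprimes hcop.1 hxq (h1.mul_left 2)))
    refine ⟨⟨hx1, hxK⟩, fun hr => hx1 (orderOf_eq_one_iff.1 ?_)⟩
    have h1 : orderOf x ∣ k - 1 := by
      rw [← (hone x ⟨hx1, hxK⟩ hr).1]
      exact (centralizer ({x} : Set G)).orderOf_dvd_natCard (mem_centralizer_singleton_iff.2 rfl)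
    exact Nat.eq_one_of_dvd_coprimes hcop.2 hxq h1
  -- the prime
  have hw₀q : orderOf w₀ ∣ q := ((centralizer ({w₀} : Set G)).orderOf_dvd_natCard
    (mem_centralizer_singleton_iff.2 rfl)).trans (hCdvd w₀ hw₀)
  have hordeq : ∀ v : G, (Out K v ∧ ¬ IsConj v v⁻¹) → orderOf v = orderOf w₀ := by
    intro v hv
    rcases (hclass w₀ hw₀).2 v hv with e | e <;> obtain ⟨c, rfl⟩ := isConj_iff.1 e
    · exact orderOf_injective (MulAut.conj c).toMonoidHom (MulAut.conj c).injective w₀
    · exact (orderOf_injective (MulAut.conj c).toMonoidHom (MulAut.conj c).injective w₀⁻¹).trans (orderOf_inv w₀)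
  obtain ⟨p, hp, hpw⟩ := Nat.exists_prime_and_dvd (fun e => hw₀.1.1 (orderOf_eq_one_iff.1 e))
  haveI : Fact p.Prime := ⟨hp⟩
  have hpord : orderOf w₀ = p := by
    have hpow : orderOf (w₀ ^ (orderOf w₀ / p)) = p := by
      rw [orderOf_pow_of_dvd (Nat.div_pos (Nat.le_of_dvd (orderOf_pos _) hpw) hp.pos).ne'
        (Nat.div_dvd_of_dvd hpw), Nat.div_div_self hpw (orderOf_pos _).ne']
    rw [← hpow]
    refine (hordeq _ (hqW _ (fun e => ?_) ?_)).symm
    · rw [e, orderOf_one] at hpow; exact hp.ne_one hpow.symm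
    · rw [hpow]; exact hpw.trans hw₀q
  have hpq : p ∣ q := hpord ▸ hw₀q
  obtain ⟨Q, hQdef⟩ : ∃ Q : Sylow p G, w₀ ∈ (Q : Subgroup G) := by
    obtain ⟨Q, hQ⟩ := (IsPGroup.of_card (n := 1) (by rw [Nat.card_zpowers, hpord, pow_one]) :
      IsPGroup p (zpowers w₀)).exists_le_sylow
    exact ⟨Q, hQ (mem_zpowers _)⟩
  have hCp : ∀ w : G, (Out K w ∧ ¬ IsConj w w⁻¹) → IsPGroup p (centralizer ({w} : Set G)) := by
    intro w hw
    refine IsPGroup.iff_orderOf.2 fun x => ?_
    by_cases hx : x = 1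
    · exact ⟨0, by rw [hx, orderOf_one, pow_zero]⟩
    · refine ⟨1, ?_⟩
      rw [pow_one, ← Subgroup.orderOf_coe, hordeq _ (hqW _ (fun e => hx (Subtype.ext e)) ?_), hpord]
      exact ((centralizer ({w} : Set G)).orderOf_dvd_natCard x.2).trans (hCdvd w hw)
  have hpG : ¬ p ∣ 2 * k * (k - 1) := fun hd => by
    rcases hp.dvd_mul.1 hd with e | e
    · exact hp.ne_one (Nat.dvd_one.1 (hcop.1 ▸ Nat.dvd_gcd hpq e))
    · exact hp.ne_one (Nat.dvd_one.1 (hcop.2 ▸ Nat.dvd_gcd hpq e))
  -- local subgroups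
  have hlocal : ∀ I : Subgroup G, I ≠ ⊥ → IsPGroup p I →
      IsPGroup p (closure {a : normalizer (I : Set G) | ∃ i : ℕ, orderOf a = p ^ i}) := by
    intro I hI1 hIp
    obtain ⟨⟨x, hxI⟩, hx⟩ := I.ne_bot_iff_exists_ne_one.1 hI1
    have hIW : ∀ a ∈ I, a ≠ 1 → Out K a ∧ ¬ IsConj a a⁻¹ := by
      intro a ha ha1
      refine hqW a ha1 ?_
      obtain ⟨i, hi⟩ := IsPGroup.iff_orderOf.1 hIp ⟨a, ha⟩
      rw [Subgroup.orderOf_mk] at hi
      have hdG := orderOf_dvd_natCard a
      rw [hG, ← mul_assoc, hi] at hdG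
      rw [hi]
      exact (Nat.Coprime.pow_left i ((Nat.Prime.coprime_iff_not_dvd hp).2 hpG)).dvd_of_dvd_mul_left hdG
    have hodd : Odd (Nat.card (normalizer (I : Set G))) := by
      rw [← Nat.not_even_iff_odd, even_iff_two_dvd]
      intro h2
      obtain ⟨u, hu⟩ := exists_prime_orderOf_dvd_card' 2 h2
      rw [← Subgroup.orderOf_coe] at hu
      have hfix : ∀ a ∈ I, Commute a (u : G) → a = 1 := fun a ha hau => by
        by_contra ha1
        exact h.out_no_invol (hIW a ha ha1).1 hu hau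
      have hx1 : x ≠ 1 := fun e => hx (Subtype.ext e)
      exact (hIW x hxI hx1).2 (isConj_iff.2 ⟨u, FourCentralizer.inverts_of_fpf
        (TwoGroups.sq_one_of_order_two hu) I (fun a ha => (mem_normalizer_iff.1 u.2 a).1 ha) hfix x hxI⟩)
    refine isPGroup_closure_of_central fun r hr hrp hrM R => h.central_sylow hk hm hodd hr ?_ hrM R
    rw [← hkdef]
    have hd : r ∣ 2 * k * ((k - 1) * q) := hG ▸ hrM.trans (card_subgroup_dvd_card _)
    rcases hr.dvd_mul.1 hd with e | e
    · exact Or.inr e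
    rcases hr.dvd_mul.1 e with e | e
    · exact Or.inl e
    exfalso
    -- `q` is a power of `p`
    obtain ⟨i, hi⟩ := IsPGroup.iff_card.1 (hCp w₀ hw₀)
    rw [(hclass w₀ hw₀).1] at hi
    exact hrp ((Nat.prime_dvd_prime_iff_eq hr hp).1 (hr.dvd_of_dvd_pow (hi ▸ e)))
  have hti := sylow_ti hlocal
  -- centralizers
  have hcard : Nat.card (Q : Subgroup G) = q := by
    have hidx : (centralizer ({w₀} : Set G)).index = 2 * k * (k - 1) := by
      refine Nat.eq_of_mul_eq_mul_left (by rw [(hclass w₀ hw₀).1]; omega :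
        0 < Nat.card (centralizer ({w₀} : Set G))) ?_
      rw [card_mul_index, (hclass w₀ hw₀).1, hG]; ring
    let P : Sylow p G := (hCp w₀ hw₀).toSylow (by rw [hidx]; exact hpG)
    rw [← (hclass w₀ hw₀).1]
    exact Nat.card_congr (Q.equiv P).toEquiv
  have hcent : ∀ x ∈ (Q : Subgroup G), x ≠ 1 → centralizer ({x} : Set G) = (Q : Subgroup G) := by
    intro x hxQ hx1
    have hxW := hqW x hx1 (hcard ▸ (Q : Subgroup G).orderOf_dvd_natCard hxQ)
    have hidx : (centralizer ({x} : Set G)).index = 2 * k * (k - 1) := by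
      refine Nat.eq_of_mul_eq_mul_left (by rw [(hclass x hxW).1]; omega :
        0 < Nat.card (centralizer ({x} : Set G))) ?_
      rw [card_mul_index, (hclass x hxW).1, hG]; ring
    let P : Sylow p G := (hCp x hxW).toSylow (by rw [hidx]; exact hpG)
    exact congrArg Sylow.toSubgroup
      (hti P Q x hx1 (mem_centralizer_singleton_iff.2 rfl) hxQ)
  -- the order of the normalizer
  set N := normalizer ((Q : Subgroup G) : Set G) with hNdef
  have hNcard : Nat.card N = q * (k - 1) := by
    let f : (G ⧸ N) × {x : (Q : Subgroup G) // x ≠ 1} → {w : G // Out K w ∧ ¬ IsConj w w⁻¹} := fun p' =>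
      ⟨p'.1.out * (p'.2.1 : G) * p'.1.out⁻¹, hqW _
        (fun e => p'.2.2 (Subtype.ext (conj_eq_one_iff.1 e))) (by
          rw [show orderOf (p'.1.out * (p'.2.1 : G) * p'.1.out⁻¹) = orderOf (p'.2.1 : G) from
            orderOf_injective (MulAut.conj p'.1.out).toMonoidHom (MulAut.conj p'.1.out).injective _]
          exact hcard ▸ (Q : Subgroup G).orderOf_dvd_natCard p'.2.1.2)⟩
    have hf : Function.Bijective f := by
      constructor
      · rintro ⟨a, ⟨⟨x, hx⟩, hx1⟩⟩ ⟨b, ⟨⟨z, hz⟩, hz1⟩⟩ e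
        have e' : a.out * x * a.out⁻¹ = b.out * z * b.out⁻¹ := congrArg Subtype.val e
        set c := b.out⁻¹ * a.out with hc
        have hcx : c * x * c⁻¹ = z := by
          calc c * x * c⁻¹ = b.out⁻¹ * (a.out * x * a.out⁻¹) * b.out := by rw [hc]; group
            _ = z := by rw [e']; group
        have hcN : c ∈ N := by
          have hPQ := hti (c • Q) Q z (fun q => hz1 (Subtype.ext q))
            (hcx ▸ Subgroup.smul_mem_pointwise_smul x (MulAut.conj c) _ hx) hz
          exact Sylow.smul_eq_iff_mem_normalizer.1 hPQ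
        have : b = a := by
          rw [← QuotientGroup.out_eq' a, ← QuotientGroup.out_eq' b]
          exact QuotientGroup.eq.2 hcN
        subst this
        have : x = z := mul_left_cancel (mul_right_cancel e')
        subst this; rfl
      · rintro ⟨w, hw⟩
        obtain ⟨R, hR⟩ := (IsPGroup.of_card (n := 1) (by
          rw [Nat.card_zpowers, hordeq w hw, hpord, pow_one]) : IsPGroup p (zpowers w)).exists_le_sylow
        obtain ⟨g, hg⟩ := MulAction.exists_smul_eq G R Q
        have hgw : g * w * g⁻¹ ∈ (Q : Subgroup G) :=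
          hg ▸ Subgroup.smul_mem_pointwise_smul _ (MulAut.conj g) _ (hR (mem_zpowers _))
        set a : G ⧸ N := QuotientGroup.mk g⁻¹
        have hae : g⁻¹⁻¹ * a.out ∈ N := QuotientGroup.eq.1 (QuotientGroup.out_eq' a).symm
        have hmem := (mem_normalizer_iff.1 (inv_mem hae) _).1 hgw
        refine ⟨(a, ⟨⟨_, hmem⟩, fun e => hw.1.1 ?_⟩), Subtype.ext ?_⟩
        · have := congrArg Subtype.val e
          simp only [OneMemClass.coe_one, conj_eq_one_iff] at this
          exact this
        · show a.out * _ * a.out⁻¹ = w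
          group
    have e := Nat.card_eq_of_bijective f hf
    rw [Nat.card_prod, hW, show Nat.card (G ⧸ N) = N.index from rfl] at e
    have hsub : Nat.card {x : (Q : Subgroup G) // x ≠ 1} = q - 1 := by
      haveI := Fintype.ofFinite (Q : Subgroup G)
      simp [Nat.card_eq_fintype_card, ← hcard]
    rw [hsub, show q - 1 = (k - 1) * 2 by omega] at e
    have e2 : N.index = 2 * k := Nat.eq_of_mul_eq_mul_right (by omega : 0 < (k - 1) * 2) (by rw [e]; ring)
    have e3 := N.card_mul_index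
    rw [e2, hG] at e3
    exact Nat.eq_of_mul_eq_mul_right (by omega : 0 < 2 * k) (by rw [e3]; ring)
  -- a complement
  have hQN : (Q : Subgroup G) ≤ N := le_normalizer
  set Q' := (Q : Subgroup G).subgroupOf N with hQ'
  have hQ'card : Nat.card Q' = q := by rw [← hcard]; exact Nat.card_congr (subgroupOfEquivOfLe hQN).toEquiv
  have hQ'idx : Q'.index = k - 1 := by
    have e := Q'.card_mul_index
    rw [hQ'card, hNcard] at e
    exact Nat.eq_of_mul_eq_mul_left (by omega : 0 < q) e
  haveI : Q'.Normal := normal_in_normalizer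
  obtain ⟨D', hD'⟩ := exists_right_complement'_of_coprime (N := Q') (by rw [hQ'card, hQ'idx]; exact hcop.2)
  set D := D'.map N.subtype with hD
  have hDcard : Nat.card D = k - 1 := by
    rw [hD, Nat.card_congr (equivMapOfInjective D' _ N.subtype_injective).toEquiv.symm]
    have e := hD'.card_mul
    rw [hQ'card, hNcard] at e
    exact Nat.eq_of_mul_eq_mul_left (by omega : 0 < q) e
  have hDodd : Odd (Nat.card D) := by
    rw [hDcard, ← Nat.not_even_iff_odd, even_iff_two_dvd]
    intro h2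
    have := (Nat.dvd_sub (hkdef ▸ h.two_dvd_k : 2 ∣ k) h2)
    rw [show k - (k - 1) = 1 by omega] at this
    omega
  have hDab : ∀ a ∈ D, ∀ b ∈ D, a * b = b * a := fun a ha b hb =>
    congrArg Subtype.val (comm_of_all_central (fun r hr hrD R => h.central_sylow hk hm hDodd hr
      (Or.inl (by rw [hDcard] at hrD; exact hkdef ▸ hrD)) hrD R) (⟨a, ha⟩ : D) ⟨b, hb⟩)
  obtain ⟨r, hr, hrk⟩ := Nat.exists_prime_and_dvd (by omega : k - 1 ≠ 1)
  haveI : Fact r.Prime := ⟨hr⟩
  obtain ⟨a, ha⟩ := exists_prime_orderOf_dvd_card' r (G := D) (hDcard ▸ hrk)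
  rw [← Subgroup.orderOf_coe] at ha
  obtain ⟨hao, har⟩ := h.prime_real hk hm hr (hkdef ▸ hrk) ha
  have hCD : centralizer ({(a : G)} : Set G) = D := by
    refine (eq_of_le_of_card_ge (fun b hb => mem_centralizer_singleton_iff.2 (hDab b hb a a.2)) ?_).symm
    rw [(hone a hao har).1, hDcard]
  obtain ⟨u, hu, hua⟩ := h.out_inverter hao har
  refine ⟨Q, D, hkdef ▸ hq ▸ hcard, hcent, hkdef ▸ hDcard, ?_, ?_, a, u, hao, har, hu, hCD, ?_, ?_⟩
  · exact inf_eq_bot_of_coprime (by rw [hcard, hDcard]; exact hcop.2)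
  · refine le_antisymm ?_ (sup_le hQN (map_subtype_le D'))
    intro g hg
    have htop : (⟨g, hg⟩ : N) ∈ Q' ⊔ D' := by rw [hD'.sup_eq_top]; exact mem_top _
    have hmap : (Q' ⊔ D').map N.subtype ≤ (Q : Subgroup G) ⊔ D := by
      rw [Subgroup.map_sup]
      refine sup_le_sup ?_ le_rfl
      rintro _ ⟨x, hx, rfl⟩; exact hx
    exact hmap (mem_map.2 ⟨_, htop, rfl⟩)
  · intro d hd
    exact h.out_inverts hao hu hua d (by rw [hCD]; exact hd)
  · have := (hone a hao har).2 u hu hua
    rwa [hCD] at this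

end Setup

end Cfsg.Agent.Screen.BSW
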